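import Mathlib

/-!
The order equations of a doubly transitive group with two-point stabiliser `A₅`.
-/

set_option autoImplicit false

namespace CfsgLib.Perm.TwoPointFive

/-- The degrees of the nonprincipal characters of the principal block for a Klein four Sylow. -/
structure KleinDeg (a b c ε : ℤ) : Prop where
  sgn : ε = 1 ∨ ε = -1
  posa : 1 ≤ a
  posb : 1 ≤ b
  posc : 1 ≤ c
  modA : 4 ∣ a - 1
  modB : 4 ∣ b - ε
  modC : 4 ∣ c + 1
  rel : 1 + a + ε * b - c = 0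
  pair : ε = 1 → a = b

theorem cofactor {r ρ : ℕ} {T : ℤ} (hr : 1 ≤ r) (hρ : 1 ≤ ρ)
    (heq : (r : ℤ) ^ 2 * T = (4 * (r : ℤ) - 1) * (2 * r - 1) * (ρ : ℤ) ^ 2) :
    ∃ g : ℕ, 1 ≤ g ∧ g ∣ ρ ∧ T = (4 * (ρ : ℤ) - g) * (2 * ρ - g) := by
  have hcop : IsCoprime (r : ℤ) ((4 * r - 1) * (2 * r - 1)) := ⟨-(8 * r - 6), 1, by ring⟩
  have h2 : (r : ℤ) ^ 2 ∣ (ρ : ℤ) ^ 2 := hcop.pow_left.dvd_of_dvd_mul_left ⟨T, heq.symm⟩
  obtain ⟨g, hg⟩ := Int.natCast_dvd_natCast.1 ((Int.pow_dvd_pow_iff two_ne_zero).1 h2)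
  refine ⟨g, ?_, ⟨r, by rw [hg, mul_comm]⟩, ?_⟩
  · rcases Nat.eq_zero_or_pos g with rfl | h
    · simp at hg; omega
    · exact h
  · refine mul_left_cancel₀ (pow_ne_zero 2 (show (r : ℤ) ≠ 0 by exact_mod_cast (by omega : r ≠ 0))) ?_
    rw [heq, hg]
    push_cast
    ring

theorem lt_of_two_pow_le {i B N : ℕ} (h : 2 ^ i ≤ B) (hB : B < 2 ^ N) : i < N :=
  (Nat.pow_lt_pow_iff_right (by norm_num)).1 (lt_of_le_of_lt h hB)

theorem square_cases : ∀ i < 11, ∀ g < 32, ∀ e ∈ [1, 10, 15, 16],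
    1 ≤ i → g ∣ 2 ^ i + 1 →
    ((e : ℕ) : ℤ) * ((2 ^ i : ℕ) : ℤ) ^ 2 + 15 =
      (4 * (((2 ^ i : ℕ) : ℤ) + 1) - (g : ℕ)) * (2 * (((2 ^ i : ℕ) : ℤ) + 1) - (g : ℕ)) →
    e = 10 ∧ i = 1 := by
  decide +kernel

theorem triangle_cases : ∀ i < 13, ∀ g < 63, ∀ e ∈ [1, 10, 15, 16],
    1 ≤ i → g ∣ 2 * 2 ^ i + 1 →
    ((e : ℕ) : ℤ) * (((2 ^ i : ℕ) : ℤ) * (2 * ((2 ^ i : ℕ) : ℤ) - 1)) + 15 =
      (4 * (2 * ((2 ^ i : ℕ) : ℤ) + 1) - (g : ℕ)) * (2 * (2 * ((2 ^ i : ℕ) : ℤ) + 1) - (g : ℕ)) →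
    e = 10 ∧ i = 1 := by
  decide +kernel

/-- `m = k²` with `ε = 1`. -/
theorem even_square {e i r : ℕ} (he : e = 1 ∨ e = 10 ∨ e = 15 ∨ e = 16) (hi : 1 ≤ i) (hr : 1 ≤ r)
    (heq : (r : ℤ) ^ 2 * (e * ((2 ^ i : ℕ) : ℤ) ^ 2 + 15) =
      (4 * (r : ℤ) - 1) * (2 * r - 1) * (((2 ^ i : ℕ) : ℤ) + 1) ^ 2) : e = 10 ∧ i = 1 := by
  obtain ⟨g, hg, hgρ, hT⟩ := cofactor (ρ := 2 ^ i + 1) hr (Nat.le_add_left 1 _)
    (by rw [Nat.cast_add, Nat.cast_one]; exact heq)
  have hK1 : 1 ≤ 2 ^ i := Nat.one_le_two_pow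
  set K := 2 ^ i with hK
  rw [Nat.cast_add, Nat.cast_one] at hT
  set ρ : ℤ := (K : ℤ) + 1 with hρ
  have hmain : ρ * (8 * ρ - 6 * g - e * ρ + 2 * e) = (e : ℤ) + 15 - g * g := by
    rw [hρ] at hT ⊢
    linear_combination -hT
  have hge : g ≤ e + 15 := by
    obtain ⟨c, hc⟩ : (g : ℤ) ∣ ρ := by
      rw [hρ]; exact_mod_cast Int.natCast_dvd_natCast.2 hgρ
    refine Nat.le_of_dvd (by omega)
      (Int.natCast_dvd_natCast.1 ⟨c * (8 * ρ - 6 * g - e * ρ + 2 * e) + g, ?_⟩)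
    push_cast
    linear_combination (8 * ρ - 6 * g - e * ρ + 2 * e) * hc - hmain
  have hbound : ρ ≤ 1000 := by
    rcases eq_or_ne ((e : ℤ) + 15 - g * g) 0 with h | h
    · rw [h] at hmain
      have hρ0 : ρ ≠ 0 := by omega
      have h2 : 8 * ρ - 6 * g - e * ρ + 2 * e = 0 := (mul_eq_zero.1 hmain).resolve_left hρ0
      rcases he with rfl | rfl | rfl | rfl <;> push_cast at h2 ⊢ <;> omega
    · have h1 : ρ ∣ (e : ℤ) + 15 - g * g := ⟨_, hmain.symm⟩
      have h2 := Int.natAbs_le_of_dvd_ne_zero h1 h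
      have h3 : g * g ≤ 31 * 31 := Nat.mul_le_mul (by omega) (by omega)
      have h4 : ((g : ℤ) * g) ≤ 961 := by exact_mod_cast h3
      omega
  have hi' : i < 11 := lt_of_two_pow_le (B := 1000) (by omega) (by norm_num)
  refine square_cases i hi' g (by omega) e (by rcases he with rfl | rfl | rfl | rfl <;> simp) hi hgρ ?_
  rw [← hK]
  exact hT

/-- `m = k(2k - 1)` with `ε = 1`. -/
theorem even_triangle {e i r : ℕ} (he : e = 1 ∨ e = 10 ∨ e = 15 ∨ e = 16) (hi : 1 ≤ i) (hr : 1 ≤ r)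
    (heq : (r : ℤ) ^ 2 * (e * (((2 ^ i : ℕ) : ℤ) * (2 * ((2 ^ i : ℕ) : ℤ) - 1)) + 15) =
      (4 * (r : ℤ) - 1) * (2 * r - 1) * (2 * ((2 ^ i : ℕ) : ℤ) + 1) ^ 2) : e = 10 ∧ i = 1 := by
  obtain ⟨g, hg, hgρ, hT⟩ := cofactor (ρ := 2 * 2 ^ i + 1) hr (Nat.le_add_left 1 _)
    (by rw [Nat.cast_add, Nat.cast_mul, Nat.cast_one, Nat.cast_ofNat]; exact heq)
  have hK1 : 1 ≤ 2 ^ i := Nat.one_le_two_pow
  set K := 2 ^ i with hK
  rw [Nat.cast_add, Nat.cast_mul, Nat.cast_one, Nat.cast_ofNat] at hT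
  set ρ : ℤ := 2 * (K : ℤ) + 1 with hρ
  have hmain : ρ * (16 * ρ - 12 * g - e * ρ + 3 * e) = 2 * (e : ℤ) + 30 - 2 * (g * g) := by
    rw [hρ] at hT ⊢
    linear_combination -2 * hT
  have hge : g ≤ 2 * e + 30 := by
    obtain ⟨c, hc⟩ : (g : ℤ) ∣ ρ := by
      rw [hρ]; exact_mod_cast Int.natCast_dvd_natCast.2 hgρ
    refine Nat.le_of_dvd (by omega)
      (Int.natCast_dvd_natCast.1 ⟨c * (16 * ρ - 12 * g - e * ρ + 3 * e) + 2 * g, ?_⟩)
    push_cast
    linear_combination (16 * ρ - 12 * g - e * ρ + 3 * e) * hc - hmain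
  have hbound : ρ ≤ 8000 := by
    rcases eq_or_ne (2 * (e : ℤ) + 30 - 2 * (g * g)) 0 with h | h
    · rw [h] at hmain
      have hρ0 : ρ ≠ 0 := by omega
      have h2 : 16 * ρ - 12 * g - e * ρ + 3 * e = 0 := (mul_eq_zero.1 hmain).resolve_left hρ0
      rcases he with rfl | rfl | rfl | rfl <;> push_cast at h h2 ⊢ <;>
        first
        | omega
        | (exfalso
           have h5 : g * g = 31 := by exact_mod_cast (by linarith : (g : ℤ) * g = 31)
           have h6 : g ≤ 31 := h5 ▸ Nat.le_mul_self g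
           interval_cases g <;> omega)
    · have h1 : ρ ∣ 2 * (e : ℤ) + 30 - 2 * (g * g) := ⟨_, hmain.symm⟩
      have h2 := Int.natAbs_le_of_dvd_ne_zero h1 h
      have h3 : g * g ≤ 62 * 62 := Nat.mul_le_mul (by omega) (by omega)
      have h4 : ((g : ℤ) * g) ≤ 3844 := by exact_mod_cast h3
      omega
  have hi' : i < 13 := lt_of_two_pow_le (B := 4000) (by omega) (by norm_num)
  refine triangle_cases i hi' g (by omega) e (by rcases he with rfl | rfl | rfl | rfl <;> simp) hi hgρ ?_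
  rw [← hK]
  exact hT

/-- The discriminant of the quadratic in `c` for given `b`. -/
def disc (P Q b : ℕ) : ℕ :=
  ((Q * (b - 1) - P * b) * (b - 1)) ^ 2 + 4 * (Q * (b - 1) - P * b) * Q * b * (b - 1)

/-- No root below the bound. -/
abbrev NoRoot (P Q B : ℕ) : Prop :=
  ∀ b < B, b % 4 = 3 → P * b < Q * (b - 1) → Nat.sqrt (disc P Q b) * Nat.sqrt (disc P Q b) ≠ disc P Q b

theorem no_root_ordered {P Q B : ℕ} (hB : P * B ^ 2 < Q * (B - 1) ^ 2) (hdec : NoRoot P Q B) {b c : ℤ}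
    (hb : 3 ≤ b) (hbc : b ≤ c) (hmod : b % 4 = 3)
    (h : (Q : ℤ) * ((b + c) * (b - 1) * (c - 1)) = P * ((b + c - 1) * b * c)) : False := by
  have hQ : (0 : ℤ) ≤ Q := Int.natCast_nonneg _
  have hkey : ((Q : ℤ) * (b - 1) - P * b) * (c * (b + c - 1)) = Q * b * (b - 1) := by
    linear_combination h
  have hQ0 : (0 : ℤ) < Q := by
    rcases Nat.eq_zero_or_pos Q with h0 | h0
    · rw [h0] at hB; simp at hB
    · exact_mod_cast h0
  have hN : 0 < (Q : ℤ) * (b - 1) - P * b := by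
    have hr : 0 < (Q : ℤ) * b * (b - 1) := mul_pos (mul_pos hQ0 (by omega)) (by omega)
    exact pos_of_mul_pos_left (hkey ▸ hr) (mul_nonneg (by omega) (by omega))
  obtain ⟨n, rfl⟩ : ∃ n : ℕ, b = n := ⟨b.toNat, by omega⟩
  have hn1 : (((n - 1 : ℕ)) : ℤ) = (n : ℤ) - 1 := by omega
  have hn : n < B := by
    by_contra hcon
    have h1 : (B : ℤ) ≤ n := by omega
    have hB1 : 1 ≤ B := by
      rcases Nat.eq_zero_or_pos B with h0 | h0
      · rw [h0] at hB; simp at hB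
      · exact h0
    have hB' : (P : ℤ) * B ^ 2 < Q * ((B : ℤ) - 1) ^ 2 := by
      have := (Int.ofNat_lt.2 hB)
      push_cast [Nat.cast_sub hB1] at this
      exact this
    have h2 : 0 ≤ c * ((n : ℤ) + c - 1) - n * n := by nlinarith
    have h3 : (Q : ℤ) * ((n : ℤ) - 1) ^ 2 ≤ P * n ^ 2 := by
      have e1 : (P * (n : ℤ) ^ 2 - Q * ((n : ℤ) - 1) ^ 2) * (((n : ℤ) + c - 1) * c) =
          Q * ((n : ℤ) - 1) * (c * ((n : ℤ) + c - 1) - n * n) := by linear_combination -(n : ℤ) * h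
      have e2 : 0 ≤ (P * (n : ℤ) ^ 2 - Q * ((n : ℤ) - 1) ^ 2) * (((n : ℤ) + c - 1) * c) :=
        e1 ▸ mul_nonneg (mul_nonneg hQ (by omega)) h2
      have e3 : 0 < ((n : ℤ) + c - 1) * c := mul_pos (by omega) (by omega)
      nlinarith [nonneg_of_mul_nonneg_left e2 e3]
    have h4 : ((n : ℤ) * ((B : ℤ) - 1)) ^ 2 ≤ (((n : ℤ) - 1) * B) ^ 2 := by
      apply pow_le_pow_left₀ (mul_nonneg (by omega) (by omega))
      nlinarith
    nlinarith [mul_le_mul_of_nonneg_left h4 hQ, mul_le_mul_of_nonneg_left h3 (sq_nonneg (B : ℤ))]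
  have hlt : P * n < Q * (n - 1) := by
    zify [hn1]
    linarith
  refine hdec n hn (by omega) hlt ?_
  have hd : disc P Q n =
      (2 * (Q * (n - 1) - P * n) * c.toNat + (Q * (n - 1) - P * n) * (n - 1)) ^ 2 := by
    have hsub : (((Q * (n - 1) - P * n : ℕ)) : ℤ) = (Q : ℤ) * ((n : ℤ) - 1) - P * n := by
      rw [Nat.cast_sub hlt.le, Nat.cast_mul, Nat.cast_mul, hn1]
    zify [disc]
    rw [hsub, hn1, Int.toNat_of_nonneg (by omega : (0 : ℤ) ≤ c)]
    linear_combination -4 * ((Q : ℤ) * ((n : ℤ) - 1) - P * n) * hkey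
  rw [hd, Nat.sqrt_eq', sq]

theorem no_root {P Q B : ℕ} (hB : P * B ^ 2 < Q * (B - 1) ^ 2) (hdec : NoRoot P Q B) {b c : ℤ}
    (hb : 3 ≤ b) (hc : 3 ≤ c) (hmodb : b % 4 = 3) (hmodc : c % 4 = 3)
    (h : (Q : ℤ) * ((b + c) * (b - 1) * (c - 1)) = P * ((b + c - 1) * b * c)) : False := by
  rcases le_total b c with h1 | h1
  · exact no_root_ordered hB hdec hb h1 hmodb h
  · exact no_root_ordered hB hdec hc h1 hmodc (by linear_combination h)

/-- The ratio lies below one. -/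
theorem ratio_lt {b c : ℤ} (hb : 3 ≤ b) (hc : 3 ≤ c) :
    (b + c) * (b - 1) * (c - 1) < (b + c - 1) * b * c := by
  nlinarith

theorem ratio_ge {b c : ℤ} (hb : 3 ≤ b) (hc : 3 ≤ c) :
    8 * ((b + c - 1) * b * c) ≤ 15 * ((b + c) * (b - 1) * (c - 1)) := by
  nlinarith [mul_nonneg (sub_nonneg.2 hb) (sub_nonneg.2 hc), mul_nonneg (mul_nonneg (sub_nonneg.2 hb) (sub_nonneg.2 hc)) (sub_nonneg.2 hb), mul_nonneg (mul_nonneg (sub_nonneg.2 hb) (sub_nonneg.2 hc)) (sub_nonneg.2 hc), sq_nonneg (b - c)]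

theorem ratio_gap_fifteen {b c : ℤ} (hb : 3 ≤ b) (hc : 3 ≤ c) (hmb : b % 4 = 3) (hmc : c % 4 = 3)
    (h : 8 * ((b + c - 1) * b * c) < 15 * ((b + c) * (b - 1) * (c - 1))) :
    40 * ((b + c - 1) * b * c) ≤ 63 * ((b + c) * (b - 1) * (c - 1)) := by
  rcases eq_or_lt_of_le hb with rfl | hb'
  · rcases eq_or_lt_of_le hc with rfl | hc'
    · norm_num at h
    · nlinarith [mul_nonneg (show (0 : ℤ) ≤ c - 7 by omega) (show (0 : ℤ) ≤ c by omega)]
  · rcases eq_or_lt_of_le hc with rfl | hc'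
    · nlinarith [mul_nonneg (show (0 : ℤ) ≤ b - 7 by omega) (show (0 : ℤ) ≤ b by omega)]
    · obtain ⟨u, hu, rfl⟩ : ∃ u, 0 ≤ u ∧ b = u + 7 := ⟨b - 7, by omega, by ring⟩
      obtain ⟨v, hv, rfl⟩ : ∃ v, 0 ≤ v ∧ c = v + 7 := ⟨c - 7, by omega, by ring⟩
      nlinarith [mul_nonneg hu hv, mul_nonneg (mul_nonneg hu hv) hu, mul_nonneg (mul_nonneg hu hv) hv, mul_nonneg hu hu, mul_nonneg hv hv]

theorem ratio_gap_ten {b c : ℤ} (hb : 3 ≤ b) (hc : 3 ≤ c) (hmb : b % 4 = 3) (hmc : c % 4 = 3)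
    (h : 4 * ((b + c - 1) * b * c) < 5 * ((b + c) * (b - 1) * (c - 1))) :
    33 * ((b + c - 1) * b * c) ≤ 40 * ((b + c) * (b - 1) * (c - 1)) := by
  rcases eq_or_lt_of_le hb with rfl | hb'
  · exfalso; nlinarith [mul_nonneg (show (0 : ℤ) ≤ c - 3 by omega) (show (0 : ℤ) ≤ c by omega)]
  rcases eq_or_lt_of_le hc with rfl | hc'
  · exfalso; nlinarith [mul_nonneg (show (0 : ℤ) ≤ b - 3 by omega) (show (0 : ℤ) ≤ b by omega)]
  rcases eq_or_lt_of_le (show 7 ≤ b by omega) with rfl | hb7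
  · rcases eq_or_lt_of_le (show 7 ≤ c by omega) with rfl | hc7
    · norm_num at h
    · nlinarith [mul_nonneg (show (0 : ℤ) ≤ c - 11 by omega) (show (0 : ℤ) ≤ c by omega)]
  · rcases eq_or_lt_of_le (show 7 ≤ c by omega) with rfl | hc7
    · nlinarith [mul_nonneg (show (0 : ℤ) ≤ b - 11 by omega) (show (0 : ℤ) ≤ b by omega)]
    · obtain ⟨u, hu, rfl⟩ : ∃ u, 0 ≤ u ∧ b = u + 11 := ⟨b - 11, by omega, by ring⟩
      obtain ⟨v, hv, rfl⟩ : ∃ v, 0 ≤ v ∧ c = v + 11 := ⟨c - 11, by omega, by ring⟩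
      nlinarith [mul_nonneg hu hv, mul_nonneg (mul_nonneg hu hv) hu, mul_nonneg (mul_nonneg hu hv) hv, mul_nonneg hu hu, mul_nonneg hv hv]

theorem root_10_8 : NoRoot 648 655 189 := by unfold NoRoot disc; decide +kernel
theorem root_10_16 : NoRoot 2312 2575 24 := by unfold NoRoot disc; decide +kernel
theorem root_10_32 : NoRoot 8712 10255 16 := by unfold NoRoot disc; decide +kernel
theorem root_15_2 : NoRoot 72 75 52 := by unfold NoRoot disc; decide +kernel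
theorem root_15_4 : NoRoot 200 255 12 := by unfold NoRoot disc; decide +kernel
theorem root_15_8 : NoRoot 648 975 8 := by unfold NoRoot disc; decide +kernel
theorem root_16_2 : NoRoot 72 79 24 := by unfold NoRoot disc; decide +kernel
theorem root_16_4 : NoRoot 200 271 12 := by unfold NoRoot disc; decide +kernel
theorem root_16_8 : NoRoot 648 1039 8 := by unfold NoRoot disc; decide +kernel
theorem root_16_16 : NoRoot 2312 4111 8 := by unfold NoRoot disc; decide +kernel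

theorem no_square_neg {e k : ℕ} {b c : ℤ} (he : e = 1 ∨ e = 10 ∨ e = 15 ∨ e = 16) (hk : 2 ≤ k)
    (hi : ∃ i : ℕ, k = 2 ^ i) (hb : 3 ≤ b) (hc : 3 ≤ c) (hmb : b % 4 = 3) (hmc : c % 4 = 3)
    (h : ((e : ℤ) * (k : ℤ) ^ 2 + 15) * ((b + c) * (b - 1) * (c - 1)) =
      8 * ((k : ℤ) + 1) ^ 2 * ((b + c - 1) * b * c)) : False := by
  set num := (b + c) * (b - 1) * (c - 1) with hnum
  set den := (b + c - 1) * b * c with hden
  have hden0 : 0 < den := by
    rw [hden]; exact mul_pos (mul_pos (by omega) (by omega)) (by omega)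
  have hlt : num < den := ratio_lt hb hc
  have hge : 8 * den ≤ 15 * num := ratio_ge hb hc
  have hT : (0 : ℤ) < (e : ℤ) * (k : ℤ) ^ 2 + 15 := by positivity
  have hk2 : (2 : ℤ) ≤ k := by exact_mod_cast hk
  have h1 : 8 * ((k : ℤ) + 1) ^ 2 < (e : ℤ) * (k : ℤ) ^ 2 + 15 := by nlinarith
  have hk64 : k < 64 := by
    by_contra hcon
    have h64 : (64 : ℤ) ≤ k := by exact_mod_cast (by omega : 64 ≤ k)
    rcases he with rfl | rfl | rfl | rfl <;> push_cast at h h1 hT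
    · nlinarith
    · have hgap := ratio_gap_ten hb hc hmb hmc (by rw [← hnum, ← hden]; nlinarith)
      rw [← hnum, ← hden] at hgap
      have hq : (0 : ℤ) < (10 * (k : ℤ) ^ 2 + 15) * 33 - 40 * (8 * ((k : ℤ) + 1) ^ 2) := by nlinarith
      nlinarith [mul_pos hq hden0, mul_le_mul_of_nonneg_left hgap hT.le]
    · have hgap := ratio_gap_fifteen hb hc hmb hmc (by rw [← hnum, ← hden]; nlinarith)
      rw [← hnum, ← hden] at hgap
      have hq : (0 : ℤ) < (15 * (k : ℤ) ^ 2 + 15) * 40 - 63 * (8 * ((k : ℤ) + 1) ^ 2) := by nlinarith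
      nlinarith [mul_pos hq hden0, mul_le_mul_of_nonneg_left hgap hT.le]
    · have hq : (0 : ℤ) < (16 * (k : ℤ) ^ 2 + 15) * 8 - 15 * (8 * ((k : ℤ) + 1) ^ 2) := by nlinarith
      nlinarith [mul_pos hq hden0, mul_le_mul_of_nonneg_left hge hT.le]
  obtain ⟨i, rfl⟩ := hi
  have hi6 : i < 6 := lt_of_two_pow_le (B := 63) (by omega) (by norm_num)
  have k10_8 : (655 : ℤ) * num ≠ 648 * den := fun e' => by
    have := @no_root 648 655 189 (by norm_num) root_10_8 b c hb hc hmb hmc (by push_cast; exact e')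
    exact this
  have k10_16 : (2575 : ℤ) * num ≠ 2312 * den := fun e' => by
    have := @no_root 2312 2575 24 (by norm_num) root_10_16 b c hb hc hmb hmc (by push_cast; exact e')
    exact this
  have k10_32 : (10255 : ℤ) * num ≠ 8712 * den := fun e' => by
    have := @no_root 8712 10255 16 (by norm_num) root_10_32 b c hb hc hmb hmc (by push_cast; exact e')
    exact this
  have k15_2 : (75 : ℤ) * num ≠ 72 * den := fun e' => by
    have := @no_root 72 75 52 (by norm_num) root_15_2 b c hb hc hmb hmc (by push_cast; exact e')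
    exact this
  have k15_4 : (255 : ℤ) * num ≠ 200 * den := fun e' => by
    have := @no_root 200 255 12 (by norm_num) root_15_4 b c hb hc hmb hmc (by push_cast; exact e')
    exact this
  have k15_8 : (975 : ℤ) * num ≠ 648 * den := fun e' => by
    have := @no_root 648 975 8 (by norm_num) root_15_8 b c hb hc hmb hmc (by push_cast; exact e')
    exact this
  have k16_2 : (79 : ℤ) * num ≠ 72 * den := fun e' => by
    have := @no_root 72 79 24 (by norm_num) root_16_2 b c hb hc hmb hmc (by push_cast; exact e')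
    exact this
  have k16_4 : (271 : ℤ) * num ≠ 200 * den := fun e' => by
    have := @no_root 200 271 12 (by norm_num) root_16_4 b c hb hc hmb hmc (by push_cast; exact e')
    exact this
  have k16_8 : (1039 : ℤ) * num ≠ 648 * den := fun e' => by
    have := @no_root 648 1039 8 (by norm_num) root_16_8 b c hb hc hmb hmc (by push_cast; exact e')
    exact this
  have k16_16 : (4111 : ℤ) * num ≠ 2312 * den := fun e' => by
    have := @no_root 2312 4111 8 (by norm_num) root_16_16 b c hb hc hmb hmc (by push_cast; exact e')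
    exact this
  have hgap : 8 * den < 15 * num → 40 * den ≤ 63 * num := ratio_gap_fifteen hb hc hmb hmc
  interval_cases i <;> rcases he with rfl | rfl | rfl | rfl <;> (try norm_num at h1) <;>
    (try norm_num at hk) <;> norm_num at h <;>
    first
    | linarith
    | exact k10_8 h
    | exact k10_16 h
    | exact k10_32 h
    | exact k15_2 h
    | exact k15_4 h
    | exact k15_8 h
    | exact k16_2 h
    | exact k16_4 h
    | exact k16_8 h
    | exact k16_16 h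
    | linarith [hgap (by linarith)]

/-- The even-degree equation. -/
theorem even_arith {a b c ε : ℤ} (D : KleinDeg a b c ε) {e k m : ℕ}
    (he : e = 1 ∨ e = 10 ∨ e = 15 ∨ e = 16) (hk : 2 ≤ k)
    (hm : m = k ∨ ((∃ i : ℕ, k = 2 ^ i) ∧ (m = k * k ∨ m = k * (2 * k - 1))))
    (h : ((e * m + 15 : ℕ) : ℤ) * ((a + 1) * (b + ε) * (c - 1)) * ((k : ℤ) - 1) ^ 2 =
      8 * ((m : ℤ) - 1) ^ 2 * (a * b * c)) :
    e = 10 ∧ k = 2 ∧ (m = 4 ∨ m = 6) := by
  have hk1 : (k : ℤ) - 1 ≠ 0 := by omega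
  obtain ⟨ρ, hρ, hcase⟩ : ∃ ρ : ℕ, (m : ℤ) - 1 = ρ * ((k : ℤ) - 1) ∧
      ((ρ = 1 ∧ m = k) ∨ (ρ = k + 1 ∧ m = k * k ∧ ∃ i : ℕ, k = 2 ^ i) ∨
        (ρ = 2 * k + 1 ∧ m = k * (2 * k - 1) ∧ ∃ i : ℕ, k = 2 ^ i)) := by
    rcases hm with rfl | ⟨hi, rfl | rfl⟩
    · exact ⟨1, by ring, Or.inl ⟨rfl, rfl⟩⟩
    · exact ⟨k + 1, by push_cast; ring, Or.inr (Or.inl ⟨rfl, rfl, hi⟩)⟩
    · refine ⟨2 * k + 1, ?_, Or.inr (Or.inr ⟨rfl, rfl, hi⟩)⟩
      rw [Nat.cast_mul, Nat.cast_sub (by omega : 1 ≤ 2 * k)]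
      push_cast; ring
  rw [hρ] at h
  have h' : ((e * m + 15 : ℕ) : ℤ) * ((a + 1) * (b + ε) * (c - 1)) =
      8 * (ρ : ℤ) ^ 2 * (a * b * c) :=
    mul_right_cancel₀ (pow_ne_zero 2 hk1) (h.trans (by ring))
  rcases D.sgn with rfl | rfl
  · -- `ε = 1`
    have hab := D.pair rfl
    subst hab
    have hc : c = 2 * a + 1 := by linarith [D.rel]
    subst hc
    obtain ⟨j, hj⟩ := D.modA
    have ha := D.posa
    obtain ⟨r, hr⟩ : ∃ r : ℕ, (r : ℤ) = 2 * j + 1 := ⟨(2 * j + 1).toNat, Int.toNat_of_nonneg (by omega)⟩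
    have hr1 : 1 ≤ r := by omega
    have ha2 : a = 2 * (r : ℤ) - 1 := by omega
    subst ha2
    have h2 : (r : ℤ) ^ 2 * ((e * m + 15 : ℕ) : ℤ) =
        (4 * (r : ℤ) - 1) * (2 * r - 1) * (ρ : ℤ) ^ 2 := by
      have ha0 : 8 * (2 * (r : ℤ) - 1) ≠ 0 := by omega
      exact mul_left_cancel₀ ha0 (by linear_combination h')
    rcases hcase with ⟨rfl, rfl⟩ | ⟨rfl, rfl, i, rfl⟩ | ⟨rfl, rfl, i, rfl⟩
    · exfalso
      obtain ⟨g, hg, hgρ, hT⟩ := cofactor (ρ := 1) hr1 le_rfl h2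
      obtain rfl : g = 1 := Nat.dvd_one.1 hgρ
      push_cast at hT
      have : 0 ≤ (e : ℤ) * m := by positivity
      linarith
    · have hi : 1 ≤ i := by
        rcases Nat.eq_zero_or_pos i with rfl | h0
        · norm_num at hk
        · exact h0
      obtain ⟨rfl, rfl⟩ := even_square he hi hr1 (by push_cast at h2 ⊢; linear_combination h2)
      exact ⟨rfl, rfl, Or.inl rfl⟩
    · have hi : 1 ≤ i := by
        rcases Nat.eq_zero_or_pos i with rfl | h0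
        · norm_num at hk
        · exact h0
      obtain ⟨rfl, rfl⟩ := even_triangle he hi hr1 (by
        rw [Nat.cast_add, Nat.cast_mul, Nat.cast_mul, Nat.cast_sub (by omega : 1 ≤ 2 * 2 ^ i)] at h2
        push_cast at h2 ⊢
        linear_combination h2)
      exact ⟨rfl, rfl, Or.inr rfl⟩
  · -- `ε = -1`
    exfalso
    have hA : a = b + c - 1 := by linarith [D.rel]
    subst hA
    have hb3 : 3 ≤ b ∧ b % 4 = 3 := by have := D.modB; have := D.posb; omega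
    have hc3 : 3 ≤ c ∧ c % 4 = 3 := by have := D.modC; have := D.posc; omega
    have h'' : ((e * m + 15 : ℕ) : ℤ) * ((b + c) * (b - 1) * (c - 1)) =
        8 * (ρ : ℤ) ^ 2 * ((b + c - 1) * b * c) := by linear_combination h'
    have hlt := ratio_lt hb3.1 hc3.1
    have hge := ratio_ge hb3.1 hc3.1
    have hden0 : 0 < (b + c - 1) * b * c :=
      mul_pos (mul_pos (by omega) (by omega)) (by omega)
    rcases hcase with ⟨rfl, rfl⟩ | ⟨rfl, rfl, hi⟩ | ⟨rfl, rfl, hi⟩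
    · have hT : (17 : ℤ) ≤ ((e * m + 15 : ℕ) : ℤ) := by
        have : 1 * 2 ≤ e * m := Nat.mul_le_mul (by omega) hk
        omega
      have hnum0 : 0 ≤ (b + c) * (b - 1) * (c - 1) :=
        mul_nonneg (mul_nonneg (by omega) (by omega)) (by omega)
      push_cast at h'' hT
      nlinarith [mul_le_mul_of_nonneg_right hT hnum0]
    · refine no_square_neg he hk hi hb3.1 hc3.1 hb3.2 hc3.2 ?_
      push_cast at h''
      linear_combination h''
    · have hT : ((e * (k * (2 * k - 1)) + 15 : ℕ) : ℤ) < 8 * ((2 * k + 1 : ℕ) : ℤ) ^ 2 := by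
        rw [Nat.cast_add, Nat.cast_mul, Nat.cast_mul, Nat.cast_sub (by omega : 1 ≤ 2 * k)]
        push_cast
        have : (e : ℤ) ≤ 16 := by rcases he with rfl | rfl | rfl | rfl <;> norm_num
        nlinarith [mul_le_mul_of_nonneg_right this (show (0 : ℤ) ≤ (k : ℤ) * (2 * k - 1) by nlinarith)]
      nlinarith

/-- The odd-degree Klein equation. -/
theorem klein_odd_arith {a b c ε : ℤ} (D : KleinDeg a b c ε) {k : ℕ} (hk : 3 ≤ k)
    (h : (4 * (k : ℤ) ^ 2 - 1) * ((a + 1) * (b + ε) * (c - 1)) = 8 * (k : ℤ) ^ 2 * (a * b * c)) :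
    False := by
  rcases D.sgn with rfl | rfl
  · have hab := D.pair rfl
    subst hab
    have hc : c = 2 * a + 1 := by linarith [D.rel]
    subst hc
    obtain ⟨j, hj⟩ := D.modA
    have ha := D.posa
    obtain ⟨r, hr⟩ : ∃ r : ℕ, (r : ℤ) = 2 * j + 1 := ⟨(2 * j + 1).toNat, Int.toNat_of_nonneg (by omega)⟩
    have hr1 : 1 ≤ r := by omega
    have ha2 : a = 2 * (r : ℤ) - 1 := by omega
    subst ha2
    have h2 : (r : ℤ) ^ 2 * (4 * (k : ℤ) ^ 2 - 1) = (4 * (r : ℤ) - 1) * (2 * r - 1) * (k : ℤ) ^ 2 := by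
      have ha0 : 8 * (2 * (r : ℤ) - 1) ≠ 0 := by omega
      exact mul_left_cancel₀ ha0 (by linear_combination h)
    obtain ⟨g, hg, ⟨w, rfl⟩, hT⟩ := cofactor hr1 (by omega) h2
    push_cast at hT
    have hg1 : (g : ℤ) ∣ 1 := ⟨g * (-4 * (w : ℤ) ^ 2 + 6 * w - 1), by linear_combination -hT⟩
    obtain rfl : g = 1 := Nat.dvd_one.1 (Int.natCast_dvd_natCast.1 (by simpa using hg1))
    push_cast at hT
    have : (3 : ℤ) ≤ w := by omega
    nlinarith
  · have hA : a = b + c - 1 := by linarith [D.rel]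
    subst hA
    have hb3 : 3 ≤ b := by have := D.modB; have := D.posb; omega
    have hc3 : 3 ≤ c := by have := D.modC; have := D.posc; omega
    have hlt := ratio_lt hb3 hc3
    have hden0 : 0 < (b + c - 1) * b * c := mul_pos (mul_pos (by omega) (by omega)) (by omega)
    have hk9 : (9 : ℤ) ≤ (k : ℤ) ^ 2 := by
      have : (3 : ℤ) ≤ k := by exact_mod_cast hk
      nlinarith
    nlinarith

/-- The odd-degree dihedral equation. -/
theorem dihedral_odd_arith {x δ : ℤ} (hδ : δ = 1 ∨ δ = -1) (hx : 1 ≤ x) (hne : x ≠ δ)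
    (h4 : 4 ∣ x - δ) {m : ℕ} (hm : 3 ≤ m)
    (h : 5 * (2 * (m : ℤ) + 1) * (2 * m + 3) * (x - δ) ^ 2 =
      24 * x * (x + δ) * ((m : ℤ) + 1) ^ 2) : m = 3 := by
  obtain ⟨D, hD⟩ : ∃ D : ℕ, (D : ℤ) = x - δ :=
    ⟨(x - δ).toNat, Int.toNat_of_nonneg (by rcases hδ with rfl | rfl <;> omega)⟩
  have hD1 : 1 ≤ D := by omega
  set M : ℤ := (m : ℤ) + 1 with hM
  have hx' : x = D + δ := by omega
  rw [show 2 * (m : ℤ) + 1 = 2 * M - 1 by rw [hM]; ring,
    show 2 * (m : ℤ) + 3 = 2 * M + 1 by rw [hM]; ring, ← hD, hx'] at h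
  have hM2 : 4 ≤ M := by omega
  rcases hδ with rfl | rfl
  · exfalso
    have h1 : (0 : ℤ) ≤ (M * D) ^ 2 := sq_nonneg _
    have h2 : (0 : ℤ) < 72 * M ^ 2 * D := by positivity
    nlinarith [sq_nonneg M, sq_nonneg (D : ℤ)]
  · have key : M ^ 2 * (72 * D - 4 * D ^ 2 - 48) = 5 * (D : ℤ) ^ 2 := by linear_combination h
    have hD17 : D ≤ 17 := by
      by_contra hc
      have h18 : (18 : ℤ) ≤ D := by exact_mod_cast (by omega : 18 ≤ D)
      nlinarith [mul_le_mul_of_nonneg_right h18 (by omega : (0 : ℤ) ≤ D), sq_nonneg M, sq_nonneg (D : ℤ)]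
    have hb : M ≤ 60 := by interval_cases D <;> norm_num at key <;> nlinarith
    have hm' : m < 60 := by omega
    rw [hM] at key
    interval_cases D <;> norm_num at key <;>
      first
      | nlinarith
      | (interval_cases m <;> first | rfl | (exfalso; norm_num at key))

end CfsgLib.Perm.TwoPointFive
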