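import Mathlib.GroupTheory.GroupAction.MultipleTransitivity
import Mathlib.GroupTheory.SpecificGroups.Alternating
import Mathlib.GroupTheory.Subgroup.Centralizer

/-!
Doubly transitive groups with two-point stabilisers isomorphic to the alternating group of degree
five: the hypothesis, the base data and the notions used for the induced groups on fixed points.
-/

set_option autoImplicit false

namespace CfsgLib.Perm.TwoPointFive

open MulAction

/-- Two point transitive, faithful, pair stabilisers `A₅`, no regular normal subgroup. -/
structure Hyp (G Ω : Type*) [Group G] [MulAction G Ω] : Prop where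
  faith : FaithfulSMul G Ω
  two : IsMultiplyPretransitive G Ω 2
  stab : ∀ c d : Ω, c ≠ d →
    Nonempty (↥(stabilizer G c ⊓ stabilizer G d) ≃* ↥(alternatingGroup (Fin 5)))
  noreg : ∀ N : Subgroup G, N.Normal → IsPretransitive ↥N Ω →
    (∀ x : Ω, stabilizer ↥N x = ⊥) → False

/-- Two points and two commuting involutions fixing both. -/
structure Base (G Ω : Type*) [Group G] [MulAction G Ω] where
  a : Ω
  b : Ω
  t : G
  v : G
  hab : a ≠ b
  ht : orderOf t = 2
  hv : orderOf v = 2
  hne : t ≠ v
  hcomm : Commute t v
  hta : t • a = a
  htb : t • b = b
  hva : v • a = a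
  hvb : v • b = b

/-- The group induced on the fixed points of an involution when the kernel has order two: pair
stabilisers of order two and all elements exchanging two points of order at most two. -/
structure HalfSharp (X F : Type*) [Group X] [MulAction X F] : Prop where
  faith : FaithfulSMul X F
  two : IsMultiplyPretransitive X F 2
  pair : ∀ c d : F, c ≠ d → Nat.card ↥(stabilizer X c ⊓ stabilizer X d) = 2
  swap : ∀ c d : F, c ≠ d → ∀ g : X, g • c = d → g • d = c → g * g = 1

/-- Sharply two-transitive. -/
structure Sharp (X F : Type*) [Group X] [MulAction X F] : Prop where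
  faith : FaithfulSMul X F
  two : IsMultiplyPretransitive X F 2
  pair : ∀ c d : F, c ≠ d → ∀ g : X, g • c = c → g • d = d → g = 1

end CfsgLib.Perm.TwoPointFive
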