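import Cfsg.Agent.Lib.Perm.TwoPointFive.Defs
import Cfsg.Agent.Lib.Perm.Basic
import Cfsg.Agent.Lib.Recog.OrderM11Unique
import Cfsg.Agent.Lib.Golay.Mathieu
import Mathlib.GroupTheory.Sylow

/-!
The three final degrees: seven (alternating group), twelve (Mathieu group) and twenty-six (absent).
-/

set_option autoImplicit false

namespace CfsgLib.Perm.TwoPointFive

open MulAction

universe u w

section Tools

variable {A : Type*} [Group A] [Finite A]

theorem card_sup_disj {K N : Subgroup A} (hn : N ≤ Subgroup.normalizer (K : Set A))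
    (hd : K ⊓ N = ⊥) : Nat.card ↥(K ⊔ N) = Nat.card K * Nat.card N := by
  rw [← Nat.card_prod]
  refine (Nat.card_eq_of_bijective (fun p : K × N => (⟨(p.1 : A) * p.2,
    Subgroup.mul_mem_sup p.1.2 p.2.2⟩ : ↥(K ⊔ N))) ⟨fun p q h => ?_, fun z => ?_⟩).symm
  · exact Subgroup.mul_injective_of_disjoint (disjoint_iff.mpr hd) (congr_arg Subtype.val h)
  · have hz : (z : A) ∈ ((K ⊔ N : Subgroup A) : Set A) := z.2
    rw [Subgroup.coe_mul_of_right_le_normalizer_left K N hn] at hz
    obtain ⟨k, hk, n, hn', he⟩ := hz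
    exact ⟨(⟨k, hk⟩, ⟨n, hn'⟩), Subtype.ext he⟩

/-- A subgroup normalised by a copy of the alternating group meets it trivially or contains it. -/
theorem inf_bot_or_le {H S : Subgroup A} (hs : IsSimpleGroup H)
    (hn : H ≤ Subgroup.normalizer (S : Set A)) : S ⊓ H = ⊥ ∨ H ≤ S := by
  have hN : (S.subgroupOf H).Normal :=
    ⟨fun x hx g => Subgroup.mem_subgroupOf.2
      ((Subgroup.mem_normalizer_iff.1 (hn g.2) _).1 (Subgroup.mem_subgroupOf.1 hx))⟩
  rcases hN.eq_bot_or_eq_top with e | e
  · exact Or.inl (by rw [inf_comm]; exact (Subgroup.subgroupOf_eq_bot.1 e).symm.eq_bot)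
  · exact Or.inr (Subgroup.subgroupOf_eq_top.1 e)

theorem a5_centralizer : ∀ x : ↥(alternatingGroup (Fin 5)), x * x = 1 → x ≠ 1 →
    (Finset.univ.filter fun y => y * x = x * y).card = 4 := by
  decide +kernel

theorem no_order_1500 (hA : Nat.card A = 1500) (H : Subgroup A)
    (e : ↥H ≃* ↥(alternatingGroup (Fin 5))) (t v : A) (ht : orderOf t = 2) (hv : orderOf v = 2)
    (hne : t ≠ v) (hcomm : Commute t v) (htH : t ∈ H) (hvH : v ∈ H)
    (hc : ∀ x : A, orderOf x = 2 → Nat.card ↥(Subgroup.centralizer ({x} : Set A)) = 20)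
    (hcE : Nat.card ↥(Subgroup.centralizer ({t, v} : Set A)) = 4) : False := by
  classical
  haveI : Fact (Nat.Prime 5) := ⟨by norm_num⟩
  haveI : IsSimpleGroup H := e.isSimpleGroup
  have hH : Nat.card H = 60 := by
    rw [Nat.card_congr e.toEquiv, Nat.card_eq_fintype_card]; decide +kernel
  have hno : ∀ P : Sylow 5 A, ¬ H ≤ Subgroup.normalizer ((P : Subgroup A) : Set A) := by
    intro P hn
    have hP : Nat.card (P : Subgroup A) = 125 := by
      rw [P.card_eq_multiplicity, hA, show (1500 : ℕ) = 5 ^ 3 * 12 by norm_num,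
        Nat.factorization_mul (by norm_num) (by norm_num), Finsupp.add_apply,
        Nat.factorization_pow_self (by norm_num : Nat.Prime 5),
        Nat.factorization_eq_zero_of_not_dvd (by norm_num)]
      norm_num
    rcases inf_bot_or_le inferInstance hn with hb | hle
    · have h1 := card_sup_disj hn hb
      have h2 := Subgroup.card_le_card_group ((P : Subgroup A) ⊔ H)
      rw [h1, hP, hH, hA] at h2
      omega
    · have := Subgroup.card_dvd_of_le hle
      rw [hP, hH] at this
      norm_num at this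
  set K := (MulAction.toPermHom A (Sylow 5 A)).ker with hK
  have hn5 : Nat.card (Sylow 5 A) ∣ 12 ∧ Nat.card (Sylow 5 A) % 5 = 1 := by
    refine ⟨?_, card_sylow_modEq_one 5 A⟩
    obtain ⟨P⟩ : Nonempty (Sylow 5 A) := inferInstance
    have h1 := P.card_dvd_index
    have h2 := (P : Subgroup A).card_mul_index
    rw [P.card_eq_multiplicity, hA, show (1500 : ℕ) = 5 ^ 3 * 12 by norm_num,
        Nat.factorization_mul (by norm_num) (by norm_num), Finsupp.add_apply,
        Nat.factorization_pow_self (by norm_num : Nat.Prime 5),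
        Nat.factorization_eq_zero_of_not_dvd (by norm_num), add_zero] at h2
    rwa [show (P : Subgroup A).index = 12 by omega] at h1
  have hn6 : Nat.card (Sylow 5 A) ≤ 6 := by
    obtain ⟨hd, hm⟩ := hn5
    have := Nat.le_of_dvd (by norm_num) hd
    interval_cases h : Nat.card (Sylow 5 A) <;> omega
  have hKd : H ⊓ K = ⊥ := by
    rcases inf_bot_or_le (H := H) (S := K) inferInstance
      (by rw [Subgroup.normalizer_eq_top]; exact le_top) with hb | hle
    · rw [inf_comm]; exact hb
    · obtain ⟨P⟩ : Nonempty (Sylow 5 A) := inferInstance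
      refine (hno P fun x hx => ?_).elim
      have hx' : x • P = P := by
        have := hle hx
        rw [hK, MonoidHom.mem_ker] at this
        exact Equiv.ext_iff.1 this P
      exact Sylow.smul_eq_iff_mem_normalizer.1 hx'
  have hKn : H ≤ Subgroup.normalizer (K : Set A) := by rw [Subgroup.normalizer_eq_top]; exact le_top
  have hsup := card_sup_disj hKn (inf_comm H K ▸ hKd)
  have hKc : Nat.card K = 25 := by
    have h1 := Subgroup.card_subgroup_dvd_card (K ⊔ H)
    rw [hsup, hH, hA] at h1
    have h2 : K.index ∣ 720 := by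
      rw [hK, Subgroup.index_ker]
      refine (Subgroup.card_subgroup_dvd_card _).trans ?_
      rw [Nat.card_perm]
      exact (Nat.factorial_dvd_factorial hn6).trans (by decide)
    have h3 := K.card_mul_index
    rw [hA] at h3
    have h4 : Nat.card K ∣ 25 := Nat.dvd_of_mul_dvd_mul_right (by norm_num : 0 < 60) h1
    have h5 : Nat.card K ∈ ({1, 5, 25} : Finset ℕ) := by
      have := Nat.le_of_dvd (by norm_num) h4
      interval_cases h : Nat.card K <;> simp_all
    simp only [Finset.mem_insert, Finset.mem_singleton] at h5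
    rcases h5 with e1 | e1 | e1
    · rw [e1, one_mul] at h3; rw [h3] at h2; norm_num at h2
    · rw [e1] at h3; rw [show K.index = 300 by omega] at h2; norm_num at h2
    · exact e1
  have htop : K ⊔ H = ⊤ := Subgroup.eq_top_of_card_eq _ (by rw [hsup, hKc, hH, hA])
  have hKab : ∀ a ∈ K, ∀ b ∈ K, a * b = b * a := by
    intro a ha b hb
    have h25 : Nat.card K = 5 ^ 2 := by rw [hKc]; norm_num
    exact congrArg Subtype.val
      (((IsPGroup.isMulCommutative_of_card_eq_prime_sq h25).is_comm).comm ⟨a, ha⟩ ⟨b, hb⟩)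
  have hKx : ∀ x ∈ H, orderOf x = 2 →
      Nat.card ↥(K ⊓ Subgroup.centralizer ({x} : Set A)) = 5 := by
    intro x hx hx2
    have hsplit : Subgroup.centralizer ({x} : Set A) =
        (K ⊓ Subgroup.centralizer ({x} : Set A)) ⊔ (H ⊓ Subgroup.centralizer ({x} : Set A)) := by
      refine le_antisymm (fun g hg => ?_) (sup_le inf_le_right inf_le_right)
      have hg' : g ∈ ((K ⊔ H : Subgroup A) : Set A) := by rw [htop]; exact Subgroup.mem_top g
      rw [Subgroup.coe_mul_of_right_le_normalizer_left K H hKn] at hg'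
      obtain ⟨k, hk, y, hy, rfl⟩ := hg'
      have hk' : x * k * x⁻¹ ∈ K := (inferInstance : K.Normal).conj_mem k hk x
      have hy' : x * y * x⁻¹ ∈ H := H.mul_mem (H.mul_mem hx hy) (H.inv_mem hx)
      have he : (x * k * x⁻¹) * (x * y * x⁻¹) = k * y := by
        rw [show (x * k * x⁻¹) * (x * y * x⁻¹) = x * (k * y) * x⁻¹ by group,
          ← Subgroup.mem_centralizer_singleton_iff.1 hg, mul_inv_cancel_right]
      have hp := Subgroup.mul_injective_of_disjoint (disjoint_iff.mpr (inf_comm H K ▸ hKd))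
        (a₁ := (⟨_, hk'⟩, ⟨_, hy'⟩)) (a₂ := (⟨k, hk⟩, ⟨y, hy⟩)) he
      simp only [Prod.ext_iff, Subtype.ext_iff] at hp
      refine Subgroup.mul_mem_sup ⟨hk, Subgroup.mem_centralizer_singleton_iff.2 ?_⟩
        ⟨hy, Subgroup.mem_centralizer_singleton_iff.2 ?_⟩
      · exact (mul_inv_eq_iff_eq_mul.1 hp.1).symm
      · exact (mul_inv_eq_iff_eq_mul.1 hp.2).symm
    have h4 : Nat.card ↥(H ⊓ Subgroup.centralizer ({x} : Set A)) = 4 := by
      have hx1 : e ⟨x, hx⟩ * e ⟨x, hx⟩ = 1 := by
        rw [← map_mul, MulEquiv.map_eq_one_iff]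
        apply Subtype.ext
        show x * x = 1
        rw [← pow_two, ← hx2, pow_orderOf_eq_one]
      have hxne : e ⟨x, hx⟩ ≠ 1 := fun h => by
        rw [MulEquiv.map_eq_one_iff, Subtype.ext_iff] at h
        rw [show x = 1 from h, orderOf_one] at hx2
        omega
      rw [← a5_centralizer _ hx1 hxne, ← Nat.card_eq_finsetCard]
      refine Nat.card_congr ?_
      refine {
        toFun := fun g => ⟨e ⟨(g : A), g.2.1⟩, ?_⟩
        invFun := fun y => ⟨(e.symm y.1 : H), (e.symm y.1).2, ?_⟩
        left_inv := fun g => by simp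
        right_inv := fun y => by simp }
      · simp only [Finset.mem_filter, Finset.mem_univ, true_and, ← map_mul]
        exact congrArg e (Subtype.ext (Subgroup.mem_centralizer_singleton_iff.1 g.2.2))
      · have hy := (Finset.mem_filter.1 y.2).2
        refine Subgroup.mem_centralizer_singleton_iff.2 ?_
        have := congrArg (fun z => ((e.symm z : H) : A)) hy
        simpa using this
    have hd' : (K ⊓ Subgroup.centralizer ({x} : Set A)) ⊓ (H ⊓ Subgroup.centralizer ({x} : Set A)) = ⊥ :=
      eq_bot_iff.2 ((inf_le_inf inf_le_left inf_le_left).trans (inf_comm H K ▸ hKd).le)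
    have hn' : H ⊓ Subgroup.centralizer ({x} : Set A) ≤
        Subgroup.normalizer ((K ⊓ Subgroup.centralizer ({x} : Set A) : Subgroup A) : Set A) := by
      refine le_trans (le_inf ?_ ?_) Subgroup.inf_normalizer_le_normalizer_inf
      · exact inf_le_left.trans hKn
      · exact inf_le_right.trans Subgroup.le_normalizer
    have h5 := card_sup_disj hn' hd'
    rw [← hsplit, hc x hx2, h4] at h5
    omega
  set P := K ⊓ Subgroup.centralizer ({t} : Set A) with hP
  set Q := K ⊓ Subgroup.centralizer ({v} : Set A) with hQ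
  have hPQ : P ⊓ Q = ⊥ := by
    refine Subgroup.eq_bot_of_card_eq _ ?_
    have h1 : Nat.card ↥(P ⊓ Q) ∣ 25 := hKc ▸ Subgroup.card_dvd_of_le (inf_le_left.trans inf_le_left)
    have h2 : Nat.card ↥(P ⊓ Q) ∣ 4 := hcE ▸ Subgroup.card_dvd_of_le (fun z hz => by
      rw [Subgroup.mem_centralizer_iff]
      rintro w (rfl | rfl)
      · exact (Subgroup.mem_centralizer_singleton_iff.1 hz.1.2).symm
      · exact (Subgroup.mem_centralizer_singleton_iff.1 hz.2.2).symm)
    exact Nat.eq_one_of_dvd_coprimes (by norm_num) h1 h2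
  have hinv : ∀ (x y : A), x ∈ H → Commute x y → orderOf y = 2 →
      (∀ k, k ∈ K → Commute k x → Commute k y → k = 1) →
      ∀ k ∈ K, Commute k x → y * k * y⁻¹ = k⁻¹ := by
    intro x y _ hxy hy hdis k hk hkx
    have hk' : y * k * y⁻¹ ∈ K := (inferInstance : K.Normal).conj_mem k hk y
    have hyy : y * y = 1 := by rw [← pow_two, ← hy, pow_orderOf_eq_one]
    have hyi : y⁻¹ = y := inv_eq_of_mul_eq_one_right hyy
    have h1 : Commute (y * k * y⁻¹) x := by
      rw [hyi]; exact ((hxy.symm).mul_left hkx).mul_left hxy.symm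
    have h2 : (y * k * y⁻¹) * k = k * (y * k * y⁻¹) := hKab _ hk' _ hk
    have h3 := hdis ((y * k * y⁻¹) * k) (K.mul_mem hk' hk) (h1.mul_left hkx) (by
      show (y * k * y⁻¹) * k * y = y * ((y * k * y⁻¹) * k)
      rw [hyi] at h2 ⊢
      nth_rw 1 [h2]
      calc k * (y * k * y) * y = k * (y * k) * (y * y) := by group
        _ = k * (y * k) := by rw [hyy, mul_one]
        _ = (y * y) * k * (y * k) := by rw [hyy, one_mul]
        _ = y * (y * k * y * k) := by group)
    exact eq_inv_of_mul_eq_one_left h3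
  have htv : orderOf (t * v) = 2 := by
    have h1 : (t * v) ^ 2 = 1 := by
      rw [hcomm.mul_pow, ← ht, pow_orderOf_eq_one, ht, ← hv, pow_orderOf_eq_one, one_mul]
    refine orderOf_eq_prime h1 fun h => hne ?_
    rw [mul_eq_one_iff_eq_inv] at h
    rw [h, inv_eq_of_mul_eq_one_right (by rw [← pow_two, ← hv, pow_orderOf_eq_one])]
  have hdis : ∀ k, k ∈ K → Commute k t → Commute k v → k = 1 := fun k hk h1 h2 => by
    have : k ∈ P ⊓ Q := ⟨⟨hk, Subgroup.mem_centralizer_singleton_iff.2 h1.eq⟩,
      ⟨hk, Subgroup.mem_centralizer_singleton_iff.2 h2.eq⟩⟩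
    rwa [hPQ, Subgroup.mem_bot] at this
  have hallK : ∀ k ∈ K, (t * v) * k * (t * v)⁻¹ = k⁻¹ := by
    have hPn : Q ≤ Subgroup.normalizer (P : Set A) := by
      intro q hq
      rw [Subgroup.mem_normalizer_iff]
      intro p
      constructor
      · intro hp; rw [hKab q hq.1 p hp.1, mul_inv_cancel_right]; exact hp
      · intro hp
        have hpK : p ∈ K := by
          have := K.mul_mem (K.mul_mem (K.inv_mem hq.1) hp.1) hq.1
          simpa [mul_assoc] using this
        rwa [hKab q hq.1 p hpK, mul_inv_cancel_right] at hp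
    have hPQK : P ⊔ Q = K := Subgroup.eq_of_le_of_card_ge (sup_le inf_le_left inf_le_left)
      (by rw [card_sup_disj hPn hPQ, hP, hQ, hKx t htH ht, hKx v hvH hv, hKc])
    intro k hk
    rw [← hPQK] at hk
    have hk' : k ∈ ((P ⊔ Q : Subgroup A) : Set A) := hk
    rw [Subgroup.coe_mul_of_right_le_normalizer_left P Q hPn] at hk'
    obtain ⟨p, hp, q, hq, rfl⟩ := hk'
    have hp' : Commute p t := Subgroup.mem_centralizer_singleton_iff.1 hp.2
    have hq' : Commute q v := Subgroup.mem_centralizer_singleton_iff.1 hq.2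
    have e1 : v * p * v⁻¹ = p⁻¹ := hinv t v htH hcomm hv hdis p hp.1 hp'
    have e2 : t * q * t⁻¹ = q⁻¹ :=
      hinv v t hvH hcomm.symm ht (fun z hz a b => hdis z hz b a) q hq.1 hq'
    have f1 : t * v * p * (t * v)⁻¹ = p⁻¹ := by
      rw [show t * v * p * (t * v)⁻¹ = t * (v * p * v⁻¹) * t⁻¹ by group, e1,
        ← hp'.inv_left.eq, mul_inv_cancel_right]
    have f2 : t * v * q * (t * v)⁻¹ = q⁻¹ := by
      rw [show t * v * q * (t * v)⁻¹ = t * (v * q * v⁻¹) * t⁻¹ by group, ← hq'.eq,
        mul_inv_cancel_right, e2]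
    rw [show t * v * (p * q) * (t * v)⁻¹ = (t * v * p * (t * v)⁻¹) * (t * v * q * (t * v)⁻¹) by group,
      f1, f2, mul_inv_rev, hKab p⁻¹ (K.inv_mem hp.1) q⁻¹ (K.inv_mem hq.1)]
  have h5 := hKx (t * v) (H.mul_mem htH hvH) htv
  have hbot : K ⊓ Subgroup.centralizer ({t * v} : Set A) = ⊥ := by
    rw [Subgroup.eq_bot_iff_forall]
    intro k hk
    have h1 := hallK k hk.1
    rw [← Subgroup.mem_centralizer_singleton_iff.1 hk.2, mul_inv_cancel_right] at h1
    have h2 : k ^ 2 = 1 := by rw [pow_two]; nth_rw 2 [h1]; exact mul_inv_cancel k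
    have h3 : orderOf k ∣ 25 := hKc ▸ Subgroup.orderOf_dvd_natCard K hk.1
    exact orderOf_eq_one_iff.1
      (Nat.eq_one_of_dvd_coprimes (by norm_num) h3 (orderOf_dvd_of_pow_eq_one h2))
  rw [hbot, Subgroup.card_bot] at h5
  omega

end Tools

variable {G : Type u} {Ω : Type w} [Group G] [Finite G] [MulAction G Ω] [Fintype Ω]

theorem Hyp.card_group (h : Hyp G Ω) (a b : Ω) (hab : a ≠ b) :
    Nat.card G = Fintype.card Ω * Nat.card (stabilizer G a) ∧
      Nat.card (stabilizer G a) = (Fintype.card Ω - 1) * 60 ∧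
      Nat.card ↥(stabilizer G a ⊓ stabilizer G b) = 60 := by
  classical
  haveI := h.two
  haveI := isPretransitive_of_is_two_pretransitive (h2 := h.two)
  have h60 : Nat.card ↥(stabilizer G a ⊓ stabilizer G b) = 60 := by
    obtain ⟨e⟩ := h.stab a b hab
    rw [Nat.card_congr e.toEquiv, Nat.card_eq_fintype_card]; decide +kernel
  refine ⟨by rw [CfsgLib.Perm.natCard_eq_mul_stabilizer (G := G) a, Nat.card_eq_fintype_card (α := Ω)],
    ?_, h60⟩
  have hset : orbit (stabilizer G a) b = {x | x ≠ a} := by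
    ext x
    constructor
    · rintro ⟨g, rfl⟩ he
      exact hab (MulAction.injective (g : G) ((g.2 : (g : G) • a = a).trans he.symm))
    · intro hx
      obtain ⟨g, h1, h2⟩ := exists_smul_pair h.two hab (Ne.symm hx)
      exact ⟨⟨g, h1⟩, h2⟩
  have h1 := (stabilizer (stabilizer G a) b).card_mul_index
  rw [index_stabilizer, hset] at h1
  have h2 : stabilizer (stabilizer G a) b = (stabilizer G b).subgroupOf (stabilizer G a) := rfl
  rw [h2, ← Subgroup.inf_subgroupOf_left,
    Nat.card_congr (Subgroup.subgroupOfEquivOfLe inf_le_left).toEquiv, h60] at h1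
  rw [← h1, mul_comm]
  congr 1
  rw [Set.ncard_eq_toFinset_card', Set.toFinset_setOf, Finset.filter_ne',
    Finset.card_erase_of_mem (Finset.mem_univ _), Finset.card_univ]

theorem exists_ne_points (hn : 2 ≤ Fintype.card Ω) : ∃ a b : Ω, a ≠ b :=
  Fintype.one_lt_card_iff.1 hn

theorem Hyp.seven (h : Hyp G Ω) (hn : Fintype.card Ω = 7) :
    Nonempty (G ≃* ↥(alternatingGroup (Fin 7))) := by
  classical
  haveI := h.faith
  obtain ⟨a, b, hab⟩ := exists_ne_points (Ω := Ω) (by omega)
  obtain ⟨h1, h2, -⟩ := h.card_group a b hab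
  have hG : Nat.card G = 2520 := by rw [h1, h2, hn]
  have hinj : Function.Injective (MulAction.toPermHom G Ω) := MulAction.toPerm_injective
  set f := MulAction.toPermHom G Ω
  have hidx : f.range.index = 2 := by
    have := f.range.card_mul_index
    rw [Nat.card_congr (MonoidHom.ofInjective hinj).symm.toEquiv, hG, Nat.card_perm,
      Nat.card_eq_fintype_card (α := Ω), hn, show Nat.factorial 7 = 5040 from rfl] at this
    omega
  exact ⟨((MonoidHom.ofInjective hinj).trans
    (MulEquiv.subgroupCongr (Equiv.Perm.eq_alternatingGroup_of_index_eq_two hidx))).trans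
    (Equiv.altCongrHom ((Fintype.equivFinOfCardEq hn)))⟩

theorem Hyp.simple_twelve (h : Hyp G Ω) (hn : Fintype.card Ω = 12) : IsSimpleGroup G := by
  classical
  haveI := h.faith
  haveI := h.two
  obtain ⟨a, b, hab⟩ := exists_ne_points (Ω := Ω) (by omega)
  obtain ⟨h1, h2, h60⟩ := h.card_group a b hab
  haveI := isPreprimitive_of_is_two_pretransitive (G := G) (α := Ω) h.two
  haveI : Nontrivial G := Finite.one_lt_card_iff_nontrivial.1 (by rw [h1, h2, hn]; norm_num)
  refine ⟨fun N hN => ?_⟩
  by_cases hbot : N = ⊥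
  · exact Or.inl hbot
  right
  haveI := CfsgLib.Perm.normal_isPretransitive (G := G) (α := Ω) hbot
  set Ga := stabilizer G a
  set H := stabilizer G a ⊓ stabilizer G b
  set Na := N ⊓ Ga
  obtain ⟨e5⟩ := h.stab a b hab
  haveI : IsSimpleGroup H := e5.isSimpleGroup
  have hHn : H ≤ Subgroup.normalizer (Na : Set G) :=
    le_trans (le_inf (le_top.trans_eq (Subgroup.normalizer_eq_top (H := N)).symm)
      (inf_le_left.trans Subgroup.le_normalizer)) Subgroup.inf_normalizer_le_normalizer_inf
  have hmove : ∀ x : Ω, x ≠ a → ∃ g ∈ Ga, g • b = x := fun x hx => by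
    obtain ⟨g, g1, g2⟩ := exists_smul_pair h.two hab (Ne.symm hx)
    exact ⟨g, g1, g2⟩
  rcases inf_bot_or_le inferInstance hHn with hb | hle
  · exfalso
    have hc := card_sup_disj hHn hb
    have hd := Subgroup.card_dvd_of_le (sup_le inf_le_right inf_le_left : Na ⊔ H ≤ Ga)
    rw [hc, h60, h2, hn, show (12 - 1) * 60 = 11 * 60 by norm_num] at hd
    have hd' : Nat.card Na ∣ 11 := Nat.dvd_of_mul_dvd_mul_right (by norm_num : 0 < 60) hd
    rcases (Nat.dvd_prime (by norm_num : Nat.Prime 11)).1 hd' with e | e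
    · refine h.noreg N hN inferInstance (CfsgLib.Perm.stabilizer_eq_bot_of_normal (G := G) (a := a) ?_)
      rw [Subgroup.eq_bot_iff_forall]
      intro n hn'
      have : (n : G) ∈ Na := ⟨n.2, hn'⟩
      rw [Subgroup.eq_bot_of_card_eq Na e, Subgroup.mem_bot] at this
      exact Subtype.ext this
    · haveI : Fact (Nat.Prime 11) := ⟨by norm_num⟩
      haveI : IsCyclic Na := isCyclic_of_prime_card e
      have hcomm : ∀ x ∈ H, ∀ n ∈ Na, x * n = n * x := by
        let φ : H →* MulAut Na :=
          (Subgroup.normalizerMonoidHom Na).comp (Subgroup.inclusion hHn)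
        intro x hx n hn'
        have hker : φ.ker = ⊤ := by
          rcases (MonoidHom.normal_ker φ).eq_bot_or_eq_top with k | k
          · exfalso
            have hinjφ := (MonoidHom.ker_eq_bot_iff φ).1 k
            obtain ⟨p, q, hpq⟩ : ∃ p q : ↥(alternatingGroup (Fin 5)), p * q ≠ q * p := by
              decide +kernel
            refine hpq (e5.symm.injective (hinjφ ?_))
            rw [map_mul e5.symm, map_mul e5.symm, map_mul φ, map_mul φ]
            apply MulEquiv.ext
            intro z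
            obtain ⟨g, hg⟩ := IsCyclic.exists_generator (α := Na)
            obtain ⟨i, hi⟩ := MonoidHom.map_cyclic (φ (e5.symm p)).toMonoidHom
            obtain ⟨j, hj⟩ := MonoidHom.map_cyclic (φ (e5.symm q)).toMonoidHom
            simp only [MulEquiv.coe_toMonoidHom] at hi hj
            rw [MulAut.mul_apply, MulAut.mul_apply, hi, hj, hi, hj, ← zpow_mul, ← zpow_mul, mul_comm]
          · exact k
        have h3 : φ ⟨x, hx⟩ = 1 := MonoidHom.mem_ker.1 (hker ▸ Subgroup.mem_top _)
        have h4 := congrArg Subtype.val (DFunLike.congr_fun h3 ⟨n, hn'⟩)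
        have h5 : x * n * x⁻¹ = n := h4
        exact mul_inv_eq_iff_eq_mul.1 h5
      have hH1 : H = ⊥ := by
        rw [Subgroup.eq_bot_iff_forall]
        intro x hx
        refine eq_of_smul_eq_smul (α := Ω) fun y => ?_
        rw [one_smul]
        by_cases hya : y = a
        · rw [hya]; exact hx.1
        have horb : orbit Na b = {z | z ≠ a} := by
          refine Set.eq_of_subset_of_ncard_le ?_ ?_ (Set.toFinite _)
          · rintro z ⟨g, rfl⟩ he
            exact hab (MulAction.injective (g : G) ((g.2.2 : (g : G) • a = a).trans he.symm))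
          · rw [← index_stabilizer Na b, show stabilizer Na b = ⊥ from ?_, Subgroup.index_bot, e,
              Set.ncard_eq_toFinset_card', Set.toFinset_setOf, Finset.filter_ne',
              Finset.card_erase_of_mem (Finset.mem_univ _), Finset.card_univ, hn]
            rw [Subgroup.eq_bot_iff_forall]
            intro n hn'
            have : (n : G) ∈ Na ⊓ H := ⟨n.2, n.2.2, hn'⟩
            rw [hb, Subgroup.mem_bot] at this
            exact Subtype.ext this
        have hy : y ∈ orbit Na b := by rw [horb]; exact hya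
        obtain ⟨g, rfl⟩ := hy
        show x • ((g : G) • b) = (g : G) • b
        rw [← mul_smul, hcomm x hx g g.2, mul_smul, (hx.2 : x • b = b)]
      rw [hH1, Subgroup.card_bot] at h60
      omega
  · have hd := Subgroup.card_dvd_of_le (inf_le_right : Na ≤ Ga)
    have hd60 := Subgroup.card_dvd_of_le hle
    rw [h60] at hd60
    obtain ⟨k, hk⟩ := hd60
    rw [hk, h2, hn, show (12 - 1) * 60 = 60 * 11 by norm_num] at hd
    have hk' : k ∣ 11 := Nat.dvd_of_mul_dvd_mul_left (by norm_num : 0 < 60) hd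
    rcases (Nat.dvd_prime (by norm_num : Nat.Prime 11)).1 hk' with rfl | rfl
    · exfalso
      have hNaH : H = Na := Subgroup.eq_of_le_of_card_ge hle (by rw [h60, hk])
      have hH1 : H = ⊥ := by
        rw [Subgroup.eq_bot_iff_forall]
        intro x hx
        refine eq_of_smul_eq_smul (α := Ω) fun y => ?_
        rw [one_smul]
        by_cases hya : y = a
        · rw [hya]; exact hx.1
        obtain ⟨g, hg, rfl⟩ := hmove y hya
        have hx' : g⁻¹ * x * g ∈ H := by
          rw [hNaH] at hx ⊢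
          exact ⟨by simpa using hN.conj_mem x hx.1 g⁻¹,
            Ga.mul_mem (Ga.mul_mem (Ga.inv_mem hg) hx.2) hg⟩
        have : (g⁻¹ * x * g) • b = b := hx'.2
        rw [mul_smul, mul_smul, inv_smul_eq_iff] at this
        exact this
      rw [hH1, Subgroup.card_bot] at h60
      omega
    · have hGa : Ga ≤ N := by
        have : Na = Ga := Subgroup.eq_of_le_of_card_ge inf_le_right (by rw [hk, h2, hn])
        exact this ▸ inf_le_left
      rw [eq_top_iff]
      intro g _
      obtain ⟨n, hn'⟩ := exists_smul_eq N a (g • a)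
      have h3 : (n : G)⁻¹ * g ∈ N := hGa (by
        rw [mem_stabilizer_iff, mul_smul, ← hn', Subgroup.smul_def, inv_smul_smul])
      simpa using N.mul_mem n.2 h3

theorem Hyp.twelve (h : Hyp G Ω) (hn : Fintype.card Ω = 12) : Cfsg.Spor.IsoM11 G := by
  obtain ⟨a, b, hab⟩ := exists_ne_points (Ω := Ω) (by omega)
  obtain ⟨h1, h2, -⟩ := h.card_group a b hab
  exact CfsgLib.Recog.OrderM11.iso_of_isM11 ⟨h.simple_twelve hn, by rw [h1, h2, hn]⟩
    ⟨CfsgLib.Golay.isSimple_sporM11, CfsgLib.Golay.card_sporM11⟩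

theorem Hyp.twentySix_false (h : Hyp G Ω) (hn : Fintype.card Ω = 26) (B : Base G Ω)
    (hc : ∀ x : G, orderOf x = 2 → x • B.a = B.a →
      Nat.card ↥(Subgroup.centralizer ({x} : Set G) ⊓ stabilizer G B.a) = 20)
    (hcE : Nat.card ↥(Subgroup.centralizer ({B.t, B.v} : Set G) ⊓ stabilizer G B.a) = 4) :
    False := by
  obtain ⟨-, h2, -⟩ := h.card_group B.a B.b B.hab
  obtain ⟨e5⟩ := h.stab B.a B.b B.hab
  set Ga := stabilizer G B.a
  have hcen : ∀ (s : Set G) (s' : Set ↥Ga), (Subtype.val '' s' = s) →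
      Nat.card ↥(Subgroup.centralizer s') = Nat.card ↥(Subgroup.centralizer s ⊓ Ga) := by
    intro s s' hs
    rw [← Nat.card_congr (Subgroup.subgroupOfEquivOfLe (inf_le_right :
      Subgroup.centralizer s ⊓ Ga ≤ Ga)).toEquiv, Subgroup.inf_subgroupOf_right]
    congr 1
    refine congrArg (fun S : Subgroup ↥Ga => ↥S) (Subgroup.ext fun g => ?_)
    subst hs
    simp only [Subgroup.mem_centralizer_iff, Subgroup.mem_subgroupOf, Set.forall_mem_image,
      Subtype.ext_iff, Subgroup.coe_mul]
  refine no_order_1500 (A := ↥Ga) (by rw [h2, hn]) ((stabilizer G B.b).subgroupOf Ga)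
    (((MulEquiv.subgroupCongr (Subgroup.inf_subgroupOf_left _ _).symm).trans
      (Subgroup.subgroupOfEquivOfLe inf_le_left)).trans e5)
    ⟨B.t, B.hta⟩ ⟨B.v, B.hva⟩ ((Subgroup.orderOf_coe _).symm.trans B.ht)
    ((Subgroup.orderOf_coe _).symm.trans B.hv) (fun e => B.hne (congrArg Subtype.val e))
    (Subtype.ext B.hcomm.eq) B.htb B.hvb (fun x hx => ?_) ?_
  · rw [hcen {(x : G)} {x} (Set.image_singleton), hc x (by rw [Subgroup.orderOf_coe, hx]) x.2]
  · rw [hcen {B.t, B.v} _ (by rw [Set.image_insert_eq, Set.image_singleton]), hcE]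

end CfsgLib.Perm.TwoPointFive
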