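import Cfsg.Agent.Lib.Perm.TwoPointFive.Defs
import Cfsg.Agent.Lib.Perm.SharplyTwo
import Mathlib.GroupTheory.Perm.Cycle.Type
import Mathlib.GroupTheory.GroupAction.ConjAct
import Mathlib.GroupTheory.SpecificGroups.KleinFour
import Mathlib.Combinatorics.Enumerative.DoubleCounting

/-!
Sharply two-transitive groups of odd degree and two-transitive groups whose pair stabilisers have
order two: involutions, their centralisers, the two possible degrees, and the Klein case.
-/

set_option autoImplicit false
set_option linter.unusedSectionVars false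

namespace CfsgLib.Perm.TwoPointFive

open MulAction Subgroup

variable {X F : Type*} [Group X] [Finite X] [MulAction X F] [Fintype F]

theorem card_stab (h2 : IsMultiplyPretransitive X F 2) {c d : F} (hcd : c ≠ d) :
    Nat.card (stabilizer X c) =
      (Fintype.card F - 1) * Nat.card ↥(stabilizer X c ⊓ stabilizer X d) := by
  classical
  have horb : orbit (stabilizer X c) d = {c}ᶜ := by
    ext y
    rw [Set.mem_compl_iff, Set.mem_singleton_iff]
    constructor
    · rintro ⟨g, rfl⟩ e
      exact hcd (MulAction.injective (g : X) (g.2.trans e.symm))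
    · intro hy
      obtain ⟨g, hg, hgd⟩ := exists_smul_pair h2 hcd (Ne.symm hy)
      exact ⟨⟨g, hg⟩, hgd⟩
  have hs : stabilizer (stabilizer X c) d =
      (stabilizer X c ⊓ stabilizer X d).subgroupOf (stabilizer X c) := by
    ext g
    rw [mem_subgroupOf, Subgroup.mem_inf, mem_stabilizer_iff, mem_stabilizer_iff, mem_stabilizer_iff]
    exact ⟨fun hg => ⟨g.2, hg⟩, fun hg => hg.2⟩
  have h := Subgroup.index_mul_card (stabilizer (stabilizer X c) d)
  rw [index_stabilizer, horb, Set.ncard_compl, Set.ncard_singleton, Nat.card_eq_fintype_card, hs,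
    Nat.card_congr (Subgroup.subgroupOfEquivOfLe inf_le_left).toEquiv] at h
  exact h.symm

theorem card_group (h2 : IsMultiplyPretransitive X F 2) {c d : F} (hcd : c ≠ d) :
    Nat.card X = Fintype.card F *
      ((Fintype.card F - 1) * Nat.card ↥(stabilizer X c ⊓ stabilizer X d)) := by
  have := isPretransitive_of_is_two_pretransitive (h2 := h2)
  rw [natCard_eq_mul_stabilizer c, card_stab h2 hcd, Nat.card_eq_fintype_card]

theorem invol_smul_smul {x : X} (hx : x * x = 1) (c : F) : x • x • c = c := by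
  rw [← mul_smul, hx, one_smul]

theorem mul_self_of_order {x : X} (hx : orderOf x = 2) : x * x = 1 := by
  rw [← pow_two, ← hx, pow_orderOf_eq_one]

theorem order_of_mul_self {x : X} (hx : x * x = 1) (h1 : x ≠ 1) : orderOf x = 2 :=
  orderOf_eq_prime (by rw [pow_two, hx]) h1

/-- The number of moved points of an involution is even. -/
theorem even_moved {x : X} (hx : x * x = 1) :
    Even (Fintype.card F - Nat.card (fixedBy F x)) := by
  classical
  set σ := toPermHom X F x with hσ
  have hs : σ ^ 2 = 1 := by rw [hσ, ← map_pow, pow_two, hx, map_one]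
  have h := Equiv.Perm.two_dvd_card_support hs
  have he : σ.support = (Finset.univ.filter fun a : F => x • a = a)ᶜ := by
    ext a
    simp [hσ, Equiv.Perm.mem_support]
  rw [he, Finset.card_compl] at h
  have hc : Nat.card (fixedBy F x) = (Finset.univ.filter fun a : F => x • a = a).card := by
    rw [← Fintype.card_subtype, ← Nat.card_eq_fintype_card]
    rfl
  rw [even_iff_two_dvd, hc]
  exact h

/-! ### Sharply two-transitive groups of odd degree -/

theorem Sharp.fix_card (h : Sharp X F) (hm : Odd (Fintype.card F)) {x : X} (hx : orderOf x = 2) :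
    ∃ c : F, x • c = c ∧ ∀ d : F, x • d = d → d = c := by
  classical
  have hev := even_moved (F := F) (mul_self_of_order hx)
  obtain ⟨⟨c, hc⟩⟩ : Nonempty (fixedBy F x) := by
    by_contra hne
    rw [not_nonempty_iff] at hne
    rw [Nat.card_of_isEmpty, Nat.sub_zero] at hev
    exact Nat.not_odd_iff_even.2 hev hm
  refine ⟨c, hc, fun d hd => by_contra fun hdc => ?_⟩
  rw [h.pair d c hdc x hd hc, orderOf_one] at hx
  norm_num at hx

theorem Sharp.one_per_point (h : Sharp X F) (hm : Odd (Fintype.card F)) {x y : X} {c : F}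
    (hx : orderOf x = 2) (hy : orderOf y = 2) (hxc : x • c = c) (hyc : y • c = c) : x = y := by
  classical
  have := Fintype.ofFinite X
  have := h.two
  have := isPretransitive_of_is_two_pretransitive (h2 := h.two)
  by_contra hne
  have : Nonempty F := ⟨c⟩
  choose! φ hφ hφu using fun (z : X) (hz : orderOf z = 2) => Sharp.fix_card h hm hz
  set I : Finset X := Finset.univ.filter fun z => orderOf z = 2 with hI
  -- two involutions at each point
  have htwo : ∀ d : F, 2 ≤ (I.filter fun z => φ z = d).card := by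
    intro d
    obtain ⟨g, rfl⟩ := exists_smul_eq X c d
    have hmem : ∀ z : X, orderOf z = 2 → z • c = c →
        g * z * g⁻¹ ∈ I.filter fun w => φ w = g • c := by
      intro z hz hzc
      have ho : orderOf (g * z * g⁻¹) = 2 := by
        rw [← hz]; exact MulEquiv.orderOf_eq (MulAut.conj g) z
      rw [Finset.mem_filter, hI, Finset.mem_filter]
      refine ⟨⟨Finset.mem_univ _, ho⟩, (hφu _ ho (g • c) ?_).symm⟩
      rw [mul_smul, mul_smul, inv_smul_smul, hzc]
    refine le_trans (le_of_eq ?_) (Finset.card_le_card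
      (Finset.insert_subset (hmem x hx hxc) (Finset.singleton_subset_iff.2 (hmem y hy hyc))))
    rw [Finset.card_pair]
    exact fun e => hne (mul_left_cancel (mul_right_cancel e))
  have hN : Fintype.card F * 2 ≤ I.card := by
    rw [Finset.card_eq_sum_card_fiberwise (f := φ) (t := (Finset.univ : Finset F))
      (fun z _ => Finset.mem_coe.2 (Finset.mem_univ _))]
    calc Fintype.card F * 2 = ∑ _d : F, 2 := by
          rw [Finset.sum_const, Finset.card_univ, smul_eq_mul]
      _ ≤ _ := Finset.sum_le_sum fun d _ => htwo d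
  -- an involution is determined by one moved pair
  have hle : (I.sigma fun z => Finset.univ.filter fun a : F => z • a ≠ a).card ≤
      (Finset.univ : Finset F).offDiag.card := by
    refine Finset.card_le_card_of_injOn (fun p => (p.2, p.1 • p.2)) ?_ ?_
    · rintro ⟨z, a⟩ hp
      simp only [Finset.coe_sigma, Set.mem_sigma_iff, Finset.mem_coe, Finset.mem_filter] at hp
      simp only [Finset.mem_coe, Finset.mem_offDiag, Finset.mem_univ, true_and]
      exact Ne.symm hp.2.2
    · rintro ⟨z, a⟩ hp ⟨w, b⟩ hq e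
      simp only [Finset.coe_sigma, Set.mem_sigma_iff, Finset.mem_coe, Finset.mem_filter, hI] at hp hq
      simp only [Prod.mk.injEq] at e
      obtain ⟨rfl, e⟩ := e
      have hz := mul_self_of_order hp.1.2
      have hw := mul_self_of_order hq.1.2
      have hzw : w⁻¹ * z = 1 := by
        refine h.pair a (z • a) (Ne.symm hp.2.2) _ ?_ ?_
        · rw [mul_smul, inv_smul_eq_iff, e]
        · rw [mul_smul, invol_smul_smul hz, inv_smul_eq_iff, e, invol_smul_smul hw]
      rw [inv_mul_eq_one.1 hzw]
  have hmv : ∀ z ∈ I,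
      (Finset.univ.filter fun a : F => z • a ≠ a).card = Fintype.card F - 1 := by
    intro z hz
    rw [hI, Finset.mem_filter] at hz
    have : (Finset.univ.filter fun a : F => z • a ≠ a) = {φ z}ᶜ := by
      ext a
      simp only [Finset.mem_filter, Finset.mem_univ, true_and, Finset.mem_compl,
        Finset.mem_singleton]
      exact ⟨fun ha e => ha (e ▸ hφ z hz.2), fun ha e => ha (hφu z hz.2 a e)⟩
    rw [this, Finset.card_compl, Finset.card_singleton]
  rw [Finset.card_sigma, Finset.sum_congr rfl hmv, Finset.sum_const, smul_eq_mul,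
    Finset.offDiag_card, Finset.card_univ] at hle
  have h3 : 2 ≤ Fintype.card F := by
    by_contra hlt
    have : Subsingleton F := Fintype.card_le_one_iff_subsingleton.1 (by omega)
    have := h.faith
    exact hne (eq_of_smul_eq_smul (α := F) fun a => Subsingleton.elim _ _)
  obtain ⟨q, hq⟩ : ∃ q, Fintype.card F = q + 1 := ⟨Fintype.card F - 1, by omega⟩
  rw [hq] at hle hN
  simp only [Nat.add_sub_cancel] at hle
  have h1 : (q + 1) * 2 * q ≤ (q + 1) * (q + 1) - (q + 1) :=
    le_trans (Nat.mul_le_mul_right q hN) hle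
  rw [← Nat.mul_sub_one, Nat.add_sub_cancel] at h1
  have : 0 < q := by omega
  nlinarith

theorem Sharp.invol_unique (h : Sharp X F) (hm : Odd (Fintype.card F)) {x y : X}
    (hx : orderOf x = 2) (hy : orderOf y = 2) (hc : Commute x y) : x = y := by
  obtain ⟨c, hxc, hcu⟩ := Sharp.fix_card h hm hx
  refine Sharp.one_per_point h hm hx hy hxc (hcu _ ?_)
  rw [← mul_smul, hc.eq, mul_smul, hxc]

theorem Sharp.invol_conj (h : Sharp X F) (hm : Odd (Fintype.card F)) {x y : X}
    (hx : orderOf x = 2) (hy : orderOf y = 2) : IsConj x y := by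
  have := h.two
  have := isPretransitive_of_is_two_pretransitive (h2 := h.two)
  obtain ⟨c, hxc, -⟩ := Sharp.fix_card h hm hx
  obtain ⟨d, hyd, -⟩ := Sharp.fix_card h hm hy
  obtain ⟨g, rfl⟩ := exists_smul_eq X c d
  refine isConj_iff.2 ⟨g, Sharp.one_per_point h hm ?_ hy ?_ hyd⟩
  · rw [← hx]; exact MulEquiv.orderOf_eq (MulAut.conj g) x
  · rw [mul_smul, mul_smul, inv_smul_smul, hxc]

theorem Sharp.centralizer_eq (h : Sharp X F) (hm : Odd (Fintype.card F)) {x : X}
    (hx : orderOf x = 2) {c : F} (hxc : x • c = c) :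
    centralizer ({x} : Set X) = stabilizer X c := by
  obtain ⟨c', hxc', hcu⟩ := Sharp.fix_card h hm hx
  obtain rfl := hcu c hxc
  ext g
  rw [mem_centralizer_singleton_iff, mem_stabilizer_iff]
  constructor
  · intro hg
    refine hcu _ ?_
    rw [← mul_smul, ← hg, mul_smul, hxc]
  · intro hg
    refine mul_inv_eq_iff_eq_mul.1 (Sharp.one_per_point h hm ?_ hx ?_ hxc)
    · rw [← hx]; exact MulEquiv.orderOf_eq (MulAut.conj g) x
    · rw [mul_smul, mul_smul, inv_smul_eq_iff.2 hg.symm, hxc, hg]

theorem Sharp.pair_card (h : Sharp X F) {c d : F} (hcd : c ≠ d) :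
    Nat.card ↥(stabilizer X c ⊓ stabilizer X d) = 1 := by
  rw [card_eq_one, Subgroup.eq_bot_iff_forall]
  exact fun g hg => h.pair c d hcd g hg.1 hg.2

theorem Sharp.card_centralizer (h : Sharp X F) (hm : Odd (Fintype.card F)) {x : X}
    (hx : orderOf x = 2) :
    Nat.card (centralizer ({x} : Set X)) = Fintype.card F - 1 := by
  obtain ⟨c, hxc, -⟩ := Sharp.fix_card h hm hx
  obtain ⟨d, hd⟩ : ∃ d : F, d ≠ c := by
    by_contra hne
    push Not at hne
    have := h.faith
    have h1 : x = 1 := eq_of_smul_eq_smul (α := F) fun a => by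
      rw [hne a, hxc, one_smul]
    rw [h1, orderOf_one] at hx
    norm_num at hx
  rw [Sharp.centralizer_eq h hm hx hxc, card_stab h.two (Ne.symm hd),
    h.pair_card (Ne.symm hd), mul_one]

/-! ### Pair stabilisers of order two -/

/-- An involution with at least two fixed points. -/
def Big (F : Type*) {X : Type*} [Group X] [MulAction X F] (x : X) : Prop :=
  orderOf x = 2 ∧ 2 ≤ Nat.card (fixedBy F x)

theorem Big.exists_pair {x : X} (hx : Big F x) : ∃ c d : F, c ≠ d ∧ x • c = c ∧ x • d = d := by
  classical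
  have : 1 < Fintype.card (fixedBy F x) := by
    rw [← Nat.card_eq_fintype_card]; exact hx.2
  obtain ⟨⟨c, hc⟩, ⟨d, hd⟩, hne⟩ := Fintype.one_lt_card_iff.1 this
  exact ⟨c, d, fun e => hne (Subtype.ext e), hc, hd⟩

theorem Big.ne_one {x : X} (hx : Big F x) : x ≠ 1 := fun e => by
  have := hx.1
  rw [e, orderOf_one] at this
  norm_num at this

theorem big_of_fix {x : X} (hx : orderOf x = 2) {c d : F} (hcd : c ≠ d) (hc : x • c = c)
    (hd : x • d = d) : Big F x := by
  classical
  refine ⟨hx, ?_⟩
  have : 1 < Fintype.card (fixedBy F x) :=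
    Fintype.one_lt_card_iff.2 ⟨⟨c, hc⟩, ⟨d, hd⟩, fun e => hcd (Subtype.ext_iff.1 e)⟩
  rw [← Nat.card_eq_fintype_card] at this
  exact this

theorem card_fixedBy_conj (g x : X) :
    Nat.card (fixedBy F (g * x * g⁻¹)) = Nat.card (fixedBy F x) := by
  refine (Nat.card_congr (Equiv.subtypeEquiv (MulAction.toPerm g) fun a => ?_)).symm
  show x • a = a ↔ (g * x * g⁻¹) • g • a = g • a
  rw [mul_smul, mul_smul, inv_smul_smul, smul_left_cancel_iff]

theorem Big.conj {x : X} (hx : Big F x) (g : X) : Big F (g * x * g⁻¹) :=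
  ⟨by rw [← hx.1]; exact MulEquiv.orderOf_eq (MulAut.conj g) x,
    by rw [card_fixedBy_conj]; exact hx.2⟩

namespace HalfSharp

variable (h : HalfSharp X F)
include h

theorem eq_or_eq {v g : X} (hv1 : v ≠ 1) {c d : F} (hcd : c ≠ d) (hvc : v • c = c)
    (hvd : v • d = d) (hgc : g • c = c) (hgd : g • d = d) : g = 1 ∨ g = v := by
  classical
  have h2 := h.pair c d hcd
  by_contra hne
  push Not at hne
  set K := stabilizer X c ⊓ stabilizer X d with hK
  have := Fintype.ofFinite K
  have h3 : ({1, ⟨v, hvc, hvd⟩, ⟨g, hgc, hgd⟩} : Finset K).card = 3 := by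
    rw [Finset.card_insert_of_notMem, Finset.card_pair]
    · exact fun e => hne.2 (Subtype.ext_iff.1 e).symm
    · simp only [Finset.mem_insert, Finset.mem_singleton, Subtype.ext_iff, OneMemClass.coe_one]
      rintro (e | e)
      · exact hv1 e.symm
      · exact hne.1 e.symm
  have h4 := Finset.card_le_univ ({1, ⟨v, hvc, hvd⟩, ⟨g, hgc, hgd⟩} : Finset K)
  rw [h3, ← Nat.card_eq_fintype_card, h2] at h4
  omega

theorem exists_pair_invol {c d : F} (hcd : c ≠ d) :
    ∃ s : X, orderOf s = 2 ∧ s • c = c ∧ s • d = d := by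
  obtain ⟨⟨s, hs⟩, ho⟩ := exists_prime_orderOf_dvd_card'
    (G := ↥(stabilizer X c ⊓ stabilizer X d)) 2 (by rw [h.pair c d hcd])
  exact ⟨s, by rw [← ho, Subgroup.orderOf_mk], hs.1, hs.2⟩

theorem isConj_big {x y : X} (hx : Big F x) (hy : Big F y) : IsConj x y := by
  obtain ⟨c, d, hcd, hc, hd⟩ := hx.exists_pair
  obtain ⟨c', d', hcd', hc', hd'⟩ := hy.exists_pair
  obtain ⟨g, hgc, hgd⟩ := exists_smul_pair h.two hcd hcd'
  refine isConj_iff.2 ⟨g, (h.eq_or_eq hy.ne_one hcd' hc' hd' ?_ ?_).resolve_left
    (hx.conj g).ne_one⟩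
  · rw [← hgc, mul_smul, mul_smul, inv_smul_smul, hc]
  · rw [← hgd, mul_smul, mul_smul, inv_smul_smul, hd]

theorem fix_card_eq {x y : X} (hx : Big F x) (hy : Big F y) :
    Nat.card (fixedBy F x) = Nat.card (fixedBy F y) := by
  obtain ⟨g, rfl⟩ := isConj_iff.1 (h.isConj_big hx hy)
  exact (card_fixedBy_conj g x).symm

theorem sq_ne {v : X} (hv : Big F v) (g : X) : g * g ≠ v := by
  intro e
  obtain ⟨c, d, hcd, hc, hd⟩ := hv.exists_pair
  have hcomm : g * v = v * g := by rw [← e, mul_assoc]
  have hg : ∀ a : F, v • a = a → g • a = a := by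
    intro a ha
    by_contra hne
    refine hv.ne_one ?_
    rw [← e]
    refine h.swap a (g • a) (Ne.symm hne) g rfl ?_
    rw [← mul_smul, e, ha]
  rcases h.eq_or_eq hv.ne_one hcd hc hd (hg c hc) (hg d hd) with rfl | rfl
  · exact hv.ne_one (by rw [← e, mul_one])
  · exact hv.ne_one (by rw [← e, mul_self_of_order hv.1])

theorem card_eq (hF : 2 ≤ Fintype.card F) :
    Nat.card X = 2 * (Fintype.card F * (Fintype.card F - 1)) := by
  obtain ⟨c, d, hcd⟩ := Fintype.exists_pair_of_one_lt_card hF
  rw [card_group h.two hcd, h.pair c d hcd]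
  ring

end HalfSharp

/-! ### The centraliser of a big involution on its fixed points -/

/-- The centraliser of `v` acts on the fixed points of `v`. -/
@[reducible] def fixAct (v : X) : MulAction (centralizer ({v} : Set X)) (fixedBy F v) where
  smul g a := ⟨(g : X) • (a : F), by
    show v • (g : X) • (a : F) = (g : X) • (a : F)
    rw [← mul_smul, ← mem_centralizer_singleton_iff.1 g.2, mul_smul, a.2]⟩
  one_smul a := Subtype.ext (one_smul X (a : F))
  mul_smul g g' a := Subtype.ext (mul_smul (g : X) g' (a : F))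

attribute [local instance] fixAct

theorem fix_smul_coe {v : X} (g : centralizer ({v} : Set X)) (a : fixedBy F v) :
    ((g • a : fixedBy F v) : F) = (g : X) • (a : F) := rfl

theorem fix_two (h : HalfSharp X F) {v : X} (hv : Big F v) :
    IsMultiplyPretransitive (centralizer ({v} : Set X)) (fixedBy F v) 2 := by
  rw [is_two_pretransitive_iff]
  intro a b c d hab hcd
  have hab' : (a : F) ≠ b := fun e => hab (Subtype.ext e)
  have hcd' : (c : F) ≠ d := fun e => hcd (Subtype.ext e)
  obtain ⟨g, hga, hgb⟩ := exists_smul_pair h.two hab' hcd'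
  have hgv : g * v * g⁻¹ = v := (h.eq_or_eq hv.ne_one hcd' c.2 d.2
    (by rw [← hga, mul_smul, mul_smul, inv_smul_smul, a.2])
    (by rw [← hgb, mul_smul, mul_smul, inv_smul_smul, b.2])).resolve_left (hv.conj g).ne_one
  exact ⟨⟨g, mem_centralizer_singleton_iff.2 (mul_inv_eq_iff_eq_mul.1 hgv)⟩,
    Subtype.ext hga, Subtype.ext hgb⟩

theorem fix_pair_card (h : HalfSharp X F) {v : X} (hv : Big F v) {c d : fixedBy F v} (hcd : c ≠ d) :
    Nat.card ↥(stabilizer (centralizer ({v} : Set X)) c ⊓
      stabilizer (centralizer ({v} : Set X)) d) = 2 := by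
  have hcd' : (c : F) ≠ d := fun e => hcd (Subtype.ext e)
  rw [← h.pair c d hcd']
  refine Nat.card_congr
    ⟨fun g => ⟨(g.1 : X), congrArg Subtype.val g.2.1, congrArg Subtype.val g.2.2⟩,
      fun g => ⟨⟨g.1, mem_centralizer_singleton_iff.2 ?_⟩, Subtype.ext g.2.1, Subtype.ext g.2.2⟩,
      fun g => rfl, fun g => rfl⟩
  rcases h.eq_or_eq hv.ne_one hcd' c.2 d.2 g.2.1 g.2.2 with e | e <;> simp [e]

theorem HalfSharp.card_centralizer (h : HalfSharp X F) {v : X} (hv : Big F v) :
    Nat.card (centralizer ({v} : Set X)) =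
      2 * (Nat.card (fixedBy F v) * (Nat.card (fixedBy F v) - 1)) := by
  classical
  have hk : 1 < Fintype.card (fixedBy F v) := by
    rw [← Nat.card_eq_fintype_card]; exact hv.2
  obtain ⟨c, d, hcd⟩ := Fintype.exists_pair_of_one_lt_card hk
  rw [card_group (fix_two h hv) hcd, fix_pair_card h hv hcd, Nat.card_eq_fintype_card]
  ring

/-- The permutation group induced on the fixed points. -/
def fixRange (F : Type*) {X : Type*} [Group X] [MulAction X F] [Finite X] [Fintype F] (v : X) :
    Subgroup (Equiv.Perm (fixedBy F v)) :=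
  (toPermHom (centralizer ({v} : Set X)) (fixedBy F v)).range

theorem fix_pair_trivial (h : HalfSharp X F) {v : X} (hv : Big F v) {c d : fixedBy F v}
    (hcd : c ≠ d) {g : centralizer ({v} : Set X)} (hc : g • c = c) (hd : g • d = d)
    (a : fixedBy F v) : g • a = a := by
  apply Subtype.ext
  rw [fix_smul_coe]
  rcases h.eq_or_eq hv.ne_one (fun e => hcd (Subtype.ext e)) c.2 d.2
    (congrArg Subtype.val hc) (congrArg Subtype.val hd) with e | e <;> rw [e]
  · exact one_smul _ _
  · exact a.2

theorem fix_sharp (h : HalfSharp X F) {v : X} (hv : Big F v) :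
    Sharp (fixRange F v) (fixedBy F v) where
  faith := inferInstance
  two := by
    have h2 := fix_two h hv
    rw [is_two_pretransitive_iff] at h2 ⊢
    intro a b c d hab hcd
    obtain ⟨g, hga, hgb⟩ := h2 hab hcd
    exact ⟨⟨toPermHom (centralizer ({v} : Set X)) (fixedBy F v) g, g, rfl⟩, hga, hgb⟩
  pair := by
    rintro c d hcd ⟨σ, g, rfl⟩ hc hd
    apply Subtype.ext
    ext1 a
    exact fix_pair_trivial h hv hcd hc hd a

theorem HalfSharp.fix_two_pow (h : HalfSharp X F) {v : X} (hv : Big F v)
    (hk : Even (Nat.card (fixedBy F v))) : ∃ i, Nat.card (fixedBy F v) = 2 ^ i := by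
  classical
  rw [Nat.card_eq_fintype_card] at hk ⊢
  have hS := fix_sharp h hv
  have hk2 : 2 ≤ Fintype.card (fixedBy F v) := by rw [← Nat.card_eq_fintype_card]; exact hv.2
  obtain ⟨-, p, j, hp, -, hj, -⟩ := sharply_two_structure (fixRange F v) hS.two (fun e => by
    rw [Subgroup.eq_bot_iff_forall]
    intro g hg
    rw [mem_stabilizer_iff] at hg
    exact hS.pair (e 0) (e 1) (by simp) g (congrArg (fun f => f 0) hg)
      (congrArg (fun f => f 1) hg)) hk2
  refine ⟨j, ?_⟩
  have : 2 ∣ p ^ j := hj ▸ hk.two_dvd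
  rw [hj, (Nat.prime_dvd_prime_iff_eq Nat.prime_two hp).1 (Nat.prime_two.dvd_of_dvd_pow this)]

namespace HalfSharp

variable (h : HalfSharp X F)
include h

theorem swap_order {c d : F} (hcd : c ≠ d) {g : X} (hc : g • c = d) (hd : g • d = c) :
    orderOf g = 2 :=
  order_of_mul_self (h.swap c d hcd g hc hd) fun e => hcd (by rw [← hc, e, one_smul])

theorem swappers_eq {c d : F} (hcd : c ≠ d) {x y z : X} (hxy : x ≠ y)
    (hxc : x • c = d) (hxd : x • d = c) (hyc : y • c = d) (hyd : y • d = c)
    (hzc : z • c = d) (hzd : z • d = c) : z = x ∨ z = y := by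
  have f : ∀ w : X, w • c = d → w • d = c → (x⁻¹ * w) • c = c ∧ (x⁻¹ * w) • d = d :=
    fun w h1 h2 => ⟨by rw [mul_smul, h1, inv_smul_eq_iff, hxc],
      by rw [mul_smul, h2, inv_smul_eq_iff, hxd]⟩
  rcases h.eq_or_eq (v := x⁻¹ * y) (fun e => hxy (inv_mul_eq_one.1 e)) hcd (f y hyc hyd).1
    (f y hyc hyd).2 (f z hzc hzd).1 (f z hzc hzd).2 with e | e
  · exact Or.inl (inv_mul_eq_one.1 e).symm
  · exact Or.inr (mul_left_cancel e)

theorem one_or_two {v : X} (hv : Big F v) (hmk : Nat.card (fixedBy F v) < Fintype.card F) :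
    (Fintype.card F = Nat.card (fixedBy F v) * Nat.card (fixedBy F v) ∧
      ∀ c d : F, c ≠ d → ∀ x y : X, x ≠ y → x • c = d → x • d = c → y • c = d → y • d = c →
        (Big F x ↔ ¬ Big F y)) ∨
    (Fintype.card F = Nat.card (fixedBy F v) * (2 * Nat.card (fixedBy F v) - 1) ∧
      ∀ c d : F, c ≠ d → ∀ x : X, x • c = d → x • d = c → Big F x) := by
  classical
  have := Fintype.ofFinite X
  set k := Nat.card (fixedBy F v) with hk
  set m := Fintype.card F with hm
  have hm2 : 2 ≤ m := le_trans hv.2 hmk.le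
  set S : F × F → Finset X := fun p =>
    Finset.univ.filter fun x => Big F x ∧ x • p.1 = p.2 ∧ x • p.2 = p.1 with hS
  set B : Finset X := Finset.univ.filter fun x => Big F x with hB
  set D : Finset (F × F) := (Finset.univ : Finset F).offDiag with hD
  -- the number of big swappers does not depend on the pair
  have hconst : ∀ p ∈ D, ∀ q ∈ D, (S p).card ≤ (S q).card := by
    intro p hp q hq
    rw [hD, Finset.mem_offDiag] at hp hq
    obtain ⟨g, hg1, hg2⟩ := exists_smul_pair h.two hp.2.2 hq.2.2
    refine Finset.card_le_card_of_injOn (fun x => g * x * g⁻¹) ?_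
      (fun x _ y _ e => mul_left_cancel (mul_right_cancel e))
    intro x hx
    simp only [hS, Finset.coe_filter, Set.mem_ofPred_eq, Finset.mem_univ, true_and] at hx ⊢
    exact ⟨hx.1.conj g, by rw [← hg1, ← hg2, mul_smul, mul_smul, inv_smul_smul, hx.2.1],
      by rw [← hg1, ← hg2, mul_smul, mul_smul, inv_smul_smul, hx.2.2]⟩
  obtain ⟨c₀, d₀, hcd₀⟩ := Fintype.exists_pair_of_one_lt_card (α := F) hm2
  set e := (S (c₀, d₀)).card with he
  have heq : ∀ p ∈ D, (S p).card = e := fun p hp =>
    le_antisymm (hconst p hp _ (by simp [hD, hcd₀])) (hconst _ (by simp [hD, hcd₀]) p hp)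
  -- double counting
  have hcount : D.card * e = B.card * (m - k) := by
    have h1 := Finset.sum_card_bipartiteAbove_eq_sum_card_bipartiteBelow
      (s := D) (t := B) (fun (p : F × F) (x : X) => x • p.1 = p.2 ∧ x • p.2 = p.1)
    have hl : ∀ p ∈ D, (Finset.bipartiteAbove
        (fun (p : F × F) (x : X) => x • p.1 = p.2 ∧ x • p.2 = p.1) B p).card = e := by
      intro p hp
      rw [← heq p hp]
      congr 1
      ext x
      simp [Finset.bipartiteAbove, hS, hB, and_assoc]
    have hr : ∀ x ∈ B, (Finset.bipartiteBelow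
        (fun (p : F × F) (x : X) => x • p.1 = p.2 ∧ x • p.2 = p.1) D x).card = m - k := by
      intro x hx
      rw [hB, Finset.mem_filter] at hx
      rw [hm, hk, ← h.fix_card_eq hx.2 hv, Nat.card_eq_fintype_card,
        ← Fintype.card_compl_set, ← Fintype.card_coe]
      refine Fintype.card_congr ⟨fun p => ⟨p.1.1, ?_⟩, fun a => ⟨(a.1, x • a.1), ?_⟩, ?_, ?_⟩
      · have := p.2
        simp only [Finset.bipartiteBelow, Finset.mem_filter, hD, Finset.mem_offDiag] at this
        simp only [Set.mem_compl_iff, mem_fixedBy, this.2.1]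
        exact Ne.symm this.1.2.2
      · simp only [Finset.bipartiteBelow, Finset.mem_filter, hD, Finset.mem_offDiag,
          Finset.mem_univ, true_and]
        exact ⟨fun e => a.2 e.symm, invol_smul_smul (mul_self_of_order hx.2.1) _⟩
      · rintro ⟨⟨a, b⟩, hp⟩
        simp only [Finset.bipartiteBelow, Finset.mem_filter] at hp
        apply Subtype.ext
        exact Prod.ext rfl hp.2.1
      · intro a; rfl
    rw [Finset.sum_congr rfl hl, Finset.sum_congr rfl hr, Finset.sum_const, Finset.sum_const,
      smul_eq_mul, smul_eq_mul] at h1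
    exact h1
  have hD' : D.card = m * (m - 1) := by
    rw [hD, Finset.offDiag_card, Finset.card_univ, ← hm, Nat.mul_sub_one]
  -- the number of big involutions
  have hBc : B.card * Nat.card (centralizer ({v} : Set X)) = Nat.card X := by
    have h1 : Nat.card (centralizer ({v} : Set X)) =
        Nat.card (stabilizer (ConjAct X) v) := by
      rw [ConjAct.stabilizer_eq_centralizer]
      exact Nat.card_congr
        { toFun := fun g => ⟨ConjAct.toConjAct g.1, g.2⟩
          invFun := fun g => ⟨ConjAct.ofConjAct g.1, g.2⟩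
          left_inv := fun g => rfl
          right_inv := fun g => rfl }
    have h2 : orbit (ConjAct X) v = (B : Set X) := by
      ext x
      rw [ConjAct.mem_orbit_conjAct, Finset.mem_coe, hB, Finset.mem_filter]
      constructor
      · intro hx
        obtain ⟨g, rfl⟩ := isConj_iff.1 hx.symm
        exact ⟨Finset.mem_univ _, hv.conj g⟩
      · exact fun hx => (h.isConj_big hv hx.2).symm
    have h3 := Subgroup.index_mul_card (stabilizer (ConjAct X) v)
    rw [index_stabilizer, h2, Set.ncard_coe_finset, ← h1] at h3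
    exact h3.trans (Nat.card_congr ConjAct.ofConjAct.toEquiv)
  rw [h.card_centralizer hv, h.card_eq hm2, ← hk, ← hm] at hBc
  rw [hD'] at hcount
  have hk2 : 2 ≤ k := hv.2
  -- solve
  have hkey : m - k = e * (k * (k - 1)) := by
    have h4 : B.card * (m - k) * (2 * (k * (k - 1))) = 2 * (m * (m - 1)) * (m - k) := by
      rw [← hBc]; ring
    rw [← hcount] at h4
    have hpos : 0 < 2 * (m * (m - 1)) :=
      Nat.mul_pos two_pos (Nat.mul_pos (by omega) (by omega))
    refine Nat.eq_of_mul_eq_mul_left hpos ?_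
    rw [← h4]; ring
  have hsw : ∀ c d : F, c ≠ d → ∃ x y : X, x ≠ y ∧ (x • c = d ∧ x • d = c) ∧
      (y • c = d ∧ y • d = c) := by
    intro c d hcd
    obtain ⟨g, hgc, hgd⟩ := exists_smul_pair h.two hcd (Ne.symm hcd)
    obtain ⟨s, hs, hsc, hsd⟩ := h.exists_pair_invol hcd
    refine ⟨g, g * s, fun e => ?_, ⟨hgc, hgd⟩, by rw [mul_smul, hsc, hgc], by rw [mul_smul, hsd, hgd]⟩
    rw [left_eq_mul] at e
    rw [e, orderOf_one] at hs
    norm_num at hs
  have hsub : ∀ c d : F, c ≠ d → ∀ x y : X, x ≠ y → (x • c = d ∧ x • d = c) →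
      (y • c = d ∧ y • d = c) →
        (S (c, d)).card = (if Big F x then 1 else 0) + (if Big F y then 1 else 0) := by
    intro c d hcd x y hxy hx hy
    have : S (c, d) = ({x, y} : Finset X).filter fun z => Big F z := by
      ext z
      simp only [hS, Finset.mem_filter, Finset.mem_univ, true_and, Finset.mem_insert,
        Finset.mem_singleton]
      constructor
      · rintro ⟨hz, h1, h2⟩
        exact ⟨h.swappers_eq hcd hxy hx.1 hx.2 hy.1 hy.2 h1 h2, hz⟩
      · rintro ⟨rfl | rfl, hz⟩
        · exact ⟨hz, hx⟩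
        · exact ⟨hz, hy⟩
    rw [this]
    by_cases hbx : Big F x <;> by_cases hby : Big F y <;>
      simp [Finset.filter_insert, Finset.filter_singleton, hbx, hby, hxy]
  have he2 : e = 1 ∨ e = 2 := by
    obtain ⟨x, y, hxy, hx, hy⟩ := hsw c₀ d₀ hcd₀
    have h5 : e ≤ 2 := by
      rw [he, hsub c₀ d₀ hcd₀ x y hxy hx hy]
      split_ifs <;> omega
    rcases Nat.eq_zero_or_pos e with h0 | h0
    · rw [h0, zero_mul] at hkey; omega
    · omega
  obtain ⟨q, hq⟩ : ∃ q, k = q + 1 := ⟨k - 1, by omega⟩
  rcases he2 with h1 | h2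
  · left
    refine ⟨?_, fun c d hcd x y hxy hxc hxd hyc hyd => ?_⟩
    · rw [h1, one_mul, hq, Nat.add_sub_cancel] at hkey
      have : m = (q + 1) * q + (q + 1) := by omega
      rw [this, hq]; ring
    · have h6 := hsub c d hcd x y hxy ⟨hxc, hxd⟩ ⟨hyc, hyd⟩
      rw [heq (c, d) (by simp [hD, hcd]), h1] at h6
      by_cases hbx : Big F x <;> by_cases hby : Big F y <;> simp [hbx, hby] at h6 ⊢
  · right
    refine ⟨?_, fun c d hcd x hxc hxd => ?_⟩
    · rw [h2, hq, Nat.add_sub_cancel] at hkey
      have : m = 2 * ((q + 1) * q) + (q + 1) := by omega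
      rw [this, hq, show 2 * (q + 1) - 1 = 2 * q + 1 by omega]; ring
    · obtain ⟨a, b, hab, ha, hb⟩ := hsw c d hcd
      have h6 := hsub c d hcd a b hab ha hb
      rw [heq (c, d) (by simp [hD, hcd]), h2] at h6
      have hbig : Big F a ∧ Big F b := by
        by_cases hba : Big F a <;> by_cases hbb : Big F b <;> simp [hba, hbb] at h6 ⊢
      rcases h.swappers_eq hcd hab ha.1 ha.2 hb.1 hb.2 hxc hxd with rfl | rfl
      · exact hbig.1
      · exact hbig.2

/-- With one big swapper for each pair, no three big involutions form a Klein group. -/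
theorem big_commute_false
    (one : ∀ c d : F, c ≠ d → ∀ x y : X, x ≠ y → x • c = d → x • d = c → y • c = d → y • d = c →
      (Big F x ↔ ¬ Big F y))
    {x y : X} (hx : Big F x) (hy : Big F y) (hxy : Big F (x * y)) (hc : Commute x y) : False := by
  obtain ⟨c, hxc, hyc⟩ : ∃ c : F, x • c = c ∧ y • c ≠ c := by
    by_contra hne
    push Not at hne
    obtain ⟨c, d, hcd, hxc, hxd⟩ := hx.exists_pair
    have h1 := (h.eq_or_eq hx.ne_one hcd hxc hxd (hne c hxc) (hne d hxd)).resolve_left hy.ne_one
    exact hxy.ne_one (by rw [h1, mul_self_of_order hx.1])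
  have hy2 := mul_self_of_order hy.1
  refine (one c (y • c) (Ne.symm hyc) y (x * y) ?_ rfl (invol_smul_smul hy2 c) ?_ ?_).1 hy hxy
  · intro e
    rw [right_eq_mul] at e
    exact hx.ne_one e
  · rw [hc.eq, mul_smul, hxc]
  · rw [mul_smul, invol_smul_smul hy2, hxc]

theorem big_of_two
    (two : ∀ c d : F, c ≠ d → ∀ x : X, x • c = d → x • d = c → Big F x)
    {s : X} (hs : orderOf s = 2) : Big F s := by
  have := h.faith
  obtain ⟨c, hc⟩ : ∃ c : F, s • c ≠ c := by
    by_contra hne
    push Not at hne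
    have h1 : s = 1 := eq_of_smul_eq_smul (α := F) fun a => by rw [hne a, one_smul]
    rw [h1, orderOf_one] at hs
    norm_num at hs
  exact two c (s • c) (Ne.symm hc) s rfl (invol_smul_smul (mul_self_of_order hs) c)

theorem sq_eq_one_of_two
    (two : ∀ c d : F, c ≠ d → ∀ x : X, x • c = d → x • d = c → Big F x) :
    ∀ (i : ℕ) (g : X), g ^ (2 ^ i) = 1 → g * g = 1 := by
  intro i
  induction i with
  | zero => intro g hg; rw [pow_zero, pow_one] at hg; rw [hg, mul_one]
  | succ i ih =>
    intro g hg
    rw [pow_succ', pow_mul, pow_two] at hg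
    by_contra hne
    exact h.sq_ne (h.big_of_two two (order_of_mul_self (ih _ hg) hne)) g rfl

end HalfSharp

/-- All involutions big and odd fixed point number: Klein Sylow 2-subgroups. -/
theorem HalfSharp.klein (h : HalfSharp X F)
    (two : ∀ c d : F, c ≠ d → ∀ x : X, x • c = d → x • d = c → Big F x)
    {v₀ : X} (hv₀ : Big F v₀) (hk : Odd (Nat.card (fixedBy F v₀)))
    (hm : Fintype.card F = Nat.card (fixedBy F v₀) * (2 * Nat.card (fixedBy F v₀) - 1)) :
    (∀ s t : X, orderOf s = 2 → orderOf t = 2 → IsConj s t) ∧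
      ∀ P : Sylow 2 X, IsKleinFour (P : Subgroup X) ∧
        Nat.card (centralizer ((P : Subgroup X) : Set X)) =
          2 * (Nat.card (fixedBy F v₀) - 1) := by
  classical
  have big := fun {s : X} (hs : orderOf s = 2) => h.big_of_two two hs
  refine ⟨fun s t hs ht => h.isConj_big (big hs) (big ht), fun P => ?_⟩
  have hexp : ∀ z ∈ (P : Subgroup X), z * z = 1 := by
    intro z hz
    obtain ⟨i, hi⟩ := P.isPGroup' ⟨z, hz⟩
    exact h.sq_eq_one_of_two two i z (congrArg Subtype.val hi)
  have hcomm : ∀ z ∈ (P : Subgroup X), ∀ w ∈ (P : Subgroup X), z * w = w * z := by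
    intro z hz w hw
    have e := fun u hu => eq_inv_of_mul_eq_one_left (hexp u hu)
    calc z * w = (z * w)⁻¹ := e _ (mul_mem hz hw)
      _ = w * z := by rw [mul_inv_rev, ← e z hz, ← e w hw]
  set k₀ := Nat.card (fixedBy F v₀) with hk₀
  have hk3 : 3 ≤ k₀ := by
    obtain ⟨q, hq⟩ := hk
    have := hv₀.2
    omega
  have hmodd : Odd (Fintype.card F) := by
    rw [hm]; exact hk.mul ⟨k₀ - 1, by omega⟩
  -- the order is divisible by four
  have h4 : 4 ∣ Nat.card (P : Subgroup X) := by
    have hX : 2 ^ 2 ∣ Nat.card X := by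
      rw [h.card_eq (by rw [hm]; exact le_trans (by omega : 2 ≤ k₀) (Nat.le_mul_of_pos_right _ (by omega))), show (2 : ℕ) ^ 2 = 2 * 2 from rfl]
      refine Nat.mul_dvd_mul_left 2 (Dvd.dvd.mul_left ?_ _)
      obtain ⟨q, hq⟩ := hmodd
      exact ⟨q, by omega⟩
    exact P.pow_dvd_card_of_pow_dvd_card hX
  obtain ⟨v, hvP, hv1⟩ : ∃ v ∈ (P : Subgroup X), v ≠ 1 := by
    by_contra hne
    push Not at hne
    rw [Subgroup.card_eq_one.2 ((Subgroup.eq_bot_iff_forall _).2 hne)] at h4
    norm_num at h4
  have hv : Big F v := big (order_of_mul_self (hexp v hvP) hv1)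
  have hkv : Nat.card (fixedBy F v) = k₀ := h.fix_card_eq hv hv₀
  have hPC : (P : Subgroup X) ≤ centralizer ({v} : Set X) :=
    fun z hz => mem_centralizer_singleton_iff.2 (hcomm z hz v hvP)
  have hS := fix_sharp h hv
  have hko : Odd (Fintype.card (fixedBy F v)) := by rw [← Nat.card_eq_fintype_card, hkv]; exact hk
  set π : centralizer ({v} : Set X) →* fixRange F v :=
    (toPermHom (centralizer ({v} : Set X)) (fixedBy F v)).rangeRestrict with hπ
  have hker : ∀ g : centralizer ({v} : Set X), π g = 1 → (g : X) = 1 ∨ (g : X) = v := by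
    intro g hg
    obtain ⟨c, d, hcd, hc, hd⟩ := hv.exists_pair
    have f : ∀ a : fixedBy F v, g • a = a := fun a =>
      Equiv.ext_iff.1 (Subtype.ext_iff.1 hg) a
    exact h.eq_or_eq hv.ne_one hcd hc hd (congrArg Subtype.val (f ⟨c, hc⟩))
      (congrArg Subtype.val (f ⟨d, hd⟩))
  obtain ⟨x, hxP, hx1, hxv⟩ : ∃ x ∈ (P : Subgroup X), x ≠ 1 ∧ x ≠ v := by
    by_contra hne
    push Not at hne
    have : Nat.card (P : Subgroup X) ≤ 2 := by
      calc Nat.card ((P : Subgroup X) : Set X) = ((P : Subgroup X) : Set X).ncard :=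
            Nat.card_coe_set_eq _
        _ ≤ ({1, v} : Set X).ncard := Set.ncard_le_ncard fun z hz => by
            by_cases hz1 : z = 1
            · exact Or.inl hz1
            · exact Or.inr (hne z hz hz1)
        _ ≤ 2 := by
            refine (Set.ncard_insert_le _ _).trans ?_
            rw [Set.ncard_singleton]
    have := Nat.le_of_dvd Nat.card_pos h4
    omega
  set xC : centralizer ({v} : Set X) := ⟨x, hPC hxP⟩ with hxC
  have hπo : ∀ z : centralizer ({v} : Set X), (z : X) ∈ (P : Subgroup X) → π z ≠ 1 →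
      orderOf (π z) = 2 := fun z hz hne =>
    order_of_mul_self (by
      rw [← map_mul, show z * z = 1 from Subtype.ext (hexp z hz), map_one]) hne
  have hπx : π xC ≠ 1 := fun e => by rcases hker xC e with e | e <;> [exact hx1 e; exact hxv e]
  have hcases : ∀ z ∈ (P : Subgroup X), z = 1 ∨ z = v ∨ z = x ∨ z = x * v := by
    intro z hz
    by_cases he : π ⟨z, hPC hz⟩ = 1
    · rcases hker _ he with e | e
      · exact Or.inl e
      · exact Or.inr (Or.inl e)
    · have hc : Commute (π xC) (π ⟨z, hPC hz⟩) :=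
        (show Commute xC ⟨z, hPC hz⟩ from Subtype.ext (hcomm x hxP z hz)).map π
      have e := Sharp.invol_unique hS hko (hπo xC hxP hπx) (hπo _ hz he) hc
      have e2 : π (xC⁻¹ * ⟨z, hPC hz⟩) = 1 := by rw [map_mul, map_inv, e, inv_mul_cancel]
      rcases hker _ e2 with e' | e'
      · exact Or.inr (Or.inr (Or.inl (inv_mul_eq_one.1 e').symm))
      · exact Or.inr (Or.inr (Or.inr (inv_mul_eq_iff_eq_mul.1 e')))
  have hP4 : Nat.card (P : Subgroup X) = 4 := by
    refine le_antisymm ?_ (Nat.le_of_dvd Nat.card_pos h4)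
    calc Nat.card (P : Subgroup X) = ((P : Subgroup X) : Set X).ncard := Nat.card_coe_set_eq _
      _ ≤ ({1, v, x, x * v} : Set X).ncard := Set.ncard_le_ncard fun z hz => by
          simpa using hcases z hz
      _ ≤ 4 := by
          refine (Set.ncard_insert_le _ _).trans (Nat.succ_le_succ ?_)
          refine (Set.ncard_insert_le _ _).trans (Nat.succ_le_succ ?_)
          refine (Set.ncard_insert_le _ _).trans (Nat.succ_le_succ ?_)
          rw [Set.ncard_singleton]
  refine ⟨⟨hP4, ?_⟩, ?_⟩
  · refine Nat.dvd_antisymm (Monoid.exponent_dvd_of_forall_pow_eq_one fun z => ?_) ?_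
    · exact Subtype.ext (by rw [SubmonoidClass.coe_pow, pow_two]; exact hexp _ z.2)
    · have h2 : orderOf (⟨v, hvP⟩ : (P : Subgroup X)) = 2 := by
        rw [Subgroup.orderOf_mk]; exact hv.1
      have h3 := Monoid.order_dvd_exponent (⟨v, hvP⟩ : (P : Subgroup X))
      rwa [h2] at h3
  obtain ⟨c, hxc, hcu⟩ := Sharp.fix_card hS hko (hπo xC hxP hπx)
  have hxcF : x • (c : F) = c := congrArg Subtype.val hxc
  -- the centraliser of P is the stabiliser of that point in the centraliser of v
  have hCP : ∀ g : X, g ∈ centralizer ((P : Subgroup X) : Set X) ↔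
      g * v = v * g ∧ g • (c : F) = c := by
    intro g
    rw [mem_centralizer_iff]
    constructor
    · intro hg
      have hgv : g * v = v * g := (hg v hvP).symm
      refine ⟨hgv, ?_⟩
      set gC : centralizer ({v} : Set X) := ⟨g, mem_centralizer_singleton_iff.2 hgv⟩
      have : π xC • gC • c = gC • c := by
        apply Subtype.ext
        show x • g • (c : F) = g • (c : F)
        rw [← mul_smul, hg x hxP, mul_smul, hxcF]
      exact congrArg Subtype.val (hcu _ this)
    · rintro ⟨hgv, hgc⟩
      suffices hgx : g * x = x * g by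
        intro z hz
        rcases hcases z hz with rfl | rfl | rfl | rfl
        · rw [one_mul, mul_one]
        · exact hgv.symm
        · exact hgx.symm
        · exact (Commute.mul_left (show Commute x g from hgx.symm) (show Commute v g from hgv.symm)).eq
      set gC : centralizer ({v} : Set X) := ⟨g, mem_centralizer_singleton_iff.2 hgv⟩
      have hcent := Sharp.centralizer_eq hS hko (hπo xC hxP hπx) hxc
      have hmem : π gC ∈ centralizer ({π xC} : Set (fixRange F v)) := by
        rw [hcent, mem_stabilizer_iff]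
        exact Subtype.ext hgc
      rw [mem_centralizer_singleton_iff] at hmem
      have e2 : π (xC⁻¹ * (gC * xC * gC⁻¹)) = 1 := by
        rw [map_mul, map_mul, map_mul, map_inv, map_inv, hmem, mul_inv_cancel_right,
          inv_mul_cancel]
      rcases hker _ e2 with e | e
      · exact mul_inv_eq_iff_eq_mul.1 (inv_mul_eq_one.1 e).symm
      · exfalso
        have hconj : g * x * g⁻¹ = x * v := inv_mul_eq_iff_eq_mul.1 e
        have hxvc : x * v = v * x := hcomm x hxP v hvP
        obtain ⟨i, q, hq, ho⟩ := Nat.exists_eq_two_pow_mul_odd (orderOf_pos g).ne'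
        obtain ⟨j, rfl⟩ := hq
        have hg2 : g ^ 2 * x = x * g ^ 2 := by
          rw [← mul_inv_eq_iff_eq_mul]
          calc g ^ 2 * x * (g ^ 2)⁻¹ = g * (g * x * g⁻¹) * g⁻¹ := by
                rw [pow_two, mul_inv_rev]; simp only [mul_assoc]
            _ = g * (x * v) * g⁻¹ := by rw [hconj]
            _ = g * x * g⁻¹ * (g * v * g⁻¹) := conj_mul.symm
            _ = x * v * v := by rw [hconj, hgv, mul_inv_cancel_right]
            _ = x := by rw [mul_assoc, hexp v hvP, mul_one]
        set u := g ^ (2 * j + 1) with hu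
        have hu2 : u * u = 1 := h.sq_eq_one_of_two two i u (by
          rw [hu, ← pow_mul, mul_comm, ← ho, pow_orderOf_eq_one])
        have huc : u * x * u⁻¹ = x * v := by
          have h1 : Commute ((g ^ 2) ^ j) (x * v) :=
            ((show Commute (g ^ 2) x from hg2).mul_right
              ((show Commute g v from hgv).pow_left 2)).pow_left j
          rw [hu, pow_succ, pow_mul, mul_inv_rev, mul_assoc _ g x, ← mul_assoc, mul_assoc _ (g * x),
            hconj, h1.eq, mul_inv_cancel_right]
        have hsq : (u * x) * (u * x) = v := by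
          have h1 : u⁻¹ = u := inv_eq_of_mul_eq_one_left hu2
          rw [h1] at huc
          rw [← mul_assoc, huc, hxvc, mul_assoc, hexp x hxP, mul_one]
        exact h.sq_ne hv _ hsq
  have hcd : ∃ d : fixedBy F v, c ≠ d := by
    have : 1 < Fintype.card (fixedBy F v) := by rw [← Nat.card_eq_fintype_card]; exact hv.2
    obtain ⟨d, hd⟩ := Fintype.exists_ne_of_one_lt_card this c
    exact ⟨d, Ne.symm hd⟩
  obtain ⟨d, hcd⟩ := hcd
  have h5 := card_stab (fix_two h hv) hcd
  rw [fix_pair_card h hv hcd, ← Nat.card_eq_fintype_card, hkv] at h5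
  rw [mul_comm, ← h5]
  exact Nat.card_congr
    { toFun := fun g => ⟨⟨g.1, mem_centralizer_singleton_iff.2 ((hCP g.1).1 g.2).1⟩,
        Subtype.ext ((hCP g.1).1 g.2).2⟩
      invFun := fun g => ⟨g.1.1, (hCP g.1.1).2
        ⟨mem_centralizer_singleton_iff.1 g.1.2, congrArg Subtype.val g.2⟩⟩
      left_inv := fun g => rfl
      right_inv := fun g => rfl }

end CfsgLib.Perm.TwoPointFive
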