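import Cfsg.Agent.Lib.Perm.TwoPointFive.Swap
import Cfsg.Agent.Lib.Perm.TwoPointFive.Induced

/-!
The group induced by the centraliser of an involution on its fixed points.
-/

set_option autoImplicit false
set_option linter.unusedSectionVars false

namespace CfsgLib.Perm.TwoPointFive

open MulAction

variable {G Ω : Type*} [Group G] [MulAction G Ω]

attribute [local instance] fixAct

namespace Base

variable (h : Hyp G Ω) (B : Base G Ω)

/-- The induced group. -/
abbrev Ind : Subgroup (Equiv.Perm (fixedBy Ω B.t)) :=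
  (toPermHom (Subgroup.centralizer ({B.t} : Set G)) (fixedBy Ω B.t)).range

/-- The projection to it. -/
noncomputable def ind : Subgroup.centralizer ({B.t} : Set G) →* B.Ind :=
  (toPermHom (Subgroup.centralizer ({B.t} : Set G)) (fixedBy Ω B.t)).rangeRestrict

theorem ind_surj : Function.Surjective B.ind := MonoidHom.rangeRestrict_surjective _

theorem ind_smul (g : Subgroup.centralizer ({B.t} : Set G)) (x : fixedBy Ω B.t) :
    ((B.ind g • x : fixedBy Ω B.t) : Ω) = (g : G) • (x : Ω) := rfl

theorem card_fix : Nat.card (fixedBy Ω B.t) = B.m := Nat.card_coe_set_eq _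

theorem ind_eq_one_iff (g : Subgroup.centralizer ({B.t} : Set G)) :
    B.ind g = 1 ↔ ∀ x ∈ B.F, (g : G) • x = x := by
  constructor
  · intro e x hx
    have h1 := B.ind_smul g ⟨x, hx⟩
    rw [e, one_smul] at h1
    exact h1.symm
  · intro e
    refine Subtype.ext (Equiv.ext fun x => ?_)
    show (B.ind g • x : fixedBy Ω B.t) = x
    exact Subtype.ext ((B.ind_smul g x).trans (e x x.2))

theorem t_mem : B.t ∈ Subgroup.centralizer ({B.t} : Set G) :=
  Subgroup.mem_centralizer_singleton_iff.2 rfl

theorem v_mem : B.v ∈ Subgroup.centralizer ({B.t} : Set G) :=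
  Subgroup.mem_centralizer_singleton_iff.2 B.hcomm.symm.eq

theorem v_smul_of_full [Finite Ω] (hkm : B.k = B.m) {x : Ω} (hx : x ∈ B.F) : B.v • x = x := by
  have e : B.FV = B.F :=
    Set.eq_of_subset_of_ncard_le Set.inter_subset_left (le_of_eq hkm.symm) (Set.toFinite _)
  exact (e.symm ▸ hx : x ∈ B.FV).2

/-- Change of the two points inside the fixed points of `t`, moving the second involution. -/
def withMove {g : G} (hg : Commute g B.t) : Base G Ω where
  a := g • B.a
  b := g • B.b
  t := B.t
  v := g * B.v * g⁻¹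
  hab := fun e => B.hab (MulAction.injective g e)
  ht := B.ht
  hv := orderOf_conj_two g B.hv
  hne := fun e => B.hne (by
    have : g * B.t * g⁻¹ = g * B.v * g⁻¹ := by rw [← e, hg.eq, mul_inv_cancel_right]
    exact mul_left_cancel (mul_right_cancel this))
  hcomm := (hg.symm.mul_right B.hcomm).mul_right hg.symm.inv_right
  hta := by rw [← mul_smul, ← hg.eq, mul_smul, B.hta]
  htb := by rw [← mul_smul, ← hg.eq, mul_smul, B.htb]
  hva := by rw [mul_smul, mul_smul, inv_smul_smul, B.hva]
  hvb := by rw [mul_smul, mul_smul, inv_smul_smul, B.hvb]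

theorem withMove_k [Finite Ω] {g : G} (hg : Commute g B.t) : (B.withMove hg).k = B.k := by
  have : (B.withMove hg).FV = (fun x => g • x) '' B.FV := by
    ext x
    constructor
    · rintro ⟨h1, h2⟩
      refine ⟨g⁻¹ • x, ⟨?_, ?_⟩, smul_inv_smul g x⟩
      · show B.t • g⁻¹ • x = g⁻¹ • x
        rw [← mul_smul, ← hg.inv_left.eq, mul_smul]
        exact congrArg _ h1
      · show B.v • g⁻¹ • x = g⁻¹ • x
        have h2' : g • B.v • g⁻¹ • x = x := by rw [← mul_smul, ← mul_smul]; exact h2
        exact eq_inv_smul_iff.2 h2'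
    · rintro ⟨y, ⟨h1, h2⟩, rfl⟩
      refine ⟨?_, ?_⟩
      · show B.t • g • y = g • y
        rw [← mul_smul, ← hg.eq, mul_smul]
        exact congrArg _ h1
      · show (g * B.v * g⁻¹) • g • y = g • y
        rw [mul_smul, mul_smul, inv_smul_smul]
        exact congrArg _ h2
  rw [k, this, Set.ncard_image_of_injective _ (MulAction.injective g)]
  rfl

include h

theorem even_sub [Finite G] [Fintype Ω] : Even (Fintype.card Ω - B.m) := by
  have h1 := even_moved (F := Ω) (mul_self_of_order_two B.ht)
  rwa [show Nat.card (fixedBy Ω B.t) = B.m from B.card_fix] at h1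

variable [Finite G] [Fintype Ω]

theorem ind_eq_one_half (hkm : B.k < B.m) (g : Subgroup.centralizer ({B.t} : Set G)) :
    B.ind g = 1 ↔ (g : G) = 1 ∨ (g : G) = B.t := by
  rw [B.ind_eq_one_iff]
  constructor
  · intro e
    have hv : ¬ ∀ x ∈ B.F, B.v • x = x := fun e' => by
      have : B.FV = B.F := Set.inter_eq_left.2 fun x hx => e' x hx
      exact hkm.ne (by rw [k, this]; rfl)
    rcases B.cases_of_fix h B.hab B.hta B.htb B.hva B.hvb (e _ B.ha) (e _ B.hb)
      (Subgroup.mem_centralizer_singleton_iff.1 g.2) with r | r | r | r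
    · exact Or.inl r
    · exact Or.inr r
    · exact absurd (fun x hx => r ▸ e x hx) hv
    · refine absurd (fun x hx => ?_) hv
      have h1 := e x hx
      rw [r, mul_smul] at h1
      exact MulAction.injective B.t (h1.trans (show B.t • x = x from hx).symm)
  · rintro (r | r) x hx <;> rw [r]
    · exact one_smul _ _
    · exact hx

theorem ind_eq_one_full (hkm : B.k = B.m) (g : Subgroup.centralizer ({B.t} : Set G)) :
    B.ind g = 1 ↔ (g : G) = 1 ∨ (g : G) = B.t ∨ (g : G) = B.v ∨ (g : G) = B.t * B.v := by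
  rw [B.ind_eq_one_iff]
  constructor
  · intro e
    exact B.cases_of_fix h B.hab B.hta B.htb B.hva B.hvb (e _ B.ha) (e _ B.hb)
      (Subgroup.mem_centralizer_singleton_iff.1 g.2)
  · rintro (r | r | r | r) x hx <;> rw [r]
    · exact one_smul _ _
    · exact hx
    · exact B.v_smul_of_full hkm hx
    · rw [mul_smul, B.v_smul_of_full hkm hx]; exact hx

theorem ind_two : IsMultiplyPretransitive B.Ind (fixedBy Ω B.t) 2 := by
  rw [is_two_pretransitive_iff]
  intro c d c' d' hcd hcd'
  have hne : (c : Ω) ≠ d := fun e => hcd (Subtype.ext e)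
  have hne' : (c' : Ω) ≠ d' := fun e => hcd' (Subtype.ext e)
  obtain ⟨g, hg1, hg2, hg3⟩ := B.move h c.2 d.2 hne
  obtain ⟨g', hg1', hg2', hg3'⟩ := B.move h c'.2 d'.2 hne'
  refine ⟨B.ind ⟨g' * g⁻¹, Subgroup.mem_centralizer_singleton_iff.2 (hg1'.mul_left hg1.inv_left).eq⟩,
    Subtype.ext ?_, Subtype.ext ?_⟩
  · rw [ind_smul, ← hg2]
    show (g' * g⁻¹) • g • B.a = _
    rw [mul_smul, inv_smul_smul, hg2']
  · rw [ind_smul, ← hg3]
    show (g' * g⁻¹) • g • B.b = _
    rw [mul_smul, inv_smul_smul, hg3']

/-- The kernel part of a pair stabiliser in the induced group. -/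
theorem ind_fix_cases {g : Subgroup.centralizer ({B.t} : Set G)} {c d : fixedBy Ω B.t} (hcd : c ≠ d)
    (hc : B.ind g • c = c) (hd : B.ind g • d = d) :
    ∃ k : G, Commute k B.t ∧ k • B.a = c ∧ k • B.b = d ∧ ((g : G) = 1 ∨ (g : G) = B.t ∨
      (g : G) = k * B.v * k⁻¹ ∨ (g : G) = B.t * (k * B.v * k⁻¹)) := by
  obtain ⟨k, hk1, hk2, hk3⟩ := B.move h c.2 d.2 fun e => hcd (Subtype.ext e)
  refine ⟨k, hk1, hk2, hk3, (B.withMove hk1).cases_of_fix h (B.withMove hk1).hab (B.withMove hk1).hta
    (B.withMove hk1).htb (B.withMove hk1).hva (B.withMove hk1).hvb ?_ ?_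
    (Subgroup.mem_centralizer_singleton_iff.1 g.2)⟩
  · show (g : G) • k • B.a = k • B.a
    rw [hk2, ← ind_smul, hc]
  · show (g : G) • k • B.b = k • B.b
    rw [hk3, ← ind_smul, hd]

theorem sharp (hkm : B.k = B.m) : Sharp B.Ind (fixedBy Ω B.t) where
  faith := inferInstance
  two := B.ind_two h
  pair c d hcd x hc hd := by
    obtain ⟨g, rfl⟩ := B.ind_surj x
    obtain ⟨k, hk, -, -, hg⟩ := B.ind_fix_cases h hcd hc hd
    rw [B.ind_eq_one_iff]
    intro y hy
    have hv : (k * B.v * k⁻¹) • y = y := by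
      have : k⁻¹ • y ∈ B.F := by
        show B.t • k⁻¹ • y = k⁻¹ • y
        rw [← mul_smul, ← hk.inv_left.eq, mul_smul, show B.t • y = y from hy]
      rw [mul_smul, mul_smul, B.v_smul_of_full hkm this, smul_inv_smul]
    rcases hg with r | r | r | r <;> rw [r]
    · exact one_smul _ _
    · exact hy
    · exact hv
    · rw [mul_smul, hv]; exact hy

theorem ind_t : B.ind ⟨B.t, B.t_mem⟩ = 1 := (B.ind_eq_one_iff _).2 fun _ hx => hx

theorem v_moves (hkm : B.k < B.m) : B.ind ⟨B.v, B.v_mem⟩ ≠ 1 := by
  rw [ne_eq, B.ind_eq_one_half h hkm]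
  rintro (r | r)
  · exact ne_one_of_order_two B.hv r
  · exact B.hne r.symm

theorem big_v (hkm : B.k < B.m) :
    Big (fixedBy Ω B.t) (B.ind ⟨B.v, B.v_mem⟩) ∧
      Nat.card (fixedBy (fixedBy Ω B.t) (B.ind ⟨B.v, B.v_mem⟩)) = B.k := by
  have hc : Nat.card (fixedBy (fixedBy Ω B.t) (B.ind ⟨B.v, B.v_mem⟩)) = B.k := by
    rw [k, ← Nat.card_coe_set_eq]
    refine Nat.card_congr
      { toFun := fun x => ⟨x.1.1, x.1.2, (B.ind_smul _ x.1).symm.trans (congrArg Subtype.val x.2)⟩
        invFun := fun x => ⟨⟨x.1, x.2.1⟩, Subtype.ext ((B.ind_smul _ _).trans x.2.2)⟩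
        left_inv := fun _ => rfl
        right_inv := fun _ => rfl }
  refine ⟨⟨order_two ?_ (B.v_moves h hkm), by rw [hc]; exact B.two_le_k⟩, hc⟩
  rw [← map_mul, ← map_one B.ind]
  exact congrArg _ (Subtype.ext (mul_self_of_order_two B.hv))

theorem swap_sq {g : G} (hgt : Commute g B.t) (hga : g • B.a = B.b) (hgb : g • B.b = B.a) :
    g * g = 1 ∨ g * g = B.t := by
  rcases B.cases_of_fix h B.hab B.hta B.htb B.hva B.hvb (g := g * g)
    (by rw [mul_smul, hga, hgb]) (by rw [mul_smul, hgb, hga]) (hgt.mul_left hgt) with r | r | r | r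
  · exact Or.inl r
  · exact Or.inr r
  all_goals
    exfalso
    -- an element squaring to a second involution centralises the four group
    rcases B.swap_cases h with ⟨u, hD, -⟩ | ⟨s, hO, -⟩
    · have hut : Commute u B.t := hD.central B.t B.hta B.htb
      have hu2 := mul_self_of_order_two hD.swap.1
      have hz : (u * g) • B.a = B.a ∧ (u * g) • B.b = B.b :=
        ⟨by rw [mul_smul, hga, hD.swap.2.2], by rw [mul_smul, hgb, hD.swap.2.1]⟩
      rcases B.cases_of_fix h B.hab B.hta B.htb B.hva B.hvb hz.1 hz.2 (hut.mul_left hgt)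
        with r' | r' | r' | r'
      all_goals
        have hg : g = u * (u * g) := by rw [← mul_assoc, hu2, one_mul]
        have hcz := hD.central _ hz.1 hz.2
        have hgg : g * g = (u * g) * (u * g) := by
          conv_lhs => rw [hg]
          rw [Commute.mul_mul_mul_comm hcz.symm, hu2, one_mul]
        rw [r'] at hgg
        have : g * g = 1 := by
          rw [hgg]
          first
            | exact one_mul 1
            | exact mul_self_of_order_two B.ht
            | exact mul_self_of_order_two B.hv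
            | exact mul_self_of_order_two B.orderOf_tv
        rw [r] at this
        first
          | exact ne_one_of_order_two B.hv this
          | exact B.tv_ne_one this
    · have hz : (s * g) • B.a = B.a ∧ (s * g) • B.b = B.b :=
        ⟨by rw [mul_smul, hga, hO.swap.2.2], by rw [mul_smul, hgb, hO.swap.2.1]⟩
      have hs2 := mul_self_of_order_two hO.swap.1
      have hcv : (s * g) * B.v * (s * g)⁻¹ = B.v := by
        rcases B.cases_of_fix h B.hab B.hta B.htb B.hva B.hvb hz.1 hz.2 (hO.comm.mul_left hgt)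
          with r' | r' | r' | r' <;> rw [r']
        · group
        · rw [B.hcomm.eq, mul_inv_cancel_right]
        · group
        · rw [mul_assoc B.t, mul_self_of_order_two B.hv, mul_one, inv_eq_self B.orderOf_tv,
            ← mul_assoc, mul_self_of_order_two B.ht, one_mul]
      have hgv : g * B.v * g⁻¹ = B.t * B.v := by
        rw [← hO.moves]
        calc g * B.v * g⁻¹ = (s * s) * g * B.v * g⁻¹ * (s * s)⁻¹ := by rw [hs2]; group
          _ = s * ((s * g) * B.v * (s * g)⁻¹) * s⁻¹ := by group
          _ = _ := by rw [hcv]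
      have e2 : g * B.t * g⁻¹ = B.t := mul_inv_eq_iff_eq_mul.2 hgt.eq
      have e1 : g * (g * g) * g⁻¹ = g * g := by group
      rw [r] at e1
      first
        | (rw [hgv] at e1; exact ne_one_of_order_two B.ht (mul_eq_right.1 e1))
        | (rw [← conj_mul, e2, hgv] at e1
           exact ne_one_of_order_two B.ht (mul_eq_right.1 (mul_left_cancel e1)))

theorem halfSharp (hkm : B.k < B.m) : HalfSharp B.Ind (fixedBy Ω B.t) where
  faith := inferInstance
  two := B.ind_two h
  pair c d hcd := by
    classical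
    obtain ⟨k, hk, hka, hkb⟩ := B.move h c.2 d.2 fun e => hcd (Subtype.ext e)
    set v' : Subgroup.centralizer ({B.t} : Set G) := ⟨k * B.v * k⁻¹,
      Subgroup.mem_centralizer_singleton_iff.2 (B.withMove hk).hcomm.symm.eq⟩ with hv'
    have hv1 : B.ind v' ≠ 1 := by
      intro e
      apply B.v_moves h hkm
      rw [B.ind_eq_one_iff] at e ⊢
      intro x hx
      have hx' : k • x ∈ B.F := by
        show B.t • k • x = k • x
        rw [← mul_smul, ← hk.eq, mul_smul, show B.t • x = x from hx]
      have h1 : (k * B.v * k⁻¹) • k • x = k • x := e _ hx'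
      rw [mul_smul, mul_smul, inv_smul_smul] at h1
      exact MulAction.injective k h1
    have hset : ((stabilizer B.Ind c ⊓ stabilizer B.Ind d : Subgroup B.Ind) : Set B.Ind) =
        {1, B.ind v'} := by
      ext x
      simp only [SetLike.mem_coe, Subgroup.mem_inf, mem_stabilizer_iff, Set.mem_insert_iff,
        Set.mem_singleton_iff]
      constructor
      · rintro ⟨hc, hd⟩
        obtain ⟨g, rfl⟩ := B.ind_surj x
        have hgc : (g : G) • k • B.a = k • B.a := by rw [hka, ← ind_smul, hc]
        have hgd : (g : G) • k • B.b = k • B.b := by rw [hkb, ← ind_smul, hd]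
        rcases (B.withMove hk).cases_of_fix h (B.withMove hk).hab (B.withMove hk).hta
          (B.withMove hk).htb (B.withMove hk).hva (B.withMove hk).hvb hgc hgd
          (Subgroup.mem_centralizer_singleton_iff.1 g.2) with r | r | r | r
        · exact Or.inl ((B.ind_eq_one_half h hkm g).2 (Or.inl r))
        · exact Or.inl ((B.ind_eq_one_half h hkm g).2 (Or.inr r))
        · exact Or.inr (congrArg B.ind (Subtype.ext r))
        · right
          rw [show g = ⟨B.t, B.t_mem⟩ * v' from Subtype.ext r, map_mul, B.ind_t h, one_mul]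
      · rintro (rfl | rfl)
        · exact ⟨one_smul _ _, one_smul _ _⟩
        · refine ⟨Subtype.ext ?_, Subtype.ext ?_⟩
          · rw [ind_smul, ← hka]; exact (B.withMove hk).hva
          · rw [ind_smul, ← hkb]; exact (B.withMove hk).hvb
    rw [← SetLike.coe_sort_coe, hset, Nat.card_coe_set_eq, Set.ncard_pair hv1.symm]
  swap c d hcd x hc hd := by
    obtain ⟨g, rfl⟩ := B.ind_surj x
    obtain ⟨k, hk, hka, hkb⟩ := B.move h c.2 d.2 fun e => hcd (Subtype.ext e)
    have hgc : (g : G) • k • B.a = k • B.b := by rw [hka, hkb, ← ind_smul, hc]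
    have hgd : (g : G) • k • B.b = k • B.a := by rw [hka, hkb, ← ind_smul, hd]
    rw [← map_mul, B.ind_eq_one_half h hkm]
    exact (B.withMove hk).swap_sq h (Subgroup.mem_centralizer_singleton_iff.1 g.2) hgc hgd

end Base

end CfsgLib.Perm.TwoPointFive
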