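import Cfsg.Agent.Lib.Perm.TwoPointFive.Klein
import Cfsg.Agent.Lib.Perm.TwoPointFive.Final
import Cfsg.Agent.Lib.Perm.TwoPointFive.Quot

/-!
Even degree: the point stabiliser has a four group as Sylow 2-subgroup and one class of involutions;
the order equation leaves degree twelve.
-/

set_option autoImplicit false
set_option linter.unusedSectionVars false
set_option linter.style.haveILetI false

namespace CfsgLib.Perm.TwoPointFive

open MulAction Subgroup

attribute [local instance] fixAct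

variable {G : Type*} {Ω : Type*} [Group G] [MulAction G Ω]

/-- The order of a subgroup of a subgroup described in the ambient group. -/
theorem natCard_inf_of_mem_iff {A L : Subgroup G} (K : Subgroup ↥A)
    (hK : ∀ g : ↥A, g ∈ K ↔ (g : G) ∈ L) : Nat.card ↥K = Nat.card ↥(L ⊓ A) :=
  Nat.card_congr
    { toFun := fun g => ⟨g.1.1, (hK g.1).1 g.2, g.1.2⟩
      invFun := fun g => ⟨⟨g.1, g.2.2⟩, (hK ⟨g.1, g.2.2⟩).2 g.2.1⟩
      left_inv := fun _ => rfl
      right_inv := fun _ => rfl }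

namespace Base

variable (h : Hyp G Ω) (B : Base G Ω)
include h

theorem even_m [Finite G] [Fintype Ω] (hn : Even (Fintype.card Ω)) : Even B.m := by
  have hd := even_moved (X := G) (F := Ω) (mul_self_of_order_two B.ht)
  have hm : Nat.card (fixedBy Ω B.t) = B.m := Nat.card_coe_set_eq _
  rw [hm] at hd
  have hlt := B.m_lt h
  rw [Nat.even_iff] at hd hn ⊢
  omega

theorem even_k [Finite G] [Fintype Ω] (hn : Even (Fintype.card Ω)) : Even B.k := by
  classical
  let x : centralizer ({B.t} : Set G) :=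
    ⟨B.v, mem_centralizer_singleton_iff.2 B.hcomm.symm.eq⟩
  have hx : x * x = 1 := Subtype.ext (mul_self_of_order_two B.hv)
  have hd := even_moved (F := fixedBy Ω B.t) hx
  have hm : Fintype.card (fixedBy Ω B.t) = B.m := by
    rw [← Nat.card_eq_fintype_card]; exact Nat.card_coe_set_eq _
  have hk : Nat.card (fixedBy (fixedBy Ω B.t) x) = B.k := by
    rw [k, ← Nat.card_coe_set_eq]
    exact Nat.card_congr
      { toFun := fun c => ⟨c.1.1, c.1.2, congrArg Subtype.val c.2⟩
        invFun := fun c => ⟨⟨c.1, c.2.1⟩, Subtype.ext c.2.2⟩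
        left_inv := fun _ => rfl
        right_inv := fun _ => rfl }
  rw [hm, hk] at hd
  have hle := B.k_le_m
  have hm' := B.even_m h hn
  rw [Nat.even_iff] at hd hm' ⊢
  omega

/-- An involution fixing `a` is conjugate to `t` under the stabiliser of `a`. -/
theorem isConj_stab [Finite G] [Fintype Ω] (hn : Even (Fintype.card Ω)) {x : G}
    (hx : orderOf x = 2) (hxa : x • B.a = B.a) :
    ∃ g : G, g • B.a = B.a ∧ g * B.t * g⁻¹ = x := by
  classical
  have hd := even_moved (X := G) (F := Ω) (mul_self_of_order_two hx)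
  rw [← Nat.card_eq_fintype_card (α := Ω)] at hd hn
  have hle := Finite.card_subtype_le (· ∈ fixedBy Ω x)
  have hpos : 0 < Nat.card (fixedBy Ω x) :=
    Nat.card_pos_iff.2 ⟨⟨⟨B.a, hxa⟩⟩, inferInstance⟩
  have h1 : 1 < Nat.card (fixedBy Ω x) := by
    rw [Nat.even_iff] at hd hn
    change Nat.card (fixedBy Ω x) ≤ Nat.card Ω at hle
    omega
  haveI := Finite.one_lt_card_iff_nontrivial.1 h1
  obtain ⟨⟨c, hc⟩, hne⟩ := exists_ne (⟨B.a, hxa⟩ : fixedBy Ω x)
  obtain ⟨g, hga, -, hg⟩ := h.isConj_fix_two B.ht hx B.hab B.hta B.htb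
    (show B.a ≠ c from fun e => hne (Subtype.ext e.symm)) hxa hc
  exact ⟨g, hga, hg⟩

theorem card_cent_stab [Finite G] [Fintype Ω] :
    Nat.card ↥(centralizer ({B.t} : Set G) ⊓ stabilizer G B.a) = (B.m - 1) * 4 := by
  rw [← B.card_inf_four h (centralizer ({B.t} : Set G) ⊓ stabilizer G B.a)
    (fun g hg => mem_centralizer_singleton_iff.1 hg.1)
    ⟨mem_centralizer_singleton_iff.2 rfl, B.hta⟩
    ⟨mem_centralizer_singleton_iff.2 B.hcomm.symm.eq, B.hva⟩]
  refine card_of_point_orbit _ B.hab B.ha B.hb (fun g hg => hg.2) (fun g hg y hy => ?_)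
    fun c hc hca => ?_
  · have hgt : Commute g B.t := mem_centralizer_singleton_iff.1 hg.1
    show B.t • g • y = g • y
    rw [← mul_smul, ← hgt.eq, mul_smul, hy]
  · obtain ⟨g, h1, h2, h3⟩ := B.move h B.ha hc (Ne.symm hca)
    exact ⟨g, ⟨mem_centralizer_singleton_iff.2 h1.eq, h2⟩, h3⟩

theorem card_cent_pair [Finite G] [Fintype Ω] (hn : Even (Fintype.card Ω)) :
    Nat.card ↥(centralizer ({B.t, B.v} : Set G) ⊓ stabilizer G B.a) = (B.k - 1) * 4 := by
  classical
  set N : Subgroup G := centralizer ({B.t} : Set G) ⊓ stabilizer G B.a ⊓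
    normalizer ({B.v, B.t * B.v} : Set G) with hN
  set E : Subgroup G := centralizer ({B.t, B.v} : Set G) ⊓ stabilizer G B.a with hE
  have htv : B.t * (B.t * B.v) = B.v := by
    rw [← mul_assoc, mul_self_of_order_two B.ht, one_mul]
  have hconj_tv : ∀ g : G, Commute g B.t →
      g * (B.t * B.v) * g⁻¹ = B.t * (g * B.v * g⁻¹) := fun g hg => by
    rw [← conj_mul, mul_inv_eq_iff_eq_mul.2 hg.eq]
  have hmemN : ∀ g : G, Commute g B.t → g • B.a = B.a →
      (g * B.v * g⁻¹ = B.v ∨ g * B.v * g⁻¹ = B.t * B.v) → g ∈ N := by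
    intro g hgt hga hg
    refine ⟨⟨mem_centralizer_singleton_iff.2 hgt.eq, hga⟩, mem_normalizer_fintype ?_⟩
    intro y hy
    simp only [Set.mem_insert_iff, Set.mem_singleton_iff] at hy ⊢
    rcases hy with rfl | rfl
    · exact hg
    · rw [hconj_tv g hgt]
      rcases hg with e | e <;> rw [e]
      · exact Or.inr rfl
      · exact Or.inl htv
  have hNconj : ∀ g ∈ N, g * B.v * g⁻¹ = B.v ∨ g * B.v * g⁻¹ = B.t * B.v := by
    intro g hg
    have := (hg.2 B.v).1 (Or.inl rfl)
    simpa using this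
  have hmemE : ∀ g : G, g ∈ E ↔ g ∈ N ∧ g * B.v * g⁻¹ = B.v := by
    intro g
    constructor
    · intro hg
      have h1 : Commute g B.t := (mem_centralizer_iff.1 hg.1 B.t (Or.inl rfl)).symm
      have h2 : g * B.v * g⁻¹ = B.v :=
        mul_inv_eq_iff_eq_mul.2 (mem_centralizer_iff.1 hg.1 B.v (Or.inr rfl)).symm
      exact ⟨hmemN g h1 hg.2 (Or.inl h2), h2⟩
    · rintro ⟨hg, h2⟩
      refine ⟨mem_centralizer_iff.2 ?_, hg.1.2⟩
      rintro y (rfl | rfl)
      · exact (mem_centralizer_singleton_iff.1 hg.1.1).symm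
      · exact (mul_inv_eq_iff_eq_mul.1 h2).symm
  have htN : B.t ∈ N := hmemN B.t (Commute.refl _) B.hta
    (Or.inl (mul_inv_eq_iff_eq_mul.2 B.hcomm.eq))
  have hvN : B.v ∈ N := hmemN B.v B.hcomm.symm B.hva
    (Or.inl (mul_inv_eq_iff_eq_mul.2 rfl))
  have hcN : Nat.card ↥N = (B.k - 1) * 4 := by
    rw [← B.card_inf_four h N (fun g hg => mem_centralizer_singleton_iff.1 hg.1.1) htN hvN]
    refine card_of_point_orbit _ B.hab B.haV B.hbV (fun g hg => hg.1.2) (fun g hg y hy => ?_)
      fun c hc hca => ?_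
    · have hgt : Commute g B.t := mem_centralizer_singleton_iff.1 hg.1.1
      have hty : B.t • g • y = g • y := by rw [← mul_smul, ← hgt.eq, mul_smul, hy.1]
      refine ⟨hty, ?_⟩
      show B.v • g • y = g • y
      have hgi := hNconj g⁻¹ (inv_mem hg)
      rw [inv_inv] at hgi
      have hfix : (g⁻¹ * B.v * g) • y = y := by
        rcases hgi with e | e <;> rw [e]
        · exact hy.2
        · rw [mul_smul, hy.2, hy.1]
      rwa [mul_smul, mul_smul, inv_smul_eq_iff] at hfix
    · obtain ⟨g, h1, h2, h3, h4⟩ := B.moveV h B.haV hc (Ne.symm hca)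
      exact ⟨g, hmemN g h1 h3 h2, h4⟩
  rw [← hcN]
  -- an element moving `v` would give a subgroup of index two in a group of order four times odd
  have hall : ∀ g ∈ N, g * B.v * g⁻¹ = B.v := by
    intro g hg
    refine (hNconj g hg).resolve_right fun hgv => ?_
    have h2 : (E.subgroupOf N).index = 2 := by
      refine index_eq_two_iff.2 ⟨⟨g, hg⟩, fun b => ?_⟩
      rw [mem_subgroupOf, mem_subgroupOf, Subgroup.coe_mul, hmemE, hmemE,
        and_iff_right (N.mul_mem b.2 hg), and_iff_right b.2]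
      have hcalc : (b : G) * g * B.v * ((b : G) * g)⁻¹ =
          B.t * ((b : G) * B.v * (b : G)⁻¹) := by
        rw [← hconj_tv _ (mem_centralizer_singleton_iff.1 b.2.1.1), ← hgv]
        group
      rw [hcalc]
      rcases hNconj b b.2 with e | e <;> rw [e]
      · refine Or.inr ⟨rfl, fun e' => ne_one_of_order_two B.ht ?_⟩
        exact mul_eq_right.1 e'
      · exact Or.inl ⟨htv, fun e' => ne_one_of_order_two B.ht (mul_eq_right.1 e')⟩
    have hmul := (E.subgroupOf N).index_mul_card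
    have hEN : E ≤ N := fun y hy => ((hmemE y).1 hy).1
    rw [h2, Nat.card_congr (subgroupOfEquivOfLe hEN).toEquiv, hcN] at hmul
    have hsub : E ⊓ (stabilizer G B.a ⊓ stabilizer G B.b) ≤ E := inf_le_left
    have h4 : 4 ∣ Nat.card ↥E := by
      rw [← B.card_inf_four h E
        (fun y hy => mem_centralizer_singleton_iff.1 ((hmemE y).1 hy).1.1.1)
        ((hmemE _).2 ⟨htN, mul_inv_eq_iff_eq_mul.2 B.hcomm.eq⟩)
        ((hmemE _).2 ⟨hvN, mul_inv_eq_iff_eq_mul.2 rfl⟩)]
      exact Subgroup.card_dvd_of_le hsub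
    obtain ⟨q, hq⟩ := h4
    have hk2 := B.two_le_k
    have hk := B.even_k h hn
    rw [Nat.even_iff] at hk
    omega
  refine congrArg (fun S : Subgroup G => Nat.card ↥S) (le_antisymm ?_ ?_)
  · exact fun g hg => ((hmemE g).1 hg).1
  · exact fun g hg => (hmemE g).2 ⟨hg, hall g hg⟩

/-- The order equation in the stabiliser of `a`. -/
theorem even_equation [Finite G] [Fintype Ω] (hn : Even (Fintype.card Ω)) :
    ∃ a b c ε : ℤ, KleinDeg a b c ε ∧
      ((B.e * B.m + 15 : ℕ) : ℤ) * ((a + 1) * (b + ε) * (c - 1)) * ((B.k : ℤ) - 1) ^ 2 =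
        8 * ((B.m : ℤ) - 1) ^ 2 * (a * b * c) := by
  classical
  set Ga : Subgroup G := stabilizer G B.a with hGa
  have hcard : Nat.card ↥Ga = (Fintype.card Ω - 1) * 60 := h.card_stab B.hab
  have hlt := B.m_lt h
  have h2m := B.two_le_m
  set V : Subgroup G :=
    centralizer ({B.t} : Set G) ⊓ (stabilizer G B.a ⊓ stabilizer G B.b) with hV
  have hV4 : Nat.card ↥V = 4 := by
    have h1 := B.card_inf_four h (centralizer ({B.t} : Set G))
      (fun g hg => mem_centralizer_singleton_iff.1 hg)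
      (mem_centralizer_singleton_iff.2 rfl) (mem_centralizer_singleton_iff.2 B.hcomm.symm.eq)
    exact h1
  have hVle : V ≤ Ga := fun g hg => hg.2.1
  have hVmem : ∀ g ∈ V, g = 1 ∨ g = B.t ∨ g = B.v ∨ g = B.t * B.v := fun g hg =>
    B.cases_of_fix h B.hab B.hta B.htb B.hva B.hvb hg.2.1 hg.2.2
      (mem_centralizer_singleton_iff.1 hg.1)
  have htV : B.t ∈ V := ⟨mem_centralizer_singleton_iff.2 rfl, B.hta, B.htb⟩
  have hvV : B.v ∈ V := ⟨mem_centralizer_singleton_iff.2 B.hcomm.symm.eq, B.hva, B.hvb⟩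
  haveI : Fact (Nat.Prime 2) := ⟨Nat.prime_two⟩
  have hfac : (Nat.card ↥Ga).factorization 2 = 2 := by
    rw [hcard, show (Fintype.card Ω - 1) * 60 = 2 ^ 2 * ((Fintype.card Ω - 1) * 15) by ring,
      Nat.factorization_mul (by norm_num) (Nat.mul_ne_zero (by omega) (by norm_num)),
      Finsupp.add_apply, Nat.Prime.factorization_pow Nat.prime_two, Finsupp.single_eq_same,
      Nat.factorization_eq_zero_of_not_dvd (n := (Fintype.card Ω - 1) * 15)]
    rw [Nat.even_iff] at hn
    omega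
  have hW4 : Nat.card ↥(V.subgroupOf Ga) = 4 :=
    (Nat.card_congr (subgroupOfEquivOfLe hVle).toEquiv).trans hV4
  set P : Sylow 2 ↥Ga := Sylow.ofCard (V.subgroupOf Ga) (by rw [hW4, hfac]; norm_num) with hPdef
  have hPcoe : (P : Subgroup ↥Ga) = V.subgroupOf Ga := rfl
  have hP : IsKleinFour (P : Subgroup ↥Ga) := by
    rw [hPcoe]
    haveI : Nontrivial ↥(V.subgroupOf Ga) := Finite.one_lt_card_iff_nontrivial.1 (by omega)
    refine ⟨hW4, (Monoid.exponent_eq_prime_iff Nat.prime_two).2 fun g hg => ?_⟩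
    refine orderOf_eq_prime (Subtype.ext (Subtype.ext ?_)) hg
    show ((g : ↥Ga) : G) ^ 2 = 1
    have hgV : ((g : ↥Ga) : G) ∈ V := g.2
    rcases hVmem _ hgV with e | e | e | e <;> rw [e]
    · exact one_pow 2
    · rw [pow_two]; exact mul_self_of_order_two B.ht
    · rw [pow_two]; exact mul_self_of_order_two B.hv
    · rw [pow_two]; exact mul_self_of_order_two B.orderOf_tv
  let J : ↥Ga := ⟨B.t, B.hta⟩
  have hJ : orderOf J = 2 := (Subgroup.orderOf_mk B.t B.hta).trans B.ht
  have hJconj : ∀ s : ↥Ga, orderOf s = 2 → IsConj J s := fun s hs => by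
    obtain ⟨g, hga, hg⟩ := B.isConj_stab h hn (by rw [Subgroup.orderOf_coe, hs]) s.2
    exact isConj_iff.2 ⟨⟨g, hga⟩, Subtype.ext hg⟩
  obtain ⟨a, b, c, ε, D, heq⟩ := klein_deg P hP
    (fun s t hs ht => (hJconj s hs).symm.trans (hJconj t ht)) hJ
  have hc : Nat.card ↥(centralizer ({J} : Set ↥Ga)) = (B.m - 1) * 4 := by
    rw [← B.card_cent_stab h]
    refine natCard_inf_of_mem_iff _ fun g => ?_
    rw [mem_centralizer_singleton_iff, mem_centralizer_singleton_iff, Subtype.ext_iff]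
    rfl
  have hcE : Nat.card ↥(centralizer ((P : Subgroup ↥Ga) : Set ↥Ga)) = (B.k - 1) * 4 := by
    rw [← B.card_cent_pair h hn]
    refine natCard_inf_of_mem_iff _ fun g => ?_
    rw [mem_centralizer_iff, mem_centralizer_iff]
    constructor
    · rintro hg y (rfl | rfl)
      · exact congrArg Subtype.val (hg ⟨B.t, B.hta⟩ htV)
      · exact congrArg Subtype.val (hg ⟨B.v, B.hva⟩ hvV)
    · intro hg y hy
      have e1 := hg B.t (Or.inl rfl)
      have e2 := hg B.v (Or.inr rfl)
      refine Subtype.ext ?_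
      show (y : G) * g = g * y
      have hyV : (y : G) ∈ V := hy
      rcases hVmem _ hyV with e | e | e | e <;> rw [e]
      · rw [one_mul, mul_one]
      · exact e1
      · exact e2
      · exact (Commute.mul_left e1 e2).eq
  refine ⟨a, b, c, ε, D, ?_⟩
  rw [hcard, hc, hcE] at heq
  have hcount : 15 * (Fintype.card Ω - 1) = (B.m - 1) * (B.e * B.m + 15) := by
    have h1 := B.count h
    obtain ⟨p, hp⟩ : ∃ p, B.m = p + 1 := ⟨B.m - 1, by omega⟩
    rw [hp, Nat.add_sub_cancel] at h1 ⊢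
    rw [show p * (B.e * (p + 1) + 15) = B.e * ((p + 1) * p) + 15 * p by ring, ← h1]
    omega
  rw [show (Fintype.card Ω - 1) * 60 = 4 * (15 * (Fintype.card Ω - 1)) by ring, hcount] at heq
  have hm1 : ((B.m - 1 : ℕ) : ℤ) = (B.m : ℤ) - 1 := by omega
  have hk1 : ((B.k - 1 : ℕ) : ℤ) = (B.k : ℤ) - 1 := by have := B.two_le_k; omega
  simp only [Nat.cast_mul, hm1, hk1, Nat.cast_ofNat] at heq
  have hne : 64 * ((B.m : ℤ) - 1) ≠ 0 := by omega
  exact mul_left_cancel₀ hne (by linear_combination heq)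

end Base

namespace Hyp

variable (h : Hyp G Ω)
include h

theorem even_case [Finite G] [Fintype Ω] (B : Base G Ω) (hn : Even (Fintype.card Ω)) :
    Fintype.card Ω = 12 := by
  classical
  obtain ⟨a, b, c, ε, D, heq⟩ := B.even_equation h hn
  have he : B.e = 1 ∨ B.e = 10 ∨ B.e = 15 ∨ B.e = 16 := by
    rcases B.swap_cases h with ⟨u, -, ⟨e, -⟩ | ⟨e, -⟩ | ⟨e, -⟩⟩ | ⟨s, -, e⟩ <;> omega
  have hshape : B.m = B.k ∨
      ((∃ i : ℕ, B.k = 2 ^ i) ∧ (B.m = B.k * B.k ∨ B.m = B.k * (2 * B.k - 1))) := by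
    rcases Nat.lt_or_ge B.k B.m with hkm | hkm
    · right
      have hS := B.halfSharp h hkm
      obtain ⟨hbig, hfix⟩ := B.big_v h hkm
      have hF : Fintype.card (fixedBy Ω B.t) = B.m := by
        rw [← Nat.card_eq_fintype_card]; exact B.card_fix
      obtain ⟨i, hi⟩ := hS.fix_two_pow hbig (by rw [hfix]; exact B.even_k h hn)
      rw [hfix] at hi
      refine ⟨⟨i, hi⟩, ?_⟩
      rcases hS.one_or_two hbig (by rw [hfix, hF]; exact hkm) with ⟨e, -⟩ | ⟨e, -⟩ <;>
        rw [hfix, hF] at e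
      · exact Or.inl e
      · exact Or.inr e
    · exact Or.inl (le_antisymm hkm B.k_le_m)
  obtain ⟨h10, hk, hm⟩ := even_arith D he B.two_le_k hshape heq
  have hcount := B.count h
  have hlt := B.m_lt h
  rcases hm with hm | hm
  · rw [h10, hm] at hcount
    omega
  · exfalso
    rw [h10, hm] at hcount
    refine h.twentySix_false (by omega) B (fun x hx hxa => ?_) ?_
    · obtain ⟨g, hga, rfl⟩ := B.isConj_stab h hn hx hxa
      rw [show (20 : ℕ) = (B.m - 1) * 4 by rw [hm], ← B.card_cent_stab h]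
      refine (Nat.card_congr ((MulAut.conj g).toEquiv.subtypeEquiv fun y => ?_)).symm
      show y ∈ centralizer ({B.t} : Set G) ⊓ stabilizer G B.a ↔
        g * y * g⁻¹ ∈ centralizer ({g * B.t * g⁻¹} : Set G) ⊓ stabilizer G B.a
      rw [mem_inf, mem_inf, mem_centralizer_singleton_iff, mem_centralizer_singleton_iff,
        conj_mul, conj_mul, mul_left_inj, mul_right_inj, mem_stabilizer_iff, mem_stabilizer_iff,
        mul_smul, mul_smul, inv_smul_eq_iff.2 hga.symm, smul_eq_iff_eq_inv_smul g,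
        inv_smul_eq_iff.2 hga.symm]
    · rw [B.card_cent_pair h hn, hk]

end Hyp

end CfsgLib.Perm.TwoPointFive
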