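import Cfsg.Agent.Lib.SylLThreeFour.AltFiveFacts
import Mathlib.GroupTheory.SpecificGroups.Alternating
import Mathlib.Algebra.Group.Subgroup.Finite
import Mathlib.Tactic

/-!
The facts on the alternating group of degree five and its automorphisms fixing an involution that
are used for two-point stabilisers.
-/

set_option autoImplicit false
set_option maxRecDepth 100000
set_option linter.style.haveILetI false

namespace CfsgLib.Perm.TwoPointFive

open Equiv CfsgLib.SylL34.Five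

/-- The alternating group of degree five. -/
abbrev Alt5 : Type := alternatingGroup (Fin 5)

/-- First standard involution. -/
def qa : Alt5 := ⟨sa, Perm.mem_alternatingGroup.2 (by decide +kernel)⟩
/-- Second standard involution. -/
def qb : Alt5 := ⟨sb, Perm.mem_alternatingGroup.2 (by decide +kernel)⟩
/-- The standard five cycle. -/
def qg : Alt5 := ⟨gc, Perm.mem_alternatingGroup.2 (by decide +kernel)⟩

theorem cent_qa : ∀ z : Alt5, z * qa = qa * z → z = 1 ∨ z = qa ∨ z = qb ∨ z = qa * qb := by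
  decide +kernel

theorem card_alt5 : Nat.card Alt5 = 60 := by rw [Nat.card_eq_fintype_card]; decide +kernel

theorem card_sq_one : (Finset.univ.filter fun z : Alt5 => z * z = 1).card = 16 := by decide +kernel

theorem exists_second : ∀ x : Alt5, x * x = 1 → x ≠ 1 →
    ∃ y : Alt5, y * y = 1 ∧ y ≠ 1 ∧ y ≠ x ∧ x * y = y * x := by decide +kernel

theorem odd_count : ∀ π : Perm (Fin 5), π = swap 0 1 ∨ π = swap 2 3 →
    (Finset.univ.filter fun z : Alt5 => π * z.1 * π = (z.1)⁻¹).card = 10 := by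
  intro π h; rcases h with rfl | rfl <;> decide +kernel

theorem odd_conj : ∀ π : Perm (Fin 5), π = swap 0 1 ∨ π = swap 2 3 →
    ∀ z : Alt5, π * z.1 * π = (z.1)⁻¹ → ∃ c : Alt5, π * c.1 * π * (c.1)⁻¹ = z.1 := by
  intro π h; rcases h with rfl | rfl <;> decide +kernel

theorem odd_square_moves : ∀ π : Perm (Fin 5),
    π = swap 0 1 * sb ∨ π = swap 0 1 * (sa * sb) →
      π * (π * gc * π⁻¹) * π⁻¹ ≠ gc := by
  intro π h; rcases h with rfl | rfl <;> decide +kernel

theorem swap_frame : swap (0 : Fin 5) 1 * sa * swap 0 1 = sa ∧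
    swap (0 : Fin 5) 1 * (sa * sb) * swap 0 1 = sb ∧ swap (0 : Fin 5) 1 * sa = swap 2 3 := by
  decide +kernel

variable {H : Type*} [Group H]

/-- Standard position for two commuting involutions. -/
theorem exists_frame (e : H ≃* Alt5) {x y : H} (hx : x * x = 1) (hx1 : x ≠ 1) (hy : y * y = 1)
    (hy1 : y ≠ 1) (hxy : x ≠ y) (hc : x * y = y * x) :
    ∃ f : H ≃* Alt5, f x = qa ∧ f y = qb := by
  have key : ∀ z : H, z * z = 1 → ((e z : Alt5) : Perm (Fin 5)) * (e z : Alt5).1 = 1 := fun z hz => by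
    rw [← Subgroup.coe_mul, ← map_mul, hz, map_one, Subgroup.coe_one]
  have kne : ∀ z : H, z ≠ 1 → ((e z : Alt5) : Perm (Fin 5)) ≠ 1 := fun z hz h =>
    hz (e.injective ((Subtype.ext h : e z = 1).trans e.map_one.symm))
  obtain ⟨g, hga, hgb⟩ := normal_form _ (key x hx) (kne x hx1) (e x).2 _ (key y hy) (kne y hy1)
    (e y).2 (by rw [← Subgroup.coe_mul, ← Subgroup.coe_mul, ← map_mul, ← map_mul, hc])
    (fun h => hxy (e.injective (Subtype.ext h)))
  refine ⟨e.trans (MulAut.conjNormal g), Subtype.ext ?_, Subtype.ext ?_⟩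
  · simp only [MulEquiv.trans_apply, MulAut.conjNormal_apply, hga, mul_inv_cancel_right]; rfl
  · simp only [MulEquiv.trans_apply, MulAut.conjNormal_apply, hgb, mul_inv_cancel_right]; rfl

theorem exists_second_of_iso (e : H ≃* Alt5) {x : H} (hx : x * x = 1) (hx1 : x ≠ 1) :
    ∃ y : H, y * y = 1 ∧ y ≠ 1 ∧ y ≠ x ∧ x * y = y * x := by
  obtain ⟨y, h1, h2, h3, h4⟩ := exists_second (e x) (by rw [← map_mul, hx, map_one])
    (fun h => hx1 (e.injective (h.trans e.map_one.symm)))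
  refine ⟨e.symm y, e.injective ?_, fun h => h2 ?_, fun h => h3 ?_, e.injective ?_⟩
  · simpa using h1
  · simpa using congrArg e h
  · simpa using congrArg e h
  · simpa using h4

theorem isConj_invol (e : H ≃* Alt5) {x y : H} (hx : x * x = 1) (hx1 : x ≠ 1) (hy : y * y = 1)
    (hy1 : y ≠ 1) : IsConj x y := by
  obtain ⟨x', hx', hx'1, hne, hc⟩ := exists_second_of_iso e hx hx1
  obtain ⟨y', hy', hy'1, hne', hc'⟩ := exists_second_of_iso e hy hy1
  obtain ⟨f, hf, -⟩ := exists_frame e hx hx1 hx' hx'1 hne.symm hc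
  obtain ⟨g, hg, -⟩ := exists_frame e hy hy1 hy' hy'1 hne'.symm hc'
  -- the composite is an automorphism, so use the two-fold transitivity inside the model
  obtain ⟨p, hp⟩ : ∃ p : Alt5, p * e x * p⁻¹ = e y := by
    have main : ∀ a : Alt5, a * a = 1 → a ≠ 1 → ∃ p : Alt5, p * qa * p⁻¹ = a := by decide +kernel
    obtain ⟨p, hp⟩ := main (e x) (by rw [← map_mul, hx, map_one])
      (fun h => hx1 (e.injective (h.trans e.map_one.symm)))
    obtain ⟨q, hq⟩ := main (e y) (by rw [← map_mul, hy, map_one])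
      (fun h => hy1 (e.injective (h.trans e.map_one.symm)))
    exact ⟨q * p⁻¹, by rw [← hp, ← hq]; group⟩
  exact isConj_iff.2 ⟨e.symm p, e.injective (by simpa using hp)⟩

theorem centralizer_cases (e : H ≃* Alt5) {x y z : H} (hx : x * x = 1) (hx1 : x ≠ 1) (hy : y * y = 1)
    (hy1 : y ≠ 1) (hxy : x ≠ y) (hc : x * y = y * x) (hz : z * x = x * z) :
    z = 1 ∨ z = x ∨ z = y ∨ z = x * y := by
  obtain ⟨f, hfx, hfy⟩ := exists_frame e hx hx1 hy hy1 hxy hc
  rcases cent_qa (f z) (by rw [← hfx, ← map_mul, ← map_mul, hz]) with h | h | h | h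
  · exact Or.inl (f.injective (h.trans f.map_one.symm))
  · exact Or.inr (Or.inl (f.injective (h.trans hfx.symm)))
  · exact Or.inr (Or.inr (Or.inl (f.injective (h.trans hfy.symm))))
  · exact Or.inr (Or.inr (Or.inr (f.injective (by rw [h, map_mul, hfx, hfy]))))

/-- An automorphism of the model fixing the standard four group pointwise is inner by it. -/
theorem aut_fix (τ : Alt5 ≃* Alt5) (ha : τ qa = qa) (hb : τ qb = qb) :
    ∃ x : Alt5, (x = 1 ∨ x = qa ∨ x = qb ∨ x = qa * qb) ∧ ∀ z, τ z = x * z * x⁻¹ := by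
  have hA : ((qa : Alt5) : Perm (Fin 5)) = sa := rfl
  have h5 : (τ qg).1 ^ 5 = 1 := by
    rw [← Subgroup.coe_pow, ← map_pow, show qg ^ 5 = 1 from Subtype.ext gen_rel.1, map_one]; rfl
  have r := rigid (τ qg).1 h5
    (by rw [show sa * (τ qg).1 = (τ (qa * qg)).1 by rw [map_mul, ha]; rfl, ← Subgroup.coe_pow,
          ← map_pow, show (qa * qg) ^ 3 = 1 from Subtype.ext gen_rel.2.1, map_one]; rfl)
    (by rw [show sb * (τ qg).1 = (τ (qb * qg)).1 by rw [map_mul, hb]; rfl, ← Subgroup.coe_pow,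
          ← map_pow, show (qb * qg) ^ 5 = 1 from Subtype.ext gen_rel.2.2.1, map_one]; rfl)
    (by rw [show sa * sb * (τ qg).1 = (τ (qa * qb * qg)).1 by rw [map_mul, map_mul, ha, hb]; rfl,
          ← Subgroup.coe_pow, ← map_pow,
          show (qa * qb * qg) ^ 2 = 1 from Subtype.ext gen_rel.2.2.2, map_one]; rfl)
  have key : ∀ x : Alt5, (τ qg).1 = x.1 * gc * x.1⁻¹ → x.1 * sa = sa * x.1 →
      ∀ z, τ z = x * z * x⁻¹ := by
    intro x hg hxa z
    have hz : z.1 ∈ Subgroup.closure ({sa, gc} : Set (Perm (Fin 5))) :=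
      mem_closure_of_sign (Perm.mem_alternatingGroup.1 z.2)
    have main : ∀ w ∈ Subgroup.closure ({sa, gc} : Set (Perm (Fin 5))),
        ∃ hw : w ∈ alternatingGroup (Fin 5), τ ⟨w, hw⟩ = x * ⟨w, hw⟩ * x⁻¹ := by
      intro w hw
      induction hw using Subgroup.closure_induction with
      | mem w hw =>
        rcases hw with rfl | rfl
        · exact ⟨qa.2, Subtype.ext (by
            rw [show (⟨sa, qa.2⟩ : Alt5) = qa from rfl, ha]
            show sa = x.1 * sa * x.1⁻¹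
            rw [hxa, mul_inv_cancel_right])⟩
        · exact ⟨qg.2, Subtype.ext hg⟩
      | one => exact ⟨one_mem _, by
          rw [show (⟨1, one_mem _⟩ : Alt5) = 1 from rfl, map_one, mul_one, mul_inv_cancel]⟩
      | mul a b _ _ iha ihb =>
        obtain ⟨ha', ea⟩ := iha
        obtain ⟨hb', eb⟩ := ihb
        refine ⟨mul_mem ha' hb', ?_⟩
        rw [show (⟨a * b, mul_mem ha' hb'⟩ : Alt5) = ⟨a, ha'⟩ * ⟨b, hb'⟩ from rfl, map_mul, ea, eb]
        group
      | inv a _ iha =>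
        obtain ⟨ha', ea⟩ := iha
        refine ⟨inv_mem ha', ?_⟩
        rw [show (⟨a⁻¹, inv_mem ha'⟩ : Alt5) = ⟨a, ha'⟩⁻¹ from rfl, map_inv, ea]
        group
    obtain ⟨_, h⟩ := main z.1 hz
    exact h
  have hs := standard
  have isa : sa⁻¹ = sa := inv_eq_of_mul_eq_one_right hs.1
  have isb : sb⁻¹ = sb := inv_eq_of_mul_eq_one_right hs.2.1
  have isc : (sa * sb)⁻¹ = sa * sb := by rw [mul_inv_rev, isa, isb, hs.2.2.1]
  rcases r with r | r | r | r
  · exact ⟨1, Or.inl rfl, key 1 (by simpa using r) (by simp)⟩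
  · exact ⟨qa, Or.inr (Or.inl rfl), key qa (by rw [r]; show _ = sa * gc * sa⁻¹; rw [isa]) rfl⟩
  · exact ⟨qb, Or.inr (Or.inr (Or.inl rfl)),
      key qb (by rw [r]; show _ = sb * gc * sb⁻¹; rw [isb]) hs.2.2.1.symm⟩
  · exact ⟨qa * qb, Or.inr (Or.inr (Or.inr rfl)),
      key (qa * qb) (by rw [r]; show _ = sa * sb * gc * (sa * sb)⁻¹; rw [isc])
        (by show sa * sb * sa = sa * (sa * sb); rw [mul_assoc, ← hs.2.2.1])⟩

/-- An automorphism fixing two commuting involutions is inner by the four group they generate. -/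
theorem aut_fix_iso (e : H ≃* Alt5) (σ : H ≃* H) {x y : H} (hx : x * x = 1) (hx1 : x ≠ 1)
    (hy : y * y = 1) (hy1 : y ≠ 1) (hxy : x ≠ y) (hc : x * y = y * x) (hσx : σ x = x)
    (hσy : σ y = y) :
    ∃ w : H, (w = 1 ∨ w = x ∨ w = y ∨ w = x * y) ∧ ∀ z, σ z = w * z * w⁻¹ := by
  obtain ⟨f, hfx, hfy⟩ := exists_frame e hx hx1 hy hy1 hxy hc
  obtain ⟨w, hw, hτ⟩ := aut_fix (f.symm.trans (σ.trans f))
    (by simp [← hfx, hσx]) (by simp [← hfy, hσy])
  refine ⟨f.symm w, ?_, fun z => f.injective ?_⟩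
  · rcases hw with rfl | rfl | rfl | rfl
    · exact Or.inl f.symm.map_one
    · exact Or.inr (Or.inl (by rw [← hfx, MulEquiv.symm_apply_apply]))
    · exact Or.inr (Or.inr (Or.inl (by rw [← hfy, MulEquiv.symm_apply_apply])))
    · exact Or.inr (Or.inr (Or.inr (by
        rw [map_mul, ← hfx, ← hfy, MulEquiv.symm_apply_apply, MulEquiv.symm_apply_apply])))
  · simpa using hτ (f z)

/-- An outer automorphism of order two fixing an involution: ten inverted elements, one class. -/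
theorem aut_swap_iso [Finite H] (e : H ≃* Alt5) (σ : H ≃* H) {x y : H} (hx : x * x = 1) (hx1 : x ≠ 1)
    (hy : y * y = 1) (hy1 : y ≠ 1) (hxy : x ≠ y) (hc : x * y = y * x) (hσx : σ x = x)
    (hσy : σ y = x * y) (hσ2 : ∀ z, σ (σ z) = z) :
    Nat.card {z : H // σ z = z⁻¹} = 10 ∧ ∀ z : H, σ z = z⁻¹ → ∃ c : H, σ c * c⁻¹ = z := by
  classical
  obtain ⟨f, hfx, hfy⟩ := exists_frame e hx hx1 hy hy1 hxy hc
  set π₀ : Perm (Fin 5) := swap 0 1 with hπ₀
  set τ : Alt5 ≃* Alt5 := (f.symm.trans (σ.trans f)).trans (MulAut.conjNormal π₀) with hτdef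
  have hτv : ∀ z, (τ z).1 = π₀ * (f (σ (f.symm z))).1 * π₀ := fun z => by
    simp [hτdef, hπ₀]
  obtain ⟨w, hw, hτ⟩ := aut_fix τ
    (Subtype.ext (by rw [hτv, ← hfx, MulEquiv.symm_apply_apply, hσx, hfx]; exact swap_frame.1))
    (Subtype.ext (by
      rw [hτv, ← hfy, MulEquiv.symm_apply_apply, hσy, map_mul, hfx, hfy]; exact swap_frame.2.1))
  have hπ0 : π₀⁻¹ = π₀ := swap_inv _ _
  have hσf : ∀ z : H, (f (σ z)).1 = π₀ * w.1 * (f z).1 * (π₀ * w.1)⁻¹ := fun z => by
    have h := hτv (f z)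
    rw [hτ, MulEquiv.symm_apply_apply] at h
    have h' : w.1 * (f z).1 * w.1⁻¹ = π₀ * (f (σ z)).1 * π₀ := h
    calc (f (σ z)).1 = (π₀ * π₀) * (f (σ z)).1 * (π₀ * π₀) := by
          rw [hπ₀, swap_mul_self, one_mul, mul_one]
      _ = π₀ * (π₀ * (f (σ z)).1 * π₀) * π₀ := by group
      _ = _ := by rw [← h', mul_inv_rev, hπ0]; group
  have hπ : π₀ * w.1 = swap 0 1 ∨ π₀ * w.1 = swap 2 3 := by
    have hsq : π₀ * w.1 * (π₀ * w.1 * gc * (π₀ * w.1)⁻¹) * (π₀ * w.1)⁻¹ = gc := by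
      have h := congrArg Subtype.val (congrArg f (hσ2 (f.symm qg)))
      rw [hσf, hσf, MulEquiv.apply_symm_apply] at h
      simpa only [qg] using h
    rcases hw with e1 | e1 | e1 | e1 <;> rw [e1] at hsq ⊢
    · left
      rw [OneMemClass.coe_one, mul_one]
    · right
      rw [hπ₀, show ((qa : Alt5) : Perm (Fin 5)) = sa from rfl]
      exact swap_frame.2.2
    · refine absurd hsq (odd_square_moves _ (Or.inl ?_))
      rw [hπ₀, show ((qb : Alt5) : Perm (Fin 5)) = sb from rfl]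
    · refine absurd hsq (odd_square_moves _ (Or.inr ?_))
      rw [hπ₀, Subgroup.coe_mul, show ((qa : Alt5) : Perm (Fin 5)) = sa from rfl,
        show ((qb : Alt5) : Perm (Fin 5)) = sb from rfl]
  have hinv : (π₀ * w.1)⁻¹ = π₀ * w.1 := by rcases hπ with h | h <;> rw [h, swap_inv]
  rw [hinv] at hσf
  have hiff : ∀ z : H, σ z = z⁻¹ ↔ π₀ * w.1 * (f z).1 * (π₀ * w.1) = ((f z).1)⁻¹ := fun z => by
    rw [← hσf, ← Subgroup.coe_inv, ← map_inv, ← Subtype.ext_iff, f.injective.eq_iff]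
  refine ⟨?_, fun z hz => ?_⟩
  · rw [← odd_count _ hπ, ← Nat.card_eq_finsetCard]
    exact Nat.card_congr (f.toEquiv.subtypeEquiv fun z => by simpa using hiff z)
  · obtain ⟨c, hc⟩ := odd_conj _ hπ (f z) ((hiff z).1 hz)
    refine ⟨f.symm c, f.injective (Subtype.ext ?_)⟩
    rw [map_mul, Subgroup.coe_mul, hσf, map_inv, MulEquiv.apply_symm_apply]
    exact hc

theorem card_sq_one_iso [Finite H] (e : H ≃* Alt5) : Nat.card {z : H // z * z = 1} = 16 := by
  classical
  rw [← card_sq_one, ← Nat.card_eq_finsetCard]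
  exact Nat.card_congr (e.toEquiv.subtypeEquiv fun z => by
    simp only [MulEquiv.toEquiv_eq_coe, MulEquiv.coe_toEquiv, Finset.mem_filter, Finset.mem_univ,
      true_and]
    rw [← map_mul, ← map_eq_one_iff e e.injective])

end CfsgLib.Perm.TwoPointFive
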