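import Cfsg.Agent.Lib.Perm.TwoPointFive.Induced
import Cfsg.Agent.Lib.Perm.TwoPointFive.Arith
import Cfsg.Agent.Lib.BlockA.KleinOrder
import Cfsg.Agent.S0948

/-!
The order equation of a group with Klein four Sylow 2-subgroups and one class of involutions, and
the odd degree case in which all involutions of the induced group have several fixed points.
-/

set_option autoImplicit false
set_option linter.unusedSectionVars false

namespace CfsgLib.Perm.TwoPointFive

open MulAction Subgroup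

universe u

/-- The order equation for a Klein four Sylow 2-subgroup and one class of involutions. -/
theorem klein_deg {G : Type u} [Group G] [Finite G] (P : Sylow 2 G)
    (hP : IsKleinFour (P : Subgroup G))
    (hone : ∀ s t : G, orderOf s = 2 → orderOf t = 2 → IsConj s t) {J : G} (hJ : orderOf J = 2) :
    ∃ a b c ε : ℤ, KleinDeg a b c ε ∧
      (Nat.card G : ℤ) * ((a + 1) * (b + ε) * (c - 1)) *
          (Nat.card (centralizer ((P : Subgroup G) : Set G)) : ℤ) ^ 2 =
        8 * (Nat.card (centralizer ({J} : Set G)) : ℤ) ^ 3 * (a * b * c) := by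
  classical
  obtain ⟨z, hzP, hz1⟩ : ∃ z ∈ (P : Subgroup G), z ≠ 1 := by
    by_contra hne
    push Not at hne
    have h := hP.card_four
    rw [Subgroup.card_eq_one.2 ((Subgroup.eq_bot_iff_forall _).2 hne)] at h
    norm_num at h
  have hz : orderOf z = 2 := by
    rw [← Subgroup.orderOf_mk z hzP]
    refine orderOf_eq_prime (by rw [pow_two]; exact IsKleinFour.mul_self _) fun e => hz1 ?_
    exact congrArg Subtype.val e
  have hcent : Nat.card (centralizer ({J} : Set G)) = Nat.card (centralizer ({z} : Set G)) := by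
    obtain ⟨g, rfl⟩ := isConj_iff.1 (hone J z hJ hz)
    refine Nat.card_congr ((MulAut.conj g).toEquiv.subtypeEquiv fun x => ?_)
    show x ∈ centralizer ({J} : Set G) ↔ g * x * g⁻¹ ∈ centralizer ({g * J * g⁻¹} : Set G)
    rw [mem_centralizer_singleton_iff, mem_centralizer_singleton_iff, conj_mul, conj_mul,
      mul_left_inj, mul_right_inj]
  rw [hcent]
  obtain ⟨M, hM⟩ := CfsgLib.BlockB.exists_isPModular Nat.prime_two
  have := hM.2.1.isPrime
  obtain ⟨ζ₂, ζ₃, ζ₄, ε, hε, h2ne, h3ne, h23, h24, h34, hB, hval, ha, hb, hc, hrel⟩ :=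
    Cfsg.Agent.S0948.result M hM P hP hone
  have h4ne : (ζ₄ : G → ℂ) ≠ fun _ => 1 := fun h => by
    have := (hval z hz).2.2
    rw [h] at this
    norm_num at this
  have hv : (ζ₂ : G → ℂ) z = ((1 : ℤ) : ℂ) ∧ (ζ₃ : G → ℂ) z = (ε : ℂ) ∧
      (ζ₄ : G → ℂ) z = ((-1 : ℤ) : ℂ) :=
    ⟨by rw [(hval z hz).1]; norm_num, (hval z hz).2.1, by rw [(hval z hz).2.2]; norm_num⟩
  have h := CfsgLib.BlockA.klein_order_formula hM hP hone hzP hz1 hB
    ⟨h2ne, h3ne, h4ne, h23, h24, h34⟩ hv ⟨Or.inl rfl, hε, Or.inr rfl⟩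
  have hd := CfsgLib.BlockA.klein_degree_relation hM hP hone hzP hz1 hB
    ⟨h2ne, h3ne, h4ne, h23, h24, h34⟩ hv
  have hpos : ∀ χ : Cfsg.IrrCharacter G, (1 : ℤ) ≤ Cfsg.charDegree (χ : G → ℂ) := fun χ => by
    exact_mod_cast CfsgLib.BlockB.irr_degree_pos χ
  refine ⟨(Cfsg.charDegree (ζ₂ : G → ℂ) : ℤ), (Cfsg.charDegree (ζ₃ : G → ℂ) : ℤ),
    (Cfsg.charDegree (ζ₄ : G → ℂ) : ℤ), ε,
    ⟨hε, hpos _, hpos _, hpos _, ha, hb, hc, by linarith, fun e => ?_⟩, ?_⟩
  · exact_mod_cast CfsgLib.BlockA.klein_conj_pair hM hP hone hzP hz1 hB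
      ⟨h2ne, h3ne, h4ne, h23, h24, h34⟩ hv rfl e rfl
  · linear_combination h

variable {X : Type u} {F : Type*} [Group X] [Finite X] [MulAction X F] [Fintype F]

/-- Odd degree: it is impossible that all involutions have several fixed points. -/
theorem HalfSharp.two_false (h : HalfSharp X F)
    (two : ∀ c d : F, c ≠ d → ∀ x : X, x • c = d → x • d = c → Big F x)
    {v : X} (hv : Big F v) (hk : Odd (Nat.card (fixedBy F v)))
    (hm : Fintype.card F = Nat.card (fixedBy F v) * (2 * Nat.card (fixedBy F v) - 1)) : False := by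
  classical
  obtain ⟨hone, hsyl⟩ := h.klein two hv hk hm
  obtain ⟨P⟩ : Nonempty (Sylow 2 X) := inferInstance
  obtain ⟨hP, hCP⟩ := hsyl P
  obtain ⟨a, b, c, ε, D, heq⟩ := klein_deg P hP hone hv.1
  obtain ⟨q, hq⟩ := hk
  have hq1 : 1 ≤ q := by have := hv.2; omega
  have hF : 2 ≤ Fintype.card F := by
    rw [hm, hq, show 2 * (2 * q + 1) - 1 = 4 * q + 1 by omega]
    nlinarith
  rw [hCP, h.card_centralizer hv, h.card_eq hF, hm, hq,
    show 2 * (2 * q + 1) - 1 = 4 * q + 1 by omega, show 2 * q + 1 - 1 = 2 * q by omega,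
    show (2 * q + 1) * (4 * q + 1) - 1 = 2 * q * (4 * q + 3) by
      rw [show (2 * q + 1) * (4 * q + 1) = 2 * q * (4 * q + 3) + 1 by ring, Nat.add_sub_cancel]]
    at heq
  refine klein_odd_arith D (k := 2 * q + 1) (by omega) ?_
  push_cast at heq ⊢
  have hne : (2 * ((2 * (q : ℤ) + 1) * (2 * q)) * (2 * (2 * q)) ^ 2) ≠ 0 := by
    have : (0 : ℤ) < q := by exact_mod_cast hq1
    positivity
  refine mul_left_cancel₀ hne ?_
  linear_combination heq

end CfsgLib.Perm.TwoPointFive
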