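import Cfsg.Agent.Lib.Perm.TwoPointFive.Swap
import Cfsg.Agent.Lib.Invol.BrauerSuzuki
import Mathlib.GroupTheory.Perm.Cycle.Type

/-!
Odd degree: the count `e = 15` does not occur, by the isolated-involution theorem.
-/

set_option autoImplicit false
set_option linter.unusedSectionVars false

namespace CfsgLib.Perm.TwoPointFive

open MulAction

variable {G Ω : Type*} [Group G] [MulAction G Ω]

theorem exists_fixed_of_odd [Fintype Ω] (hn : Odd (Fintype.card Ω)) {u : G} (hu : u * u = 1) :
    ∃ p : Ω, u • p = p := by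
  classical
  by_contra hno
  push Not at hno
  have h2 := Equiv.Perm.two_dvd_card_support (σ := (MulAction.toPerm u : Equiv.Perm Ω))
    (Equiv.ext fun x => by simp [pow_two, ← mul_smul, hu])
  rw [show (MulAction.toPerm u : Equiv.Perm Ω).support = Finset.univ by
    ext x; simpa using hno x, Finset.card_univ] at h2
  exact Nat.not_even_iff_odd.2 hn (even_iff_two_dvd.2 h2)

/-- In odd degree the value fifteen is impossible. -/
theorem Hyp.e_ne_fifteen [Finite G] [Fintype Ω] (h : Hyp G Ω) (B : Base G Ω)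
    (hn : Odd (Fintype.card Ω)) : B.e ≠ 15 := by
  classical
  haveI := Fintype.ofFinite G
  intro he
  rcases B.swap_cases h with ⟨u, hD, hcase⟩ | ⟨s, -, h10⟩
  swap
  · omega
  rcases hcase with ⟨h1, -⟩ | ⟨-, hnu, htu⟩ | ⟨h16, -⟩
  · omega
  swap
  · omega
  have hord : ∀ x, IsConj u x → orderOf x = 2 := fun x hx => by
    obtain ⟨g, rfl⟩ := isConj_iff.1 hx
    exact orderOf_conj_two g hD.swap.1
  -- conjugates of `u` fix exactly one point
  have huniq : ∀ x, IsConj u x → ∀ c d : Ω, x • c = c → x • d = d → c = d := fun x hx c d hc hd => by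
    by_contra hcd
    exact hnu ((B.isConj_t h (hord x hx) hcd hc hd).trans hx.symm)
  have hfix : ∀ x, IsConj u x → ∃ c : Ω, x • c = c := fun x hx =>
    exists_fixed_of_odd hn (mul_self_of_order_two (hord x hx))
  -- every pair is exchanged by exactly one conjugate
  have hswap : ∀ c d : Ω, c ≠ d →
      ∃ x, (IsConj u x ∧ x • c = d ∧ x • d = c) ∧
        ∀ y, IsConj u y → y • c = d → y • d = c → y = x := by
    intro c d hcd
    obtain ⟨g, hgc, hgd⟩ := exists_smul_pair h.two B.hab hcd
    refine ⟨g * u * g⁻¹, ⟨isConj_iff.2 ⟨g, rfl⟩, ?_, ?_⟩, fun y hy hyc hyd => ?_⟩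
    · rw [mul_smul, mul_smul, ← hgc, inv_smul_smul, hD.swap.2.1, hgd]
    · rw [mul_smul, mul_smul, ← hgd, inv_smul_smul, hD.swap.2.2, hgc]
    · have hz : IsConj u (g⁻¹ * y * g) := hy.trans (isConj_iff.2 ⟨g⁻¹, by rw [inv_inv]⟩)
      have hzs : B.IsSwap (g⁻¹ * y * g) := ⟨hord _ hz,
        by rw [mul_smul, mul_smul, hgc, hyc, ← hgd, inv_smul_smul],
        by rw [mul_smul, mul_smul, hgd, hyd, ← hgc, inv_smul_smul]⟩
      rcases hD.others _ hzs with r | r
      · rw [← r]; group
      · exact absurd ((htu.trans r).trans hz.symm) hnu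
  set C : Finset G := Finset.univ.filter fun x => IsConj u x with hC
  have hmem : ∀ x, x ∈ C ↔ IsConj u x := fun x => by simp [hC]
  have hcard : C.card = Fintype.card Ω := by
    set T : Finset (G × Ω) := (C ×ˢ Finset.univ).filter fun p => p.1 • p.2 ≠ p.2 with hT
    have h1 : T.card = C.card * (Fintype.card Ω - 1) := by
      rw [hT, Finset.card_filter, Finset.sum_product, Finset.sum_const_nat (m := Fintype.card Ω - 1)]
      intro x hx
      obtain ⟨q, hq⟩ := hfix x ((hmem x).1 hx)
      rw [← Finset.card_filter, show (Finset.univ.filter fun c : Ω => x • c ≠ c) = Finset.univ.erase q by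
        ext c
        simp only [Finset.mem_filter, Finset.mem_univ, true_and, Finset.mem_erase, and_true]
        exact ⟨fun hc e => hc (e ▸ hq), fun hc e => hc (huniq x ((hmem x).1 hx) c q e hq)⟩,
        Finset.card_erase_of_mem (Finset.mem_univ _), Finset.card_univ]
    have h2 : T.card = (Finset.univ : Finset Ω).offDiag.card := by
      refine Finset.card_bij (fun p _ => (p.2, p.1 • p.2)) (fun p hp => ?_) (fun p hp q hq e => ?_)
        (fun cd hcd => ?_)
      · simpa using Ne.symm (Finset.mem_filter.1 hp).2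
      · obtain ⟨x, c⟩ := p
        obtain ⟨y, c'⟩ := q
        obtain ⟨rfl, e2⟩ := Prod.ext_iff.1 e
        simp only at e2
        have hx := (hmem x).1 (Finset.mem_product.1 (Finset.mem_filter.1 hp).1).1
        have hy := (hmem y).1 (Finset.mem_product.1 (Finset.mem_filter.1 hq).1).1
        obtain ⟨w, -, hw⟩ := hswap c (x • c) (Ne.symm (Finset.mem_filter.1 hp).2)
        have ex := hw x hx rfl (by rw [← mul_smul, mul_self_of_order_two (hord x hx), one_smul])
        have ey := hw y hy e2.symm (by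
          rw [e2, ← mul_smul, mul_self_of_order_two (hord y hy), one_smul])
        rw [ex, ey]
      · obtain ⟨c, d⟩ := cd
        have hne : c ≠ d := (Finset.mem_offDiag.1 hcd).2.2
        obtain ⟨x, ⟨hx, hxc, -⟩, -⟩ := hswap c d hne
        refine ⟨(x, c), ?_, Prod.ext rfl hxc⟩
        exact Finset.mem_filter.2 ⟨Finset.mem_product.2 ⟨(hmem x).2 hx, Finset.mem_univ _⟩,
          fun e => hne (e.symm.trans hxc)⟩
    have h3 : 2 ≤ Fintype.card Ω := Fintype.one_lt_card_iff.2 ⟨B.a, B.b, B.hab⟩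
    rw [h1, Finset.offDiag_card, Finset.card_univ] at h2
    refine Nat.eq_of_mul_eq_mul_right (by omega : 0 < Fintype.card Ω - 1) ?_
    rw [h2, Nat.mul_sub, mul_one]
  -- hence a point is fixed by only one conjugate
  let f : C → Ω := fun x => (hfix x.1 ((hmem x.1).1 x.2)).choose
  have hf : ∀ x : C, x.1 • f x = f x := fun x => (hfix x.1 ((hmem x.1).1 x.2)).choose_spec
  haveI := h.pretrans
  obtain ⟨p, hp⟩ := hfix u (IsConj.refl u)
  have hsurj : Function.Surjective f := fun r => by
    obtain ⟨g, hg⟩ := exists_smul_eq G p r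
    have hx : IsConj u (g * u * g⁻¹) := isConj_iff.2 ⟨g, rfl⟩
    refine ⟨⟨g * u * g⁻¹, (hmem _).2 hx⟩,
      huniq _ hx _ _ (hf ⟨g * u * g⁻¹, (hmem _).2 hx⟩) ?_⟩
    rw [mul_smul, mul_smul, ← hg, inv_smul_smul, hp]
  have hbij : Function.Bijective f :=
    (Fintype.bijective_iff_surjective_and_card f).2 ⟨hsurj, by rw [Fintype.card_coe, hcard]⟩
  have hone : ∀ x, IsConj u x → x • p = p → x = u := fun x hx hxp => by
    have e : f ⟨x, (hmem x).2 hx⟩ = f ⟨u, (hmem u).2 (IsConj.refl u)⟩ :=
      (huniq x hx _ _ (hf ⟨x, (hmem x).2 hx⟩) hxp).trans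
        (huniq u (IsConj.refl u) _ _ hp (hf ⟨u, (hmem u).2 (IsConj.refl u)⟩))
    exact congrArg Subtype.val (hbij.1 e)
  have hiso : Cfsg.IsIsolatedInvolution u := ⟨hD.swap.1, fun g hg => by
    refine hone _ (isConj_iff.2 ⟨g, rfl⟩) (huniq u (IsConj.refl u) _ _ ?_ hp)
    rw [← mul_smul, hg.eq, mul_smul, hp]⟩
  have hcen : ∀ g : G, u * g = g * u := fun g => by
    have hm := CfsgLib.Invol.zstar G hiso g
    have hO : Cfsg.oddCore G = ⊥ :=
      h.odd_normal (CfsgLib.Solvable.pPrimeCore_normal 2 G) (CfsgLib.Invol.odd_card_oddCore G)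
    rw [hO, Subgroup.mem_bot, mul_inv_eq_one, mul_inv_eq_iff_eq_mul] at hm
    exact hm
  have hall : ∀ r : Ω, r = p := fun r => by
    obtain ⟨g, rfl⟩ := exists_smul_eq G p r
    refine huniq u (IsConj.refl u) _ _ ?_ hp
    rw [← mul_smul, hcen g, mul_smul, hp]
  exact B.hab ((hall B.a).trans (hall B.b).symm)

end CfsgLib.Perm.TwoPointFive
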