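import Cfsg.Agent.Lib.Perm.TwoPointFive.Setup
import Cfsg.Agent.Lib.Perm.TwoPointFive.Swap
import Cfsg.Agent.Lib.Perm.TwoPointFive.Induced
import Cfsg.Agent.Lib.Perm.TwoPointFive.Arith
import Cfsg.Agent.Lib.BlockA.DihedralOrder
import Cfsg.Agent.Lib.Invol.Dihedral
import Cfsg.Agent.Lib.InvChar.BSWChars

/-!
Odd degree, when the four group fixes all fixed points of its involution: the degree is seven.
-/

set_option autoImplicit false
set_option linter.unusedSectionVars false

namespace CfsgLib.Perm.TwoPointFive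

open MulAction Subgroup

universe u

variable {G : Type u} {Ω : Type*} [Group G] [Finite G] [MulAction G Ω] [Fintype Ω]

attribute [local instance] fixAct

/-- A principal block character of a group with dihedral Sylow 2-subgroup of order eight. -/
theorem dihedral_eight_degree (P : Sylow 2 G) (D : CfsgLib.Invol.DihData (P : Subgroup G))
    (hh : D.h = 2) (hone : ∀ s t : G, orderOf s = 2 → orderOf t = 2 → IsConj s t) :
    ∃ x δ : ℤ, (δ = 1 ∨ δ = -1) ∧ 1 ≤ x ∧ x ≠ δ ∧ 4 ∣ x - δ ∧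
      (Nat.card G : ℚ) * ((x : ℚ) - δ) ^ 2 = 2 * (x : ℚ) * ((x : ℚ) + δ) *
        (Nat.card (centralizer ({CfsgLib.Invol.dz P D} : Set G)) : ℚ) ^ 3 *
        (1 / (Nat.card (centralizer
            ({CfsgLib.Invol.dz P D, CfsgLib.Invol.dt P D 0} : Set G)) : ℚ) +
          1 / (Nat.card (centralizer
            ({CfsgLib.Invol.dz P D, CfsgLib.Invol.dt P D 1} : Set G)) : ℚ)) ^ 2 := by
  classical
  have := Fintype.ofFinite G
  have hh2 : 2 ≤ D.h := hh.ge
  obtain ⟨M, hM⟩ := CfsgLib.BlockB.exists_isPModular Nat.prime_two (p := 2)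
  have := hM.2.1.isPrime
  obtain ⟨ζ, hζ⟩ : ∃ ζ : ℂ, IsPrimitiveRoot ζ (2 * D.h) :=
    ⟨_, Complex.isPrimitiveRoot_exp _ (by omega)⟩
  obtain ⟨χ₁, χ₂, χ₃, χ', δ₁, δ₂, δ₃, S⟩ :=
    CfsgLib.BlockA.DihedralBlock.exists_shape hM P D hh2 hζ
  obtain ⟨hne, hord⟩ := CfsgLib.BlockA.DihedralBlock.order_formula hM P D hh2 hζ S hone
  set x := Cfsg.charDegree (χ₁ : G → ℂ) with hx
  refine ⟨x, δ₁, S.sgn₁, by exact_mod_cast CfsgLib.BlockB.irr_degree_pos χ₁, hne, ?_,
    by exact_mod_cast hord⟩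
  set R := zpowers (CfsgLib.BlockA.DihedralBlock.rot P D) with hR
  have := Fintype.ofFinite R
  obtain ⟨n, hn⟩ := CfsgLib.InvChar.BSW.sum_subgroup_eq R χ₁
  have ho : orderOf (CfsgLib.BlockA.DihedralBlock.rot P D) = 2 * D.h :=
    CfsgLib.BlockA.DihedralBlock.orderOf_rot P D
  have hcard : Nat.card R = 2 * D.h := by rw [hR, Nat.card_zpowers, ho]
  have hval : ∀ v : R, (χ₁ : G → ℂ) v = (if v = 1 then (x : ℂ) - δ₁ else 0) + δ₁ := by
    intro v
    split_ifs with hv
    · rw [hv, sub_add_cancel, hx, CfsgLib.BlockB.irr_degree_cast]; rfl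
    · rw [zero_add]
      obtain ⟨l, hl⟩ := mem_powers_iff_mem_zpowers.2 v.2
      simp only at hl
      have := S.val₁ l fun hd => hv (Subtype.ext (by
        rw [← hl, OneMemClass.coe_one]
        exact orderOf_dvd_iff_pow_eq_one.1 (ho ▸ hd :
          orderOf (CfsgLib.BlockA.DihedralBlock.rot P D) ∣ l)))
      rwa [hl] at this
  rw [Finset.sum_congr rfl fun v _ => hval v, Finset.sum_add_distrib, Finset.sum_ite_eq',
    if_pos (Finset.mem_univ _), Finset.sum_const, Finset.card_univ, ← Nat.card_eq_fintype_card,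
    hcard, nsmul_eq_mul, hh] at hn
  refine ⟨(n : ℤ) - δ₁, Int.cast_injective (α := ℂ) ?_⟩
  push_cast
  push_cast at hn
  linear_combination hn

namespace Base

variable (h : Hyp G Ω) (B : Base G Ω) (hkm : B.k = B.m)
include h hkm

theorem fixV_of_full {x : Ω} (hx : B.t • x = x) : B.v • x = x := by
  have hFV : B.FV = B.F :=
    Set.eq_of_subset_of_ncard_le Set.inter_subset_left (le_of_eq hkm.symm) (Set.toFinite _)
  exact (hFV ▸ (show x ∈ B.F from hx) : x ∈ B.FV).2

theorem four_fix {g : G} (hg : g = 1 ∨ g = B.t ∨ g = B.v ∨ g = B.t * B.v) {x : Ω}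
    (hx : B.t • x = x) : g • x = x := by
  rcases hg with rfl | rfl | rfl | rfl
  · exact one_smul _ _
  · exact hx
  · exact B.fixV_of_full h hkm hx
  · rw [mul_smul, B.fixV_of_full h hkm hx, hx]

theorem full_ker {g : centralizer ({B.t} : Set G)} :
    (toPermHom (centralizer ({B.t} : Set G)) (fixedBy Ω B.t)).rangeRestrict g = 1 ↔
      (g : G) = 1 ∨ (g : G) = B.t ∨ (g : G) = B.v ∨ (g : G) = B.t * B.v := by
  constructor
  · intro hg
    have f : ∀ a : fixedBy Ω B.t, g • a = a := fun a =>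
      Equiv.ext_iff.1 (Subtype.ext_iff.1 hg) a
    exact B.cases_of_fix h B.hab B.hta B.htb B.hva B.hvb
      (congrArg Subtype.val (f ⟨B.a, B.hta⟩)) (congrArg Subtype.val (f ⟨B.b, B.htb⟩))
      (mem_centralizer_singleton_iff.1 g.2)
  · intro hg
    apply Subtype.ext
    ext1 a
    exact Subtype.ext (B.four_fix h hkm hg a.2)

theorem full_sharp : Sharp (fixRange Ω B.t) (fixedBy Ω B.t) where
  faith := inferInstance
  two := by
    rw [is_two_pretransitive_iff]
    intro a b c d hab hcd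
    have hab' : (a : Ω) ≠ b := fun e => hab (Subtype.ext e)
    have hcd' : (c : Ω) ≠ d := fun e => hcd (Subtype.ext e)
    obtain ⟨p, hp, hpa, hpb⟩ := B.move h a.2 b.2 hab'
    obtain ⟨q, hq, hqc, hqd⟩ := B.move h c.2 d.2 hcd'
    refine ⟨⟨toPermHom (centralizer ({B.t} : Set G)) (fixedBy Ω B.t)
      ⟨q * p⁻¹, mem_centralizer_singleton_iff.2 (hq.mul_left hp.inv_left).eq⟩, _, rfl⟩, ?_, ?_⟩
    · apply Subtype.ext
      show (q * p⁻¹) • (a : Ω) = c
      rw [← hpa, mul_smul, inv_smul_smul, hqc]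
    · apply Subtype.ext
      show (q * p⁻¹) • (b : Ω) = d
      rw [← hpb, mul_smul, inv_smul_smul, hqd]
  pair := by
    rintro c d hcd ⟨σ, g, rfl⟩ hc hd
    apply Subtype.ext
    ext1 a
    refine Subtype.ext (B.four_fix h hkm ?_ a.2)
    exact B.cases_of_fix h (fun e => hcd (Subtype.ext e)) c.2 d.2 (B.fixV_of_full h hkm c.2)
      (B.fixV_of_full h hkm d.2) (congrArg Subtype.val hc) (congrArg Subtype.val hd)
      (mem_centralizer_singleton_iff.1 g.2)

/-- No conjugate of `t` exchanging the two points centralises the whole stabiliser. -/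
theorem full_direct_false (hm : Odd B.m) {u : G} (hD : B.Direct u) (hu : IsConj B.t u) : False := by
  classical
  obtain ⟨g, hg⟩ := isConj_iff.1 hu
  have hS := B.full_sharp h hkm
  have hodd : Odd (Fintype.card (fixedBy Ω B.t)) := by
    rw [← Nat.card_eq_fintype_card, Nat.card_coe_set_eq]; exact hm
  -- pull back along the conjugation
  have hcomm : ∀ y : G, Commute u y → Commute (g⁻¹ * y * g) B.t := by
    intro y hy
    have h1 := hy.symm.map (MulAut.conj g⁻¹)
    simp only [MulAut.conj_apply, inv_inv] at h1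
    rwa [show g⁻¹ * u * g = B.t by rw [← hg]; group] at h1
  have hinH : ∀ y : G, y • B.a = B.a → y • B.b = B.b → y * y = 1 →
      ((g⁻¹ * y * g) * (g⁻¹ * y * g) = 1 ∧ Commute (g⁻¹ * y * g) B.t) := fun y hya hyb hy =>
    ⟨by rw [show g⁻¹ * y * g * (g⁻¹ * y * g) = g⁻¹ * (y * y) * g by group, hy, mul_one,
      inv_mul_cancel], hcomm y (hD.central y hya hyb)⟩
  have ht2 := mul_self_of_order_two B.ht
  have hv2 := mul_self_of_order_two B.hv
  have htv2 := mul_self_of_order_two B.orderOf_tv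
  have htva : (B.t * B.v) • B.a = B.a := by rw [mul_smul, B.hva, B.hta]
  have htvb : (B.t * B.v) • B.b = B.b := by rw [mul_smul, B.hvb, B.htb]
  set π : centralizer ({B.t} : Set G) →* fixRange Ω B.t :=
    (toPermHom (centralizer ({B.t} : Set G)) (fixedBy Ω B.t)).rangeRestrict with hπ
  -- an involution of the stabiliser fixing every fixed point of u
  obtain ⟨y, hyo, hya, hyb, hy⟩ : ∃ y : G, orderOf y = 2 ∧ y • B.a = B.a ∧ y • B.b = B.b ∧
      ∀ x : Ω, u • x = x → y • x = x := by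
    have hfix : ∀ (y : G) (hy : Commute (g⁻¹ * y * g) B.t),
        π ⟨g⁻¹ * y * g, mem_centralizer_singleton_iff.2 hy.eq⟩ = 1 →
          ∀ x : Ω, u • x = x → y • x = x := by
      intro y hy he x hx
      have htx : B.t • g⁻¹ • x = g⁻¹ • x := by
        rw [← hg, mul_smul, mul_smul, smul_eq_iff_eq_inv_smul] at hx
        exact hx
      have h1 : (g⁻¹ * y * g) • g⁻¹ • x = g⁻¹ • x :=
        B.four_fix h hkm ((B.full_ker h hkm).1 he) htx
      rw [mul_smul, smul_inv_smul, mul_smul, smul_left_cancel_iff] at h1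
      exact h1
    obtain ⟨hta2, htc⟩ := hinH _ B.hta B.htb ht2
    obtain ⟨hva2, hvc⟩ := hinH _ B.hva B.hvb hv2
    obtain ⟨-, htvc⟩ := hinH _ htva htvb htv2
    by_cases e1 : π ⟨g⁻¹ * B.t * g, mem_centralizer_singleton_iff.2 htc.eq⟩ = 1
    · exact ⟨B.t, B.ht, B.hta, B.htb, hfix _ htc e1⟩
    by_cases e2 : π ⟨g⁻¹ * B.v * g, mem_centralizer_singleton_iff.2 hvc.eq⟩ = 1
    · exact ⟨B.v, B.hv, B.hva, B.hvb, hfix _ hvc e2⟩
    refine ⟨B.t * B.v, B.orderOf_tv, htva, htvb, hfix _ htvc ?_⟩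
    have o1 : orderOf (π ⟨g⁻¹ * B.t * g, mem_centralizer_singleton_iff.2 htc.eq⟩) = 2 :=
      order_two (by rw [← map_mul, show (⟨g⁻¹ * B.t * g, _⟩ : centralizer ({B.t} : Set G)) *
        ⟨g⁻¹ * B.t * g, _⟩ = 1 from Subtype.ext hta2, map_one]) e1
    have o2 : orderOf (π ⟨g⁻¹ * B.v * g, mem_centralizer_singleton_iff.2 hvc.eq⟩) = 2 :=
      order_two (by rw [← map_mul, show (⟨g⁻¹ * B.v * g, _⟩ : centralizer ({B.t} : Set G)) *
        ⟨g⁻¹ * B.v * g, _⟩ = 1 from Subtype.ext hva2, map_one]) e2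
    have hc : Commute (⟨g⁻¹ * B.t * g, mem_centralizer_singleton_iff.2 htc.eq⟩ :
        centralizer ({B.t} : Set G)) ⟨g⁻¹ * B.v * g, mem_centralizer_singleton_iff.2 hvc.eq⟩ := by
      apply Subtype.ext
      show g⁻¹ * B.t * g * (g⁻¹ * B.v * g) = g⁻¹ * B.v * g * (g⁻¹ * B.t * g)
      rw [show g⁻¹ * B.t * g * (g⁻¹ * B.v * g) = g⁻¹ * (B.t * B.v) * g by group, B.hcomm.eq]
      group
    have heq := Sharp.invol_unique hS hodd o1 o2 (hc.map π)
    rw [show (⟨g⁻¹ * (B.t * B.v) * g, mem_centralizer_singleton_iff.2 htvc.eq⟩ :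
        centralizer ({B.t} : Set G)) =
        ⟨g⁻¹ * B.t * g, mem_centralizer_singleton_iff.2 htc.eq⟩ *
          ⟨g⁻¹ * B.v * g, mem_centralizer_singleton_iff.2 hvc.eq⟩ from
      Subtype.ext (show g⁻¹ * (B.t * B.v) * g = g⁻¹ * B.t * g * (g⁻¹ * B.v * g) by group),
      map_mul, ← heq, mul_self_of_order_two o1]
  -- so every involution of the stabiliser does
  have hall : ∀ z : G, orderOf z = 2 → z • B.a = B.a → z • B.b = B.b →
      g⁻¹ * z * g = B.v ∨ g⁻¹ * z * g = B.t * B.v := by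
    intro z hzo hza hzb
    obtain ⟨p, hpa, hpb, hp⟩ := h.isConj_pair B.hab hyo hzo hya hyb hza hzb
    have hz : ∀ x : Ω, u • x = x → z • x = x := by
      intro x hx
      have hpu : Commute u p⁻¹ := (hD.central p hpa hpb).inv_right
      have h1 : y • p⁻¹ • x = p⁻¹ • x :=
        hy _ (by rw [← mul_smul, hpu.eq, mul_smul, hx])
      rw [← hp, mul_smul, mul_smul, h1, smul_inv_smul]
    have hF : ∀ x : Ω, B.t • x = x → (g⁻¹ * z * g) • x = x := by
      intro x hx
      rw [mul_smul, mul_smul, inv_smul_eq_iff]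
      exact hz _ (by rw [← hg, mul_smul, mul_smul, inv_smul_smul, hx])
    obtain ⟨hz2, hzc⟩ := hinH z hza hzb (mul_self_of_order_two hzo)
    rcases B.cases_of_fix h B.hab B.hta B.htb B.hva B.hvb (hF _ B.hta) (hF _ B.htb) hzc
      with e | e | e | e
    · refine absurd ?_ (ne_one_of_order_two hzo)
      calc z = g * (g⁻¹ * z * g) * g⁻¹ := by group
        _ = 1 := by rw [e, mul_one, mul_inv_cancel]
    · exfalso
      have hzu : z = u := by
        rw [← hg, ← e]; group
      exact B.hab (by rw [← hza, hzu, hD.swap.2.1])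
    · exact Or.inl e
    · exact Or.inr e
  have inj : ∀ p q : G, g⁻¹ * p * g = g⁻¹ * q * g → p = q := fun p q e =>
    mul_left_cancel (mul_right_cancel e)
  have n1 : B.t ≠ B.t * B.v := fun e => ne_one_of_order_two B.hv (mul_eq_left.1 e.symm)
  have n2 : B.v ≠ B.t * B.v := fun e => ne_one_of_order_two B.ht (mul_eq_right.1 e.symm)
  rcases hall _ B.ht B.hta B.htb with e1 | e1 <;> rcases hall _ B.hv B.hva B.hvb with e2 | e2 <;>
    rcases hall _ B.orderOf_tv htva htvb with e3 | e3 <;>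
    first
      | exact B.hne (inj _ _ (e1.trans e2.symm))
      | exact n1 (inj _ _ (e1.trans e3.symm))
      | exact n2 (inj _ _ (e2.trans e3.symm))

/-- Symmetric set stabiliser: the degree is seven. -/
theorem full_outer (hm : Odd B.m) {s : G} (hO : B.Outer s) (he : B.e = 10) :
    Fintype.card Ω = 7 := by
  classical
  obtain ⟨⟨hso, hsa, hsb⟩, hst, hsv, hall⟩ := hO
  have hS := B.full_sharp h hkm
  have hF : Fintype.card (fixedBy Ω B.t) = B.m := by
    rw [← Nat.card_eq_fintype_card, Nat.card_coe_set_eq]; rfl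
  have hodd : Odd (Fintype.card (fixedBy Ω B.t)) := hF ▸ hm
  have hm3 : 3 ≤ B.m := by
    obtain ⟨q, hq⟩ := hm
    have := B.two_le_m
    omega
  have hss := mul_self_of_order_two hso
  have htt := mul_self_of_order_two B.ht
  have hvv := mul_self_of_order_two B.hv
  have hsi := inv_eq_self hso
  have hvi := inv_eq_self B.hv
  have hsvs : s * B.v * s = B.t * B.v := by rw [← hsv, hsi]
  set C := centralizer ({B.t} : Set G) with hC
  have hCmem : ∀ {z : G}, z ∈ C → Commute z B.t := fun hz => mem_centralizer_singleton_iff.1 hz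
  let sC : C := ⟨s, mem_centralizer_singleton_iff.2 hst.eq⟩
  let vC : C := ⟨B.v, mem_centralizer_singleton_iff.2 B.hcomm.symm.eq⟩
  set π : C →* fixRange Ω B.t :=
    (toPermHom (centralizer ({B.t} : Set G)) (fixedBy Ω B.t)).rangeRestrict with hπ
  have hπsurj : Function.Surjective π := MonoidHom.rangeRestrict_surjective _
  have hker : ∀ z : C, π z = 1 →
      (z : G) = 1 ∨ (z : G) = B.t ∨ (z : G) = B.v ∨ (z : G) = B.t * B.v :=
    fun z hz => (B.full_ker h hkm).1 hz
  have hπv : π vC = 1 := (B.full_ker h hkm).2 (Or.inr (Or.inr (Or.inl rfl)))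
  have hπs : orderOf (π sC) = 2 := by
    refine order_two (by rw [← map_mul, show sC * sC = 1 from Subtype.ext hss, map_one]) fun e => ?_
    refine B.hab ?_
    rw [← hsa]
    exact (B.four_fix h hkm (hker _ e) B.hta).symm
  have hR : Nat.card (fixRange Ω B.t) = B.m * (B.m - 1) := by
    obtain ⟨c, d, hcd⟩ := Fintype.exists_pair_of_one_lt_card
      (α := fixedBy Ω B.t) (by rw [hF]; omega)
    rw [card_group hS.two hcd, hS.pair_card hcd, mul_one, hF]
  have hCc : Nat.card C = B.m * (B.m - 1) * 4 := B.card_cent h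
  -- the subgroup centralising v has index two
  set C₀ := (centralizer ({B.v} : Set G)).subgroupOf C with hC₀
  have hvcases : ∀ z : C, (z : G) * B.v * (z : G)⁻¹ = B.v ∨
      (z : G) * B.v * (z : G)⁻¹ = B.t * B.v := by
    intro z
    have hz := hCmem z.2
    have f : ∀ x : Ω, B.t • x = x → B.t • (z : G) • x = (z : G) • x := fun x hx => by
      rw [← mul_smul, ← hz.eq, mul_smul, hx]
    exact B.conj_v h hz ⟨f _ B.hta, B.fixV_of_full h hkm (f _ B.hta)⟩
      ⟨f _ B.htb, B.fixV_of_full h hkm (f _ B.htb)⟩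
  have hC₀mem : ∀ z : C, z ∈ C₀ ↔ (z : G) * B.v * (z : G)⁻¹ = B.v := fun z => by
    rw [hC₀, mem_subgroupOf, mem_centralizer_singleton_iff, mul_inv_eq_iff_eq_mul]
  have htvne : B.t * B.v ≠ B.v := fun e => ne_one_of_order_two B.ht (mul_eq_right.1 e)
  have hidx : C₀.index = 2 := by
    rw [index_eq_two_iff]
    refine ⟨sC, fun z => ?_⟩
    have hzs : ((z * sC : C) : G) * B.v * ((z * sC : C) : G)⁻¹ =
        B.t * ((z : G) * B.v * (z : G)⁻¹) := by
      calc (z : G) * s * B.v * ((z : G) * s)⁻¹ = (z : G) * (s * B.v * s⁻¹) * (z : G)⁻¹ := by group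
        _ = (z : G) * B.t * B.v * (z : G)⁻¹ := by rw [hsv]; group
        _ = B.t * ((z : G) * B.v * (z : G)⁻¹) := by rw [(hCmem z.2).eq]; group
    rw [hC₀mem, hC₀mem, hzs]
    rcases hvcases z with e | e <;> rw [e]
    · exact Or.inr ⟨rfl, htvne⟩
    · refine Or.inl ⟨?_, htvne⟩
      rw [← mul_assoc, htt, one_mul]
  have hct : Nat.card (centralizer ({B.t, B.t * B.v} : Set G)) * 2 = B.m * (B.m - 1) * 4 := by
    rw [← hCc, ← C₀.card_mul_index, hidx]
    congr 1
    refine Nat.card_congr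
      { toFun := fun z => ⟨⟨z.1, ?_⟩, ?_⟩
        invFun := fun z => ⟨z.1.1, ?_⟩
        left_inv := fun z => rfl
        right_inv := fun z => rfl }
    · exact mem_centralizer_singleton_iff.2 ((mem_centralizer_iff.1 z.2 B.t (Or.inl rfl)).symm)
    · refine mem_subgroupOf.2 (mem_centralizer_singleton_iff.2 ?_)
      have h1 : Commute z.1 B.t := (mem_centralizer_iff.1 z.2 B.t (Or.inl rfl)).symm
      have h2 : Commute z.1 (B.t * B.v) := (mem_centralizer_iff.1 z.2 _ (Or.inr rfl)).symm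
      have h3 := h1.mul_right h2
      rwa [← mul_assoc, htt, one_mul] at h3
    · refine mem_centralizer_iff.2 ?_
      have h1 : Commute z.1.1 B.t := hCmem z.1.2
      have h2 : Commute z.1.1 B.v := mem_centralizer_singleton_iff.1 (mem_subgroupOf.1 z.2)
      rintro x (rfl | rfl)
      · exact h1.symm.eq
      · exact (h1.mul_right h2).symm.eq
  -- the degree of the fixed point set is three modulo four
  have hm4 : B.m % 4 = 3 := by
    by_contra hne
    obtain ⟨q, hq⟩ : 4 ∣ B.m - 1 := by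
      obtain ⟨r, hr⟩ := hm
      omega
    have := normal_of_index_eq_two hidx
    have hsC₀ : sC ∉ C₀ := fun e => htvne (hsv.symm.trans ((hC₀mem sC).1 e))
    have hkC₀ : ∀ z : C, π z = 1 → z ∈ C₀ := by
      intro z hz
      rw [hC₀mem, mul_inv_eq_iff_eq_mul]
      rcases hker z hz with e | e | e | e <;> rw [e]
      · rw [one_mul, mul_one]
      · exact B.hcomm.eq
      · exact (B.hcomm.mul_left (Commute.refl B.v)).eq
    have hmap : (C₀.map π).index = 2 := by
      rw [index_map_eq _ hπsurj (fun z hz => hkC₀ z hz), hidx]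
    have hcardmap : Nat.card (C₀.map π) = B.m * (2 * q) := by
      have h1 := (C₀.map π).card_mul_index
      rw [hmap, hR, hq] at h1
      have h2 : B.m * (4 * q) = B.m * (2 * q) * 2 := by ring
      omega
    obtain ⟨⟨r, hr⟩, hro⟩ := exists_prime_orderOf_dvd_card' (G := ↥(C₀.map π)) 2
      (by rw [hcardmap]; exact Dvd.dvd.mul_left (dvd_mul_right 2 q) _)
    rw [Subgroup.orderOf_mk] at hro
    obtain ⟨z, hz, rfl⟩ := hr
    obtain ⟨p, hp⟩ := isConj_iff.1 (Sharp.invol_conj hS hodd hro hπs)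
    obtain ⟨w, rfl⟩ := hπsurj p
    have hk : w * z * w⁻¹ * sC⁻¹ ∈ C₀ := hkC₀ _ (by
      rw [map_mul, map_mul, map_mul, map_inv, map_inv, hp, mul_inv_cancel])
    have hc : w * z * w⁻¹ ∈ C₀ := Normal.conj_mem ‹_› z hz w
    exact hsC₀ (by simpa [mul_assoc] using mul_mem (inv_mem hk) hc)
  -- the centraliser of t and s
  have hcs : Nat.card (centralizer ({B.t, s} : Set G)) * 2 = (B.m - 1) * 4 := by
    set Q := (centralizer ({π sC} : Set (fixRange Ω B.t))).comap π with hQ
    have hQc : Nat.card Q = (B.m - 1) * 4 := by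
      have h1 := Q.card_mul_index
      have h2 := (centralizer ({π sC} : Set (fixRange Ω B.t))).card_mul_index
      rw [Sharp.card_centralizer hS hodd hπs, hF, hR] at h2
      rw [hQ, index_comap_of_surjective _ hπsurj, ← hQ, hCc] at h1
      have hpos : 0 < (centralizer ({π sC} : Set (fixRange Ω B.t))).index :=
        Nat.pos_of_ne_zero FiniteIndex.index_ne_zero
      refine Nat.eq_of_mul_eq_mul_right hpos ?_
      rw [h1, ← h2]; ring
    set T := ((centralizer ({s} : Set G)).subgroupOf C).subgroupOf Q with hT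
    have hTmem : ∀ z : Q, z ∈ T ↔ (z.1.1 : G) * s * (z.1.1 : G)⁻¹ = s := fun z => by
      rw [hT, mem_subgroupOf, mem_subgroupOf, mem_centralizer_singleton_iff, mul_inv_eq_iff_eq_mul]
    have hvsv : B.v * s * B.v = B.t * s := by
      calc B.v * s * B.v = (s * s) * B.v * s * B.v := by rw [hss, one_mul]
        _ = s * (s * B.v * s) * B.v := by group
        _ = (s * B.t) * (B.v * B.v) := by rw [hsvs]; group
        _ = B.t * s := by rw [hvv, mul_one, hst.eq]
    have hQcases : ∀ z : Q, (z.1.1 : G) * s * (z.1.1 : G)⁻¹ = s ∨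
        (z.1.1 : G) * s * (z.1.1 : G)⁻¹ = B.t * s := by
      intro z
      have h1 : π (z.1 * sC * z.1⁻¹ * sC⁻¹) = 1 := by
        rw [map_mul, map_mul, map_mul, map_inv, map_inv,
          mem_centralizer_singleton_iff.1 (mem_comap.1 z.2), mul_inv_cancel_right, mul_inv_cancel]
      have h2 : (z.1.1 * s * z.1.1⁻¹) * (z.1.1 * s * z.1.1⁻¹) = 1 := by
        rw [conj_mul, hss, mul_one, mul_inv_cancel]
      have hw : ∀ w : G, z.1.1 * s * z.1.1⁻¹ * s⁻¹ = w → z.1.1 * s * z.1.1⁻¹ = w * s :=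
        fun w hw => by rw [← hw, inv_mul_cancel_right]
      rcases hker _ h1 with e | e | e | e
      · exact Or.inl (by rw [hw _ e, one_mul])
      · exact Or.inr (hw _ e)
      · exfalso
        rw [hw _ e] at h2
        refine ne_one_of_order_two B.ht ?_
        calc B.t = B.v * B.v * B.t := by rw [hvv, one_mul]
          _ = B.v * (B.t * B.v) := by rw [B.hcomm.eq]; group
          _ = B.v * s * (B.v * s) := by rw [← hsvs]; group
          _ = 1 := h2
      · exfalso
        rw [hw _ e] at h2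
        refine ne_one_of_order_two B.ht ?_
        have hts : s * B.t = B.t * s := hst.eq
        calc B.t = B.t * B.v * (B.t * (B.t * B.v)) := by
              rw [← mul_assoc B.t B.t, htt, one_mul, mul_assoc, hvv, mul_one]
          _ = B.t * B.v * (B.t * (s * B.v * s)) := by rw [hsvs]
          _ = B.t * B.v * (s * B.t * B.v * s) := by rw [hts]; group
          _ = B.t * B.v * s * (B.t * B.v * s) := by group
          _ = 1 := h2
    have hidxT : T.index = 2 := by
      rw [index_eq_two_iff]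
      refine ⟨⟨vC, mem_comap.2 (by rw [hπv]; exact one_mem _)⟩, fun z => ?_⟩
      rw [hTmem, hTmem]
      have hzv : (z.1.1 * B.v) * s * (z.1.1 * B.v)⁻¹ = B.t * (z.1.1 * s * z.1.1⁻¹) := by
        calc z.1.1 * B.v * s * (z.1.1 * B.v)⁻¹ = z.1.1 * (B.v * s * B.v⁻¹) * z.1.1⁻¹ := by group
          _ = z.1.1 * B.t * s * z.1.1⁻¹ := by rw [hvi, hvsv]; group
          _ = B.t * (z.1.1 * s * z.1.1⁻¹) := by rw [(hCmem z.1.2).eq]; group
      have htsne : B.t * s ≠ s := fun e => ne_one_of_order_two B.ht (mul_eq_right.1 e)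
      show Xor ((z.1.1 * B.v) * s * (z.1.1 * B.v)⁻¹ = s) _
      rw [hzv]
      rcases hQcases z with e | e <;> rw [e]
      · exact Or.inr ⟨rfl, htsne⟩
      · refine Or.inl ⟨?_, htsne⟩
        rw [← mul_assoc, htt, one_mul]
    rw [← hQc, ← T.card_mul_index, hidxT]
    congr 1
    refine Nat.card_congr
      { toFun := fun z => ⟨⟨⟨z.1, ?_⟩, ?_⟩, ?_⟩
        invFun := fun z => ⟨z.1.1.1, ?_⟩
        left_inv := fun z => rfl
        right_inv := fun z => rfl }
    · exact mem_centralizer_singleton_iff.2 ((mem_centralizer_iff.1 z.2 B.t (Or.inl rfl)).symm)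
    · rw [hQ, mem_comap, mem_centralizer_singleton_iff, ← map_mul, ← map_mul]
      exact congrArg π (Subtype.ext (mem_centralizer_iff.1 z.2 s (Or.inr rfl)).symm)
    · exact mem_subgroupOf.2 (mem_subgroupOf.2
        (mem_centralizer_singleton_iff.2 (mem_centralizer_iff.1 z.2 s (Or.inr rfl)).symm))
    · refine mem_centralizer_iff.2 ?_
      rintro x (rfl | rfl)
      · exact (hCmem z.1.1.2).symm.eq
      · exact (mem_centralizer_singleton_iff.1 (mem_subgroupOf.1 (mem_subgroupOf.1 z.2))).symm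
  -- the order of the group
  obtain ⟨j, hj⟩ : ∃ j, B.m = 4 * j + 3 := ⟨B.m / 4, by omega⟩
  have hn3 : 3 * Fintype.card Ω = B.m * (2 * B.m + 1) := by
    have h1 := B.count h
    rw [he, hj] at h1
    have h2 := B.m_lt h
    rw [hj] at h2 ⊢
    simp only [show 4 * j + 3 - 1 = 4 * j + 2 by omega] at h1
    obtain ⟨r, hr⟩ : ∃ r, Fintype.card Ω = 4 * j + 3 + r := ⟨Fintype.card Ω - (4 * j + 3), by omega⟩
    rw [hr, Nat.add_sub_cancel_left] at h1
    rw [hr]
    nlinarith
  have hn1 : 3 * (Fintype.card Ω - 1) = (2 * B.m + 3) * (B.m - 1) := by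
    rw [Nat.mul_sub, hn3, hj, show 4 * j + 3 - 1 = 4 * j + 2 by omega]
    have : (4 * j + 3) * (2 * (4 * j + 3) + 1) = (2 * (4 * j + 3) + 3) * (4 * j + 2) + 3 := by ring
    omega
  have hG : 3 * Nat.card G = 8 * (5 * (4 * j + 3) * (2 * j + 1) * (8 * j + 7) * (8 * j + 9)) := by
    refine mul_left_cancel₀ (show (3 : ℕ) ≠ 0 by norm_num) ?_
    calc 3 * (3 * Nat.card G) = (3 * Fintype.card Ω) * (3 * (Fintype.card Ω - 1)) * 60 := by
          rw [h.natCard_group B.hab]; ring
      _ = _ := by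
          rw [hn3, hn1, hj, show 4 * j + 3 - 1 = 4 * j + 2 by omega]; ring
  have h16 : ¬ 16 ∣ Nat.card G := by
    intro hd
    obtain ⟨r, hr⟩ := hd
    have hoddN : Odd (5 * (4 * j + 3) * (2 * j + 1) * (8 * j + 7) * (8 * j + 9)) :=
      (((Odd.mul ⟨2, rfl⟩ ⟨2 * j + 1, by ring⟩).mul ⟨j, rfl⟩).mul ⟨4 * j + 3, by ring⟩).mul
        ⟨4 * j + 4, by ring⟩
    obtain ⟨w, hw⟩ := hoddN
    rw [hr, hw] at hG
    omega
  -- a dihedral Sylow subgroup of order eight
  set σ := s * B.v with hσ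
  have hσ2 : σ * σ = B.t := by
    calc s * B.v * (s * B.v) = s * B.v * s * B.v := by group
      _ = B.t * (B.v * B.v) := by rw [hsvs]; group
      _ = B.t := by rw [hvv, mul_one]
  have hσ4 : orderOf σ = 2 * 2 := by
    rw [show (2 : ℕ) * 2 = 2 ^ (1 + 1) from rfl]
    refine orderOf_eq_prime_pow (fun e => ?_) ?_
    · rw [pow_one, pow_two, hσ2] at e
      exact ne_one_of_order_two B.ht e
    · rw [show (2 : ℕ) ^ (1 + 1) = 2 * 2 from rfl, pow_mul, pow_two σ, hσ2, pow_two, htt]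
  have hrel : s * σ * s⁻¹ = σ⁻¹ := by
    rw [hσ, mul_inv_rev, hsi, hvi, ← mul_assoc s s, hss, one_mul]
  have hnot : s ∉ zpowers σ := by
    rintro ⟨i, hi⟩
    have hc : Commute s σ := hi ▸ (Commute.refl σ).zpow_left i
    rw [hc.eq, mul_inv_cancel_right, eq_inv_iff_mul_eq_one, hσ2] at hrel
    exact ne_one_of_order_two B.ht hrel
  obtain ⟨eD⟩ := CfsgLib.Invol.exists_mulEquiv_dihedral hσ4 hso hrel hnot
  have hS8 : Nat.card (closure ({σ, s} : Set G)) = 2 ^ 3 := by
    rw [Nat.card_congr eD.toEquiv, DihedralGroup.nat_card]; norm_num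
  obtain ⟨P, hP⟩ := (IsPGroup.of_card hS8).exists_le_sylow
  have hP8 : Nat.card (P : Subgroup G) = 4 * 2 := by
    obtain ⟨i, hi⟩ := P.isPGroup'.exists_card_eq
    have h1 : 2 ^ 3 ∣ 2 ^ i := by rw [← hS8, ← hi]; exact card_dvd_of_le hP
    have h2 : i ≤ 3 := by
      by_contra hlt
      refine h16 ?_
      calc 16 = 2 ^ 4 := rfl
        _ ∣ 2 ^ i := pow_dvd_pow 2 (by omega)
        _ = Nat.card (P : Subgroup G) := hi.symm
        _ ∣ Nat.card G := card_subgroup_dvd_card _
    have h3 : 3 ≤ i := (Nat.pow_dvd_pow_iff_le_right (by norm_num)).1 h1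
    rw [hi, show i = 3 by omega]; norm_num
  obtain ⟨D, hDh, hDr, hDs⟩ := CfsgLib.BlockA.DihedralBlock.exists_data_of_elems P (h := 2)
    two_pos ⟨1, rfl⟩ hP8 (hP (subset_closure (Or.inl rfl))) (hP (subset_closure (Or.inr rfl)))
    hσ4 hso hrel hnot
  have hz : CfsgLib.Invol.dz P D = B.t := by
    rw [← CfsgLib.BlockA.DihedralBlock.rot_pow_h P D, hDh, CfsgLib.BlockA.DihedralBlock.rot, hDr,
      pow_two, hσ2]
  have h0 : CfsgLib.Invol.dt P D 0 = s := by simp [CfsgLib.Invol.dt, hDs]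
  have h1 : CfsgLib.Invol.dt P D 1 = B.t * B.v := by
    simp [CfsgLib.Invol.dt, hDs, hDr, hσ]
    exact hsvs
  have hone : ∀ x y : G, orderOf x = 2 → orderOf y = 2 → IsConj x y := by
    have key : ∀ x : G, orderOf x = 2 → IsConj B.t x := fun x hx => by
      rcases CfsgLib.Invol.invol_dih P D hx with e | e | e
      · rw [hz] at e; exact e.symm
      · rw [h0] at e; exact (hall s ⟨hso, hsa, hsb⟩).trans e.symm
      · rw [h1] at e
        exact (B.isConj_t h B.orderOf_tv B.hab (by rw [mul_smul, B.hva, B.hta])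
          (by rw [mul_smul, B.hvb, B.htb])).trans e.symm
    exact fun x y hx hy => (key x hx).symm.trans (key y hy)
  obtain ⟨x, δ, hδ, hx, hne, h4, hord⟩ := dihedral_eight_degree P D hDh hone
  rw [hz, h0, h1, hCc] at hord
  have hm1 : ((B.m - 1 : ℕ) : ℚ) = (B.m : ℚ) - 1 := by
    rw [Nat.cast_sub (by omega)]; norm_num
  have hc1 : (Nat.card (centralizer ({B.t, s} : Set G)) : ℚ) = 2 * ((B.m : ℚ) - 1) := by
    have := congrArg (Nat.cast (R := ℚ)) hcs
    push_cast [hm1] at this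
    linarith
  have hc2 : (Nat.card (centralizer ({B.t, B.t * B.v} : Set G)) : ℚ) =
      2 * ((B.m : ℚ) * ((B.m : ℚ) - 1)) := by
    have := congrArg (Nat.cast (R := ℚ)) hct
    push_cast [hm1] at this
    linarith
  have hGq : 3 * (Nat.card G : ℚ) =
      20 * ((B.m : ℚ) * ((B.m : ℚ) - 1)) * ((2 * B.m + 1) * (2 * B.m + 3)) := by
    have := congrArg (Nat.cast (R := ℚ)) hG
    push_cast at this
    rw [this, hj]
    push_cast
    ring
  rw [hc1, hc2] at hord
  push_cast [hm1] at hord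
  have hq0 : (B.m : ℚ) ≠ 0 := by norm_cast; omega
  have hq1 : (B.m : ℚ) - 1 ≠ 0 := by rw [← hm1]; norm_cast; omega
  field_simp at hord
  have hfin : 5 * (2 * (B.m : ℚ) + 1) * (2 * B.m + 3) * ((x : ℚ) - δ) ^ 2 =
      24 * (x : ℚ) * ((x : ℚ) + δ) * ((B.m : ℚ) + 1) ^ 2 := by
    refine mul_left_cancel₀ (mul_ne_zero hq0 hq1) ?_
    linear_combination (3 / 8 : ℚ) * hord - ((x : ℚ) - δ) ^ 2 / 4 * hGq
  have hm_eq : B.m = 3 := dihedral_odd_arith hδ hx hne h4 hm3 (by exact_mod_cast hfin)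
  rw [hm_eq] at hn3
  omega

end Base

/-- Odd degree with the four group fixing every fixed point of its involution. -/
theorem Hyp.odd_full (h : Hyp G Ω) (B : Base G Ω) (hn : Odd (Fintype.card Ω)) (hk : B.k = B.m)
    (he : B.e ≠ 15) : Fintype.card Ω = 7 := by
  have hm : Odd B.m := by
    have hev := even_moved (F := Ω) (mul_self_of_order_two B.ht)
    rw [Nat.card_coe_set_eq] at hev
    have hlt := B.m_lt h
    rw [Base.m, Base.F] at hlt ⊢
    obtain ⟨p, hp⟩ := hev
    obtain ⟨q, hq⟩ := hn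
    exact ⟨q - p, by omega⟩
  rcases B.swap_cases h with ⟨u, hD, hcase⟩ | ⟨s, hO, h10⟩
  · exfalso
    refine B.full_direct_false h hk hm hD ?_
    rcases hcase with ⟨-, hu, -⟩ | ⟨h15, -, -⟩ | ⟨-, hall⟩
    · exact hu
    · exact absurd h15 he
    · exact hall u hD.swap
  · exact B.full_outer h hk hm hO h10

end CfsgLib.Perm.TwoPointFive
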