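import Cfsg.Agent.Lib.Perm.TwoPointFive.Quot
import Cfsg.Agent.Lib.Perm.TwoPointFive.Klein
import Cfsg.Agent.Lib.StructC.UniqueInvol
import Mathlib.GroupTheory.Perm.Cycle.Type

/-!
The odd degree cases in which the kernel of the centraliser of an involution on its fixed points
has order two: none occurs.
-/

set_option autoImplicit false
set_option linter.unusedSectionVars false

namespace CfsgLib.Perm.TwoPointFive

open MulAction

namespace HalfSharp

variable {X F : Type*} [Group X] [Finite X] [MulAction X F] [Fintype F]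

/-- An involution fixing less than two points. -/
def Small (F : Type*) {X : Type*} [Group X] [MulAction X F] (x : X) : Prop :=
  orderOf x = 2 ∧ ¬ Big F x

/-- The hypothesis of one big swapper for each pair. -/
abbrev One (X F : Type*) [Group X] [MulAction X F] : Prop :=
  ∀ c d : F, c ≠ d → ∀ x y : X, x ≠ y → x • c = d → x • d = c → y • c = d → y • d = c →
    (Big F x ↔ ¬ Big F y)

variable (h : HalfSharp X F) (hm : Odd (Fintype.card F))
include h hm

theorem small_point {x : X} (hx : Small F x) :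
    ∃ p : F, x • p = p ∧ ∀ q : F, x • q = q → q = p := by
  classical
  have h1 := even_moved (F := F) (mul_self_of_order hx.1)
  have h2 : Nat.card (fixedBy F x) ≤ 1 := by
    by_contra h2
    exact hx.2 ⟨hx.1, by omega⟩
  have h3 : Nat.card (fixedBy F x) = 1 := by
    rcases Nat.eq_zero_or_pos (Nat.card (fixedBy F x)) with h0 | h0
    · rw [h0, Nat.sub_zero] at h1
      exact absurd h1 (Nat.not_even_iff_odd.2 hm)
    · omega
  obtain ⟨⟨p, hp⟩, hu⟩ := Nat.card_eq_one_iff_exists.1 h3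
  exact ⟨p, hp, fun q hq => congrArg Subtype.val (hu ⟨q, hq⟩)⟩

theorem exists_small_swap (one : One X F) {c d : F} (hcd : c ≠ d) :
    ∃ x : X, Small F x ∧ x • c = d ∧ x • d = c ∧
      ∀ y : X, Small F y → y • c = d → y • d = c → y = x := by
  obtain ⟨g, hgc, hgd⟩ := exists_smul_pair h.two hcd (Ne.symm hcd)
  obtain ⟨s, hs, hsc, hsd⟩ := h.exists_pair_invol hcd
  have hne : g ≠ g * s := fun e => by
    rw [left_eq_mul] at e
    rw [e, orderOf_one] at hs
    norm_num at hs
  have h2c : (g * s) • c = d := by rw [mul_smul, hsc, hgc]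
  have h2d : (g * s) • d = c := by rw [mul_smul, hsd, hgd]
  have key := one c d hcd g (g * s) hne hgc hgd h2c h2d
  by_cases hb : Big F g
  · refine ⟨g * s, ⟨h.swap_order hcd h2c h2d, key.1 hb⟩, h2c, h2d, fun y hy hyc hyd => ?_⟩
    exact (h.swappers_eq hcd hne hgc hgd h2c h2d hyc hyd).resolve_left fun e => hy.2 (e ▸ hb)
  · refine ⟨g, ⟨h.swap_order hcd hgc hgd, hb⟩, hgc, hgd, fun y hy hyc hyd => ?_⟩
    refine (h.swappers_eq hcd hne hgc hgd h2c h2d hyc hyd).resolve_right fun e => ?_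
    exact hy.2 (e ▸ not_not.1 (fun hnb => hb (key.2 hnb)))

theorem small_at (one : One X F) (hF : 2 ≤ Fintype.card F) (p : F) :
    ∃ w : X, Small F w ∧ w • p = p := by
  obtain ⟨c, d, hcd⟩ := Fintype.exists_pair_of_one_lt_card (α := F) hF
  obtain ⟨w, hw, -⟩ := h.exists_small_swap hm one hcd
  obtain ⟨q, hq, -⟩ := h.small_point hm hw
  haveI := isPretransitive_of_is_two_pretransitive (h2 := h.two)
  obtain ⟨g, rfl⟩ := exists_smul_eq X q p
  refine ⟨g * w * g⁻¹, ⟨?_, fun hb => hw.2 ?_⟩, by rw [mul_smul, mul_smul, inv_smul_smul, hq]⟩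
  · rw [← hw.1]; exact MulEquiv.orderOf_eq (MulAut.conj g) w
  · have := hb.conj g⁻¹
    rwa [inv_inv, show g⁻¹ * (g * w * g⁻¹) * g = w by group] at this

theorem small_unique (one : One X F) (hF : 2 ≤ Fintype.card F) {x y : X} (hx : Small F x)
    (hy : Small F y) {p : F} (hxp : x • p = p) (hyp : y • p = p) : x = y := by
  classical
  haveI := Fintype.ofFinite X
  set W : Finset X := Finset.univ.filter fun w => Small F w with hW
  have hmem : ∀ w : X, w ∈ W ↔ Small F w := fun w => by simp [hW]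
  set T : Finset (X × F) := (W ×ˢ Finset.univ).filter fun q => q.1 • q.2 ≠ q.2 with hT
  have hTW : T.card = W.card * (Fintype.card F - 1) := by
    rw [Finset.card_eq_sum_card_fiberwise (f := Prod.fst) (t := W)
      (fun q hq => (Finset.mem_product.1 (Finset.mem_filter.1 hq).1).1),
      Finset.sum_const_nat (m := Fintype.card F - 1) fun w hw => ?_]
    obtain ⟨q₀, hq₀, hu⟩ := h.small_point hm ((hmem w).1 hw)
    rw [← Finset.card_univ, ← Finset.card_erase_of_mem (Finset.mem_univ q₀)]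
    refine Finset.card_bij (fun q _ => q.2) (fun q hq => ?_) (fun q hq q' hq' e => ?_) (fun c hc => ?_)
    · obtain ⟨hqT, rfl⟩ := Finset.mem_filter.1 hq
      exact Finset.mem_erase.2 ⟨fun e => (Finset.mem_filter.1 hqT).2 (e ▸ hq₀), Finset.mem_univ _⟩
    · exact Prod.ext ((Finset.mem_filter.1 hq).2.trans (Finset.mem_filter.1 hq').2.symm) e
    · refine ⟨(w, c), ?_, rfl⟩
      refine Finset.mem_filter.2 ⟨Finset.mem_filter.2 ⟨Finset.mem_product.2 ⟨hw, Finset.mem_univ _⟩,
        fun e => (Finset.mem_erase.1 hc).1 (hu c e)⟩, rfl⟩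
  have hTD : T.card = ((Finset.univ : Finset F).offDiag).card := by
    refine Finset.card_bij (fun q _ => (q.2, q.1 • q.2)) (fun q hq => ?_) (fun q hq q' hq' e => ?_)
      (fun pr hpr => ?_)
    · exact Finset.mem_offDiag.2 ⟨Finset.mem_univ _, Finset.mem_univ _,
        Ne.symm (Finset.mem_filter.1 hq).2⟩
    · obtain ⟨w, c⟩ := q
      obtain ⟨w', c'⟩ := q'
      obtain ⟨hwW, hwc⟩ := Finset.mem_filter.1 hq
      obtain ⟨hwW', -⟩ := Finset.mem_filter.1 hq'
      have hw := (hmem w).1 (Finset.mem_product.1 hwW).1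
      have hw' := (hmem w').1 (Finset.mem_product.1 hwW').1
      obtain ⟨rfl, e2⟩ := Prod.ext_iff.1 e
      simp only at e2 hwc
      obtain ⟨z, -, -, -, hu⟩ := h.exists_small_swap hm one (Ne.symm hwc)
      have h1 := hu w hw rfl (invol_smul_smul (mul_self_of_order hw.1) c)
      have h2 := hu w' hw' e2.symm (by rw [e2]; exact invol_smul_smul (mul_self_of_order hw'.1) c)
      rw [h1, h2]
    · obtain ⟨c, d⟩ := pr
      have hcd : c ≠ d := (Finset.mem_offDiag.1 hpr).2.2
      obtain ⟨w, hw, hwc, -, -⟩ := h.exists_small_swap hm one hcd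
      refine ⟨(w, c), Finset.mem_filter.2 ⟨Finset.mem_product.2 ⟨(hmem w).2 hw, Finset.mem_univ _⟩,
        fun e => hcd ((e.symm.trans hwc))⟩, ?_⟩
      simp only [hwc]
  have hWc : W.card = Fintype.card F := by
    rw [hTW, Finset.offDiag_card, Finset.card_univ, ← Nat.mul_sub_one] at hTD
    exact Nat.eq_of_mul_eq_mul_right (by omega) hTD
  let f : W → F := fun w => (h.small_point hm ((hmem w.1).1 w.2)).choose
  have hf : ∀ w : W, w.1 • f w = f w ∧ ∀ q : F, w.1 • q = q → q = f w := fun w =>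
    (h.small_point hm ((hmem w.1).1 w.2)).choose_spec
  have hsurj : Function.Surjective f := fun q => by
    obtain ⟨w, hw, hwq⟩ := h.small_at hm one hF q
    exact ⟨⟨w, (hmem w).2 hw⟩, ((hf ⟨w, (hmem w).2 hw⟩).2 q hwq).symm⟩
  have hinj : Function.Injective f :=
    ((Fintype.bijective_iff_surjective_and_card f).2 ⟨hsurj, by rw [Fintype.card_coe, hWc]⟩).1
  exact congrArg Subtype.val (hinj (a₁ := ⟨x, (hmem x).2 hx⟩) (a₂ := ⟨y, (hmem y).2 hy⟩)
    (((hf ⟨x, _⟩).2 p hxp).symm.trans ((hf ⟨y, _⟩).2 p hyp)))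

/-- The parity contradiction. -/
theorem parity_false (one : One X F) {v : X} (hv : Big F v)
    (hmk : Fintype.card F = Nat.card (fixedBy F v) * Nat.card (fixedBy F v))
    (hodd : Odd (Nat.card (fixedBy F v) * (Nat.card (fixedBy F v) - 1) / 2))
    (hcyc : ∀ Q : Subgroup X, IsPGroup 2 Q → (∀ x ∈ Q, ¬ Big F x) →
      (∀ x ∈ Q, ∀ y ∈ Q, orderOf x = 2 → orderOf y = 2 → x = y) → IsCyclic Q) : False := by
  classical
  haveI := h.faith
  haveI : Fact (Nat.Prime 2) := ⟨Nat.prime_two⟩
  set k := Nat.card (fixedBy F v) with hk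
  have hk2 : 2 ≤ k := hv.2
  have hF : 2 ≤ Fintype.card F := hmk ▸ le_trans hk2 (Nat.le_mul_of_pos_right _ (by omega))
  set s : X →* ℤˣ := (Equiv.Perm.sign : Equiv.Perm F →* ℤˣ).comp (toPermHom X F) with hs
  have hinj : Function.Injective (toPermHom X F) := MulAction.toPerm_injective
  have hbig : ∀ x : X, Big F x → s x = -1 := by
    intro x hx
    show Equiv.Perm.sign (toPermHom X F x) = -1
    have hx2 : (toPermHom X F x) ^ 2 = 1 := by rw [← map_pow, pow_two, mul_self_of_order hx.1, map_one]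
    rw [Equiv.Perm.sign_of_pow_two_eq_one hx2]
    have hfp : Fintype.card (Function.fixedPoints (toPermHom X F x)) = k := by
      rw [hk, ← h.fix_card_eq hx hv, Nat.card_eq_fintype_card]
      exact Fintype.card_congr (Equiv.subtypeEquivRight fun a => Iff.rfl)
    rw [hfp, hmk, show k * k - k = k * (k - 1) by rw [Nat.mul_sub_one], hodd.neg_one_pow]
  obtain ⟨P⟩ : Nonempty (Sylow 2 X) := inferInstance
  obtain ⟨p, hp⟩ := P.isPGroup'.nonempty_fixed_point_of_prime_not_dvd_card F
    (by rw [Nat.card_eq_fintype_card]; exact fun h2 => Nat.not_even_iff_odd.2 hm (even_iff_two_dvd.2 h2))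
  have hfix : ∀ g ∈ (P : Subgroup X), g • p = p := fun g hg => mem_fixedPoints.1 hp ⟨g, hg⟩
  obtain ⟨w, hw, hwp⟩ := h.small_at hm one hF p
  set Q : Subgroup X := (P : Subgroup X) ⊓ s.ker with hQ
  have hQp : IsPGroup 2 Q := P.isPGroup'.to_le inf_le_left
  have hQbig : ∀ x ∈ Q, ¬ Big F x := fun x hx hb => by
    have h1 : s x = 1 := hx.2
    rw [hbig x hb] at h1
    exact absurd h1 (by decide)
  have hQw : ∀ x ∈ Q, orderOf x = 2 → x = w := fun x hx hxo =>
    h.small_unique hm one hF ⟨hxo, hQbig x hx⟩ hw (hfix x hx.1) hwp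
  haveI := hcyc Q hQp hQbig fun x hx y hy hxo hyo => (hQw x hx hxo).trans (hQw y hy hyo).symm
  obtain ⟨r, hr⟩ := (Subgroup.isCyclic_iff_exists_zpowers_eq_top Q).1 inferInstance
  have hrQ : r ∈ Q := hr ▸ Subgroup.mem_zpowers r
  set d := orderOf r with hd
  have hdQ : Nat.card Q = d := by rw [← hr, Nat.card_zpowers]
  -- semiregularity
  have hsemi : ∀ g ∈ Q, g ≠ 1 → ∀ q : F, g • q = q → q = p := by
    intro g hg hg1 q hq
    obtain ⟨j, hj⟩ := hQp ⟨g, hg⟩
    have hj' : g ^ 2 ^ j = 1 := congrArg Subtype.val hj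
    obtain ⟨i, -, ho⟩ := (Nat.dvd_prime_pow Nat.prime_two).1 (orderOf_dvd_of_pow_eq_one hj')
    have hi0 : i ≠ 0 := fun e => hg1 (orderOf_eq_one_iff.1 (by rw [ho, e, pow_zero]))
    have hgo : orderOf (g ^ 2 ^ (i - 1)) = 2 := by
      rw [orderOf_pow_of_dvd (pow_ne_zero _ two_ne_zero) (by rw [ho]; exact pow_dvd_pow 2 (by omega)),
        ho, Nat.pow_div (by omega) two_pos, show i - (i - 1) = 1 by omega, pow_one]
    have hwg := hQw _ (pow_mem hg _) hgo
    obtain ⟨p', hp', hu⟩ := h.small_point hm hw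
    rw [hu p hwp]
    refine hu q ?_
    rw [← hwg]
    exact mem_stabilizer_iff.1 (pow_mem (mem_stabilizer_iff.2 hq) _)
  -- the order of the generator
  obtain ⟨a, q, hq, haq⟩ := Nat.exists_eq_two_pow_mul_odd
    (n := Fintype.card F - 1) (by omega)
  have hm1 : Even (Fintype.card F - 1) := by
    obtain ⟨i, hi⟩ := hm; exact ⟨i, by omega⟩
  have ha : a ≠ 0 := fun e => by
    rw [e, pow_zero, one_mul] at haq
    exact Nat.not_even_iff_odd.2 (haq ▸ hq) hm1
  have h2d : 2 ^ a ∣ d := by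
    have hX : 2 ^ (a + 1) ∣ Nat.card X := by
      rw [h.card_eq hF, haq, pow_succ']
      exact Nat.mul_dvd_mul_left 2 (Dvd.dvd.mul_left (dvd_mul_right _ _) _)
    have hP : 2 ^ (a + 1) ∣ Nat.card (P : Subgroup X) := P.pow_dvd_card_of_pow_dvd_card hX
    obtain ⟨b, hb⟩ := P.isPGroup'.exists_card_eq
    obtain ⟨c, hc⟩ := hQp.exists_card_eq
    have hab : a + 1 ≤ b := (Nat.pow_dvd_pow_iff_le_right (by norm_num)).1 (hb ▸ hP)
    have hle : Nat.card (P : Subgroup X) ≤ 2 * Nat.card Q := by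
      have h1 := (Subgroup.card_mul_index (Q.subgroupOf (P : Subgroup X)))
      have h2 : (Q.subgroupOf (P : Subgroup X)).index ≤ 2 := by
        have e : Q.subgroupOf (P : Subgroup X) = (s.comp (P : Subgroup X).subtype).ker := by
          ext x
          simp [hQ, Subgroup.mem_subgroupOf, MonoidHom.mem_ker, x.2]
        rw [e, Subgroup.index_ker]
        refine (Subgroup.card_le_card_group _).trans ?_
        rw [Nat.card_eq_fintype_card]
        rfl
      rw [← h1, Nat.card_congr (Subgroup.subgroupOfEquivOfLe (inf_le_left : Q ≤ _)).toEquiv,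
        mul_comm 2]
      exact Nat.mul_le_mul_left _ h2
    rw [hb, hc, ← pow_succ'] at hle
    have : b ≤ c + 1 := (Nat.pow_le_pow_iff_right (by norm_num)).1 hle
    rw [← hdQ, hc]
    exact pow_dvd_pow 2 (by omega)
  have hd2 : 2 ≤ d := le_trans (Nat.le_self_pow ha 2) (Nat.le_of_dvd (orderOf_pos r) h2d)
  set σ := toPermHom X F r with hσ
  have hσo : orderOf σ = d := orderOf_injective _ hinj r
  have hct : ∀ n ∈ σ.cycleType, n = d := by
    intro n hn
    refine Nat.dvd_antisymm (hσo ▸ Equiv.Perm.dvd_of_mem_cycleType hn) ?_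
    obtain ⟨c, τ, hστ, hdis, hc, hcn⟩ := Equiv.Perm.mem_cycleType_iff.1 hn
    obtain ⟨x, hx⟩ : c.support.Nonempty := Finset.card_pos.1 (by
      have := Equiv.Perm.two_le_of_mem_cycleType hn; omega)
    have hτx : τ x = x := (hdis x).resolve_left (Equiv.Perm.mem_support.1 hx)
    have hσx : σ x ≠ x := by
      rw [hστ, Equiv.Perm.mul_apply, hτx]; exact Equiv.Perm.mem_support.1 hx
    have hpow : (σ ^ n) x = x := by
      rw [hστ, hdis.commute.mul_pow, ← hcn, ← hc.orderOf, pow_orderOf_eq_one, one_mul]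
      exact Equiv.Perm.pow_apply_eq_self_of_apply_eq_self hτx _
    refine orderOf_dvd_of_pow_eq_one ?_
    by_contra hne
    have hxp : x = p := hsemi _ (pow_mem hrQ n) hne x (by
      rw [hσ, ← map_pow] at hpow; exact hpow)
    exact hσx (hxp ▸ hfix r hrQ.1)
  have hrep : σ.cycleType = Multiset.replicate σ.cycleType.card d := Multiset.eq_replicate_card.2 hct
  have hsupp : σ.support = Finset.univ.erase p := by
    ext x
    rw [Equiv.Perm.mem_support, Finset.mem_erase, and_iff_left (Finset.mem_univ x)]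
    constructor
    · exact fun hx e => hx (e ▸ hfix r hrQ.1)
    · exact fun hx e => hx (hsemi r hrQ (fun e1 => by
        rw [hd, e1, orderOf_one] at hd2; omega) x e)
  have hsum : σ.cycleType.card * d = Fintype.card F - 1 := by
    have h1 := σ.sum_cycleType
    rw [hsupp, Finset.card_erase_of_mem (Finset.mem_univ p), Finset.card_univ, hrep] at h1
    simpa using h1
  have hdm : d = 2 ^ a := by
    obtain ⟨c, hc⟩ := hQp.exists_card_eq
    refine Nat.dvd_antisymm ?_ h2d
    have h1 : d ∣ 2 ^ a * q := ⟨σ.cycleType.card, by rw [← haq, ← hsum, mul_comm]⟩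
    exact Nat.Coprime.dvd_of_dvd_mul_right (by
      rw [← hdQ, hc]; exact Nat.Coprime.pow_left _ (Nat.coprime_two_left.2 hq)) h1
  have hcard : Odd σ.cycleType.card := by
    have h1 : σ.cycleType.card * 2 ^ a = q * 2 ^ a := by rw [← hdm, hsum, haq, hdm, mul_comm]
    rwa [Nat.eq_of_mul_eq_mul_right (by positivity) h1]
  have hsign : Equiv.Perm.sign σ = -1 := by
    rw [Equiv.Perm.sign_of_cycleType, σ.sum_cycleType, hsupp,
      Finset.card_erase_of_mem (Finset.mem_univ p), Finset.card_univ]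
    exact (hm1.add_odd hcard).neg_one_pow
  have h1 : s r = 1 := hrQ.2
  rw [hs, MonoidHom.comp_apply, ← hσ, hsign] at h1
  exact absurd h1 (by decide)

end HalfSharp

universe u

variable {G : Type u} {Ω : Type*} [Group G] [Finite G] [MulAction G Ω] [Fintype Ω]

namespace Base

variable (h : Hyp G Ω) (B : Base G Ω)
include h

theorem outer_swap {s : G} (hO : B.Outer s) {g : G} (hgt : Commute g B.t) (hga : g • B.a = B.b)
    (hgb : g • B.b = B.a) : g * B.v * g⁻¹ = B.t * B.v := by
  have hs2 := mul_self_of_order_two hO.swap.1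
  have hcv : (s * g) * B.v * (s * g)⁻¹ = B.v := by
    rcases B.cases_of_fix h B.hab B.hta B.htb B.hva B.hvb (g := s * g)
      (by rw [mul_smul, hga, hO.swap.2.2]) (by rw [mul_smul, hgb, hO.swap.2.1])
      (hO.comm.mul_left hgt) with r | r | r | r <;> rw [r]
    · group
    · rw [B.hcomm.eq, mul_inv_cancel_right]
    · group
    · rw [mul_assoc B.t, mul_self_of_order_two B.hv, mul_one, inv_eq_self B.orderOf_tv,
        ← mul_assoc, mul_self_of_order_two B.ht, one_mul]
  calc g * B.v * g⁻¹ = (s * s) * g * B.v * g⁻¹ * (s * s)⁻¹ := by rw [hs2]; group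
    _ = s * ((s * g) * B.v * (s * g)⁻¹) * s⁻¹ := by group
    _ = _ := by rw [hcv, hO.moves]

/-- In the symmetric case `k (k - 1) / 2` is odd when `k` is odd. -/
theorem outer_parity {s : G} (hO : B.Outer s) (hkm : B.k < B.m) (hB : B.e = 10) :
    Odd (B.k * (B.k - 1) / 2) := by
  classical
  set C : Subgroup G := Subgroup.centralizer ({B.t, B.v} : Set G) with hC
  have hmem : ∀ g, g ∈ C ↔ Commute g B.t ∧ Commute g B.v := fun g => by
    rw [hC, Subgroup.mem_centralizer_iff]
    simp only [Set.mem_insert_iff, Set.mem_singleton_iff, forall_eq_or_imp, forall_eq]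
    exact ⟨fun e => ⟨e.1.symm, e.2.symm⟩, fun e => ⟨e.1.symm, e.2.symm⟩⟩
  -- the group normalising the four group inside the centralizer of `t`
  let N : Subgroup G :=
    { carrier := {g | Commute g B.t ∧ (g * B.v * g⁻¹ = B.v ∨ g * B.v * g⁻¹ = B.t * B.v)}
      one_mem' := ⟨Commute.one_left _, Or.inl (by group)⟩
      mul_mem' := fun {x y} hx hy => ⟨hx.1.mul_left hy.1, by
        have e2 : x * B.t * x⁻¹ = B.t := mul_inv_eq_iff_eq_mul.2 hx.1.eq
        rw [show x * y * B.v * (x * y)⁻¹ = x * (y * B.v * y⁻¹) * x⁻¹ by group]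
        rcases hy.2 with r | r <;> rw [r]
        · exact hx.2
        · rw [← conj_mul, e2]
          rcases hx.2 with r' | r' <;> rw [r']
          · exact Or.inr rfl
          · left; rw [← mul_assoc, mul_self_of_order_two B.ht, one_mul]⟩
      inv_mem' := fun {x} hx => ⟨hx.1.inv_left, by
        have e2 : x⁻¹ * B.t * (x⁻¹)⁻¹ = B.t := mul_inv_eq_iff_eq_mul.2 hx.1.inv_left.eq
        rcases hx.2 with r | r
        · left
          calc x⁻¹ * B.v * (x⁻¹)⁻¹ = x⁻¹ * (x * B.v * x⁻¹) * (x⁻¹)⁻¹ := by rw [r]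
            _ = B.v := by group
        · right
          have h1 : x⁻¹ * (B.t * B.v) * (x⁻¹)⁻¹ = B.v := by rw [← r]; group
          rw [← conj_mul, e2] at h1
          calc x⁻¹ * B.v * (x⁻¹)⁻¹ = B.t * (B.t * (x⁻¹ * B.v * (x⁻¹)⁻¹)) := by
                rw [← mul_assoc, mul_self_of_order_two B.ht, one_mul]
            _ = B.t * B.v := by rw [h1]⟩ }
  have hFV : ∀ g ∈ N, ∀ x ∈ B.FV, g • x ∈ B.FV := by
    rintro g ⟨hgt, hgv⟩ x ⟨hxt, hxv⟩
    have h1 : g • x ∈ B.F := by
      show B.t • g • x = g • x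
      rw [← mul_smul, ← hgt.eq, mul_smul]
      exact congrArg _ hxt
    refine ⟨h1, ?_⟩
    have h2 : (g * B.v * g⁻¹) • g • x = g • x := by
      rw [mul_smul, mul_smul, inv_smul_smul]
      exact congrArg _ hxv
    rcases hgv with r | r <;> rw [r] at h2
    · exact h2
    · rw [mul_smul] at h2
      show B.v • g • x = g • x
      exact MulAction.injective B.t (h2.trans h1.symm)
  have hN : Nat.card N = B.k * (B.k - 1) * 4 := by
    rw [← B.card_inf_four h N (fun g hg => hg.1) ⟨Commute.refl _, Or.inl (by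
      rw [B.hcomm.eq, mul_inv_cancel_right])⟩ ⟨B.hcomm.symm, Or.inl (by group)⟩]
    refine card_of_pair_orbit N B.hab B.haV B.hbV hFV fun c hc d hd hcd => ?_
    obtain ⟨g, h1, h2, h3, h4⟩ := B.moveV h hc hd hcd
    exact ⟨g, ⟨h1, h2⟩, h3, h4⟩
  have hsN : s ∈ N := ⟨hO.comm, Or.inr hO.moves⟩
  have hCN : C ≤ N := fun g hg => ⟨((hmem g).1 hg).1,
    Or.inl (by rw [((hmem g).1 hg).2.eq, mul_inv_cancel_right])⟩
  have hidx : (C.subgroupOf N).index = 2 := by
    rw [Subgroup.index_eq_two_iff]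
    refine ⟨⟨s, hsN⟩, fun x => ?_⟩
    simp only [Subgroup.mem_subgroupOf, Subgroup.coe_mul, hmem]
    rcases x.2.2 with r | r
    · refine Or.inr ⟨⟨x.2.1, mul_inv_eq_iff_eq_mul.1 r⟩, fun hc => ?_⟩
      have e1 : s * B.v * s⁻¹ = B.v := by
        calc s * B.v * s⁻¹ = (x.1)⁻¹ * ((x.1 * s) * B.v * (x.1 * s)⁻¹) * x.1 := by group
          _ = (x.1)⁻¹ * B.v * x.1 := by rw [hc.2.eq, mul_inv_cancel_right]
          _ = B.v := by
            rw [mul_assoc, ← (mul_inv_eq_iff_eq_mul.1 r), ← mul_assoc, inv_mul_cancel, one_mul]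
      rw [hO.moves] at e1
      exact ne_one_of_order_two B.ht (mul_eq_right.1 e1)
    · refine Or.inl ⟨⟨x.2.1.mul_left hO.comm, ?_⟩, fun hc => ?_⟩
      · refine mul_inv_eq_iff_eq_mul.1 ?_
        rw [show x.1 * s * B.v * (x.1 * s)⁻¹ = x.1 * (s * B.v * s⁻¹) * x.1⁻¹ by group, hO.moves,
          ← conj_mul, r, mul_inv_eq_iff_eq_mul.2 x.2.1.eq, ← mul_assoc,
          mul_self_of_order_two B.ht, one_mul]
      · have e1 : x.1 * B.v * x.1⁻¹ = B.v := mul_inv_eq_iff_eq_mul.2 hc.2.eq
        rw [r] at e1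
        exact ne_one_of_order_two B.ht (mul_eq_right.1 e1)
  have hcC : Nat.card C * 2 = B.k * (B.k - 1) * 4 := by
    rw [← hN, ← Subgroup.card_mul_index (C.subgroupOf N), hidx,
      Nat.card_congr (Subgroup.subgroupOfEquivOfLe hCN).toEquiv]
  -- the action of the centralizer of the four group on its fixed points
  let φ : C →* Equiv.Perm B.FV :=
    { toFun := fun g =>
        { toFun := fun x => ⟨(g : G) • (x : Ω), hFV _ (hCN g.2) _ x.2⟩
          invFun := fun x => ⟨(g : G)⁻¹ • (x : Ω), hFV _ (inv_mem (hCN g.2)) _ x.2⟩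
          left_inv := fun x => Subtype.ext (inv_smul_smul _ _)
          right_inv := fun x => Subtype.ext (smul_inv_smul _ _) }
      map_one' := Equiv.ext fun x => Subtype.ext (one_smul G (x : Ω))
      map_mul' := fun g g' => Equiv.ext fun x => Subtype.ext (mul_smul (g : G) g' (x : Ω)) }
  have hker : Nat.card φ.ker = 4 := by
    rw [← B.card_inf_four h C (fun g hg => ((hmem g).1 hg).1)
      ((hmem _).2 ⟨Commute.refl _, B.hcomm⟩) ((hmem _).2 ⟨B.hcomm.symm, Commute.refl _⟩)]
    refine Nat.card_congr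
      { toFun := fun g => ⟨g.1.1, g.1.2,
          congrArg Subtype.val (Equiv.ext_iff.1 g.2 ⟨B.a, B.haV⟩),
          congrArg Subtype.val (Equiv.ext_iff.1 g.2 ⟨B.b, B.hbV⟩)⟩
        invFun := fun g => ⟨⟨g.1, g.2.1⟩, ?_⟩
        left_inv := fun _ => rfl
        right_inv := fun _ => rfl }
    refine Equiv.ext fun x => Subtype.ext ?_
    show (g : G) • (x : Ω) = x
    rcases B.cases_of_fix h B.hab B.hta B.htb B.hva B.hvb g.2.2.1 g.2.2.2 ((hmem _).1 g.2.1).1
      with r | r | r | r <;> rw [r]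
    · exact one_smul _ _
    · exact x.2.1
    · exact x.2.2
    · rw [mul_smul, show B.v • (x : Ω) = x from x.2.2]; exact x.2.1
  have hrange : Odd (Nat.card φ.range) := by
    by_contra hev
    rw [Nat.not_odd_iff_even, even_iff_two_dvd] at hev
    obtain ⟨⟨σ, g, rfl⟩, hσ⟩ := exists_prime_orderOf_dvd_card' (G := φ.range) 2 hev
    rw [← Subgroup.orderOf_coe] at hσ
    obtain ⟨c, hc⟩ : ∃ c, φ g c ≠ c := by
      by_contra hall
      push Not at hall
      exact ne_one_of_order_two hσ (Equiv.ext hall)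
    have hc' : (c : Ω) ≠ (g : G) • (c : Ω) := fun e => hc (Subtype.ext e.symm)
    have hg2 : (g : G) • (g : G) • (c : Ω) = c :=
      congrArg Subtype.val (Equiv.ext_iff.1 (mul_self_of_order_two hσ) c)
    set B' := B.withPair c.2 (φ g c).2 hc' with hB'
    rcases B'.swap_cases h with ⟨u, -, hu⟩ | ⟨s', hO', -⟩
    · have he1 : B'.e = B.e := by
        have h1 := B'.count h
        have h2 := B.count h
        have := B.two_le_m
        refine Nat.eq_of_mul_eq_mul_right (m := B.m * (B.m - 1)) ?_ (h1.symm.trans h2)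
        exact Nat.mul_pos (by omega) (by omega)
      rcases hu with ⟨r, -⟩ | ⟨r, -⟩ | ⟨r, -⟩ <;> rw [he1, hB] at r <;> norm_num at r
    · have h1 : (g : G) * B.v * (g : G)⁻¹ = B.t * B.v :=
        B'.outer_swap h hO' ((hmem _).1 g.2).1 rfl hg2
      rw [mul_inv_eq_iff_eq_mul.2 ((hmem _).1 g.2).2.eq] at h1
      exact ne_one_of_order_two B.ht (right_eq_mul.1 h1 |> fun e => e)
  have hCc : Nat.card C = 4 * Nat.card φ.range := by
    rw [← hker, ← Subgroup.index_ker, Subgroup.card_mul_index]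
  rw [hCc] at hcC
  have : B.k * (B.k - 1) / 2 = Nat.card φ.range := by omega
  rwa [this]

theorem direct_conj_false {u : G} (hD : B.Direct u) (hu : IsConj B.t u) (hkm : B.k < B.m)
    (hodd : Odd B.m) [Fintype (fixedBy Ω B.t)]
    (one : HalfSharp.One B.Ind (fixedBy Ω B.t)) : False := by
  classical
  obtain ⟨g, hg⟩ := isConj_iff.1 hu
  have hH := B.halfSharp h hkm
  have hm' : Odd (Fintype.card (fixedBy Ω B.t)) := by rwa [← Nat.card_eq_fintype_card, card_fix]
  have hF : 2 ≤ Fintype.card (fixedBy Ω B.t) := by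
    rw [← Nat.card_eq_fintype_card, card_fix]; exact B.two_le_m
  -- pull the two-point stabiliser into the centraliser of `t`
  have hmem : ∀ x : ↥B.H, g⁻¹ * x.1 * g ∈ Subgroup.centralizer ({B.t} : Set G) := fun x => by
    refine Subgroup.mem_centralizer_singleton_iff.2 ?_
    have hx : Commute u x.1 := hD.central x.1 x.2.1 x.2.2
    rw [show B.t = g⁻¹ * u * g by rw [← hg]; group]
    calc g⁻¹ * x.1 * g * (g⁻¹ * u * g) = g⁻¹ * (x.1 * u) * g := by group
      _ = g⁻¹ * u * g * (g⁻¹ * x.1 * g) := by rw [← hx.eq]; group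
  let f : ↥B.H →* B.Ind := B.ind.comp
    { toFun := fun x => ⟨g⁻¹ * x.1 * g, hmem x⟩
      map_one' := Subtype.ext (by show g⁻¹ * 1 * g = 1; group)
      map_mul' := fun x y => Subtype.ext (by
        show g⁻¹ * (x.1 * y.1) * g = g⁻¹ * x.1 * g * (g⁻¹ * y.1 * g); group) }
  have hf1 : ∀ x : ↥B.H, f x = 1 → x = 1 := by
    intro x hx
    rcases (B.ind_eq_one_half h hkm _).1 hx with r | r
    · apply Subtype.ext
      have r' : g⁻¹ * x.1 * g = 1 := r
      calc x.1 = g * (g⁻¹ * x.1 * g) * g⁻¹ := by group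
        _ = 1 := by rw [r']; group
    · exfalso
      have r' : g⁻¹ * x.1 * g = B.t := r
      have hxu : x.1 = u := by rw [← hg, ← r']; group
      have := x.2.1
      rw [hxu] at this
      exact B.hab (this.symm.trans hD.swap.2.1)
  let tH : ↥B.H := ⟨B.t, B.hta, B.htb⟩
  let vH : ↥B.H := ⟨B.v, B.hva, B.hvb⟩
  have ht2 : tH * tH = 1 := Subtype.ext (mul_self_of_order_two B.ht)
  have hv2 : vH * vH = 1 := Subtype.ext (mul_self_of_order_two B.hv)
  have ht1 : tH ≠ 1 := fun e => ne_one_of_order_two B.ht (congrArg Subtype.val e)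
  have hv1 : vH ≠ 1 := fun e => ne_one_of_order_two B.hv (congrArg Subtype.val e)
  have htv : tH * vH ≠ 1 := fun e => B.tv_ne_one (congrArg Subtype.val e)
  have htv2 : tH * vH * (tH * vH) = 1 := Subtype.ext (mul_self_of_order_two B.orderOf_tv)
  have hc : Commute tH vH := Subtype.ext B.hcomm.eq
  have hord : ∀ x : ↥B.H, x * x = 1 → x ≠ 1 → orderOf (f x) = 2 := fun x h2 h1 =>
    order_two (by rw [← map_mul, h2, map_one]) fun e => h1 (hf1 x e)
  obtain ⟨eH⟩ : Nonempty (↥B.H ≃* Alt5) := h.stab B.a B.b B.hab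
  have hsame : ∀ x y : ↥B.H, x * x = 1 → x ≠ 1 → y * y = 1 → y ≠ 1 →
      Big (fixedBy Ω B.t) (f x) → Big (fixedBy Ω B.t) (f y) := by
    intro x y hx hx1 hy hy1 hb
    obtain ⟨p, hp⟩ := isConj_iff.1 (isConj_invol eH hx hx1 hy hy1)
    rw [← hp]
    show Big (fixedBy Ω B.t) (f (p * x * p⁻¹))
    rw [map_mul, map_mul, map_inv]
    exact hb.conj (f p)
  by_cases hb : Big (fixedBy Ω B.t) (f tH)
  · exact hH.big_commute_false one hb (hsame _ _ ht2 ht1 hv2 hv1 hb)
      (by rw [← map_mul]; exact hsame _ _ ht2 ht1 htv2 htv hb) (hc.map f)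
  · have hx : HalfSharp.Small (fixedBy Ω B.t) (f tH) := ⟨hord _ ht2 ht1, hb⟩
    have hy : HalfSharp.Small (fixedBy Ω B.t) (f vH) :=
      ⟨hord _ hv2 hv1, fun e => hb (hsame _ _ hv2 hv1 ht2 ht1 e)⟩
    obtain ⟨p, hp, hu'⟩ := hH.small_point hm' hx
    have hyp : f vH • p = p := hu' _ (by rw [← mul_smul, (hc.map f).eq, mul_smul, hp])
    have he := hH.small_unique hm' one hF hx hy hp hyp
    exact htv (hf1 _ (by rw [map_mul, he, ← map_mul, hv2, map_one]))

end Base

/-- No odd degree case with kernel of order two. -/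
theorem Hyp.odd_half (h : Hyp G Ω) (B : Base G Ω) (hn : Odd (Fintype.card Ω)) (hkm : B.k < B.m)
    (he : B.e ≠ 15) : False := by
  classical
  haveI : Fintype (fixedBy Ω B.t) := Fintype.ofFinite _
  have hH := B.halfSharp h hkm
  obtain ⟨hv, hvk⟩ := B.big_v h hkm
  have hcF : Fintype.card (fixedBy Ω B.t) = B.m := by rw [← Nat.card_eq_fintype_card, B.card_fix]
  have hmodd : Odd B.m := by
    obtain ⟨i, hi⟩ := B.even_sub h
    obtain ⟨j, hj⟩ := hn
    have := (B.m_lt h).le
    exact ⟨j - i, by omega⟩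
  have hm' : Odd (Fintype.card (fixedBy Ω B.t)) := by rwa [hcF]
  have hcases := hH.one_or_two hv (by rw [hvk, hcF]; exact hkm)
  rw [hvk] at hcases
  rcases hcases with ⟨hmk, one⟩ | ⟨hmk, two⟩
  swap
  · refine hH.two_false two hv ?_ (by rw [hvk]; exact hmk)
    rw [hvk]
    rw [hcF] at hmk
    exact (Nat.odd_mul.1 (hmk ▸ hmodd)).1
  rcases B.swap_cases h with ⟨u, hD, hu⟩ | ⟨s, hO, he10⟩
  · refine B.direct_conj_false h hD ?_ hkm hmodd one
    rcases hu with ⟨-, hu, -⟩ | ⟨e15, -⟩ | ⟨-, hu⟩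
    · exact hu
    · exact absurd e15 he
    · exact hu u hD.swap
  have hodd := B.outer_parity h hO hkm he10
  -- lifts of small involutions have order four
  have hs2 := mul_self_of_order_two hO.swap.1
  have hst : Commute s B.t := hO.comm
  have hsv : (s * B.v) * (s * B.v) = B.t := by
    calc s * B.v * (s * B.v) = (s * B.v * s⁻¹) * (s * s) * B.v := by group
      _ = B.t := by rw [hO.moves, hs2, mul_one, mul_assoc, mul_self_of_order_two B.hv, mul_one]
  set z : Subgroup.centralizer ({B.t} : Set G) := ⟨s * B.v,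
    Subgroup.mem_centralizer_singleton_iff.2 (hst.mul_left B.hcomm.symm).eq⟩ with hz
  have hza : (s * B.v) • B.a = B.b := by rw [mul_smul, B.hva, hO.swap.2.1]
  have hzb : (s * B.v) • B.b = B.a := by rw [mul_smul, B.hvb, hO.swap.2.2]
  have hlift : ∀ x : B.Ind, HalfSharp.Small (fixedBy Ω B.t) x →
      ∀ l : Subgroup.centralizer ({B.t} : Set G), B.ind l = x → (l : G) * l = B.t := by
    -- squares are the same on a coset of the kernel
    have hsq : ∀ l l' : Subgroup.centralizer ({B.t} : Set G), B.ind l = B.ind l' →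
        (l : G) * l = (l' : G) * l' := by
      intro l l' e
      have hl : Commute (l : G) B.t := Subgroup.mem_centralizer_singleton_iff.1 l.2
      rcases (B.ind_eq_one_half h hkm (l⁻¹ * l')).1 (by rw [map_mul, map_inv, e, inv_mul_cancel])
        with r | r
      · have r' : (l : G)⁻¹ * l' = 1 := r
        rw [inv_mul_eq_one.1 r']
      · have r' : (l : G)⁻¹ * l' = B.t := r
        rw [inv_mul_eq_iff_eq_mul.1 r', Commute.mul_mul_mul_comm hl.symm,
          mul_self_of_order_two B.ht, mul_one]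
    have hconj : ∀ (l l' q : Subgroup.centralizer ({B.t} : Set G)),
        B.ind q * B.ind l * (B.ind q)⁻¹ = B.ind l' → (l' : G) * l' = B.t → (l : G) * l = B.t := by
      intro l l' q e hl'
      have h1 := hsq (q * l * q⁻¹) l' (by rw [map_mul, map_mul, map_inv, e])
      rw [hl'] at h1
      have hq : Commute (q : G) B.t := Subgroup.mem_centralizer_singleton_iff.1 q.2
      have h2 : (q : G) * l * (q : G)⁻¹ * ((q : G) * l * (q : G)⁻¹) = B.t := h1
      calc (l : G) * l = (q : G)⁻¹ * ((q : G) * l * (q : G)⁻¹ * ((q : G) * l * (q : G)⁻¹)) * q := by group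
        _ = B.t := by rw [h2, mul_assoc, ← hq.eq, inv_mul_cancel_left]
    intro x hx l hl
    obtain ⟨p, hp, hu⟩ := hH.small_point hm' hx
    have hF : 2 ≤ Fintype.card (fixedBy Ω B.t) := by rw [hcF]; exact B.two_le_m
    obtain ⟨c, hc⟩ := Fintype.exists_ne_of_one_lt_card hF p
    have hxc : x • c ≠ c := fun e => hc (hu c e)
    have hab' : (⟨B.a, B.ha⟩ : fixedBy Ω B.t) ≠ ⟨B.b, B.hb⟩ :=
      fun e => B.hab (congrArg Subtype.val e)
    obtain ⟨y, hy1, hy2⟩ := exists_smul_pair hH.two (Ne.symm hxc) hab'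
    obtain ⟨q, rfl⟩ := B.ind_surj y
    have hsmall : HalfSharp.Small (fixedBy Ω B.t) (B.ind z) := by
      refine ⟨hH.swap_order hab' (Subtype.ext hza) (Subtype.ext hzb), fun hb => ?_⟩
      obtain ⟨w, hw⟩ := isConj_iff.1 (hH.isConj_big hv hb)
      obtain ⟨q', rfl⟩ := B.ind_surj w
      have h1 := hconj ⟨B.v, B.v_mem⟩ z q' hw hsv
      have h2 : B.v * B.v = B.t := h1
      rw [mul_self_of_order_two B.hv] at h2
      exact ne_one_of_order_two B.ht h2.symm
    obtain ⟨w, -, -, -, huw⟩ := hH.exists_small_swap hm' one hab'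
    have hxs : HalfSharp.Small (fixedBy Ω B.t) (B.ind q * x * (B.ind q)⁻¹) := by
      refine ⟨by rw [← hx.1]; exact MulEquiv.orderOf_eq (MulAut.conj (B.ind q)) x, fun hb => hx.2 ?_⟩
      have := hb.conj (B.ind q)⁻¹
      rwa [inv_inv, show (B.ind q)⁻¹ * (B.ind q * x * (B.ind q)⁻¹) * B.ind q = x by group] at this
    have hx2 : x • x • c = c := invol_smul_smul (mul_self_of_order hx.1) c
    have e := huw _ hxs
      (by rw [← hy1, mul_smul, mul_smul, inv_smul_smul, hy2])
      (by rw [← hy2, mul_smul, mul_smul, inv_smul_smul, hx2, hy1])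
    have e2 := huw _ hsmall (Subtype.ext hza) (Subtype.ext hzb)
    refine hconj l z q ?_ hsv
    rw [hl, e, e2]
  refine hH.parity_false hm' one hv (by rw [hvk]; exact hmk) (by rw [hvk]; exact hodd) ?_
  intro Q hQ hQb hQu
  haveI : Fact (Nat.Prime 2) := ⟨Nat.prime_two⟩
  set R : Subgroup (Subgroup.centralizer ({B.t} : Set G)) := Q.comap B.ind with hR
  have hker : IsPGroup 2 B.ind.ker := by
    intro x
    refine ⟨1, Subtype.ext (Subtype.ext ?_)⟩
    show ((x : Subgroup.centralizer ({B.t} : Set G)) : G) ^ (2 ^ 1) = 1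
    rw [pow_one, pow_two]
    rcases (B.ind_eq_one_half h hkm _).1 x.2 with r | r <;> rw [r]
    · rw [mul_one]
    · exact mul_self_of_order_two B.ht
  have hRp : IsPGroup 2 R := hQ.comap_of_ker_isPGroup B.ind hker
  have hinvol : ∀ x : R, orderOf x = 2 → ((x : Subgroup.centralizer ({B.t} : Set G)) : G) = B.t := by
    intro x hx
    have hxx : ((x : Subgroup.centralizer ({B.t} : Set G)) : G) *
        (x : Subgroup.centralizer ({B.t} : Set G)) = 1 :=
      congrArg Subtype.val (congrArg Subtype.val (mul_self_of_order hx))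
    by_cases h1 : B.ind x = 1
    · rcases (B.ind_eq_one_half h hkm _).1 h1 with r | r
      · exfalso
        exact ne_one_of_order_two hx (Subtype.ext (Subtype.ext r))
      · exact r
    · exfalso
      have hsmall : HalfSharp.Small (fixedBy Ω B.t) (B.ind x) :=
        ⟨order_of_mul_self (by rw [← map_mul, ← map_one B.ind]; exact congrArg _ (Subtype.ext hxx)) h1,
          hQb _ x.2⟩
      rw [hlift _ hsmall x rfl] at hxx
      exact ne_one_of_order_two B.ht hxx
  have hRQ : ∀ x : R, B.ind x ∈ Q := fun x => x.2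
  let π : R →* Q := (B.ind.comp R.subtype).codRestrict Q hRQ
  have hπ : Function.Surjective π := fun q => by
    obtain ⟨x, hx⟩ := B.ind_surj q.1
    exact ⟨⟨x, by show B.ind x ∈ Q; rw [hx]; exact q.2⟩, Subtype.ext hx⟩
  rcases CfsgLib.StructC.isCyclic_or_quaternion hRp (fun x y hx hy _ => by
      rw [show y = x from Subtype.ext (Subtype.ext ((hinvol y hy).trans (hinvol x hx).symm))]
      exact Subgroup.mem_zpowers x) with hcy | ⟨j, hj, ⟨φ⟩⟩
  · exact isCyclic_of_surjective π hπ
  exfalso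
  have hq : ∀ i, QuaternionGroup.xa i * QuaternionGroup.xa i =
      (QuaternionGroup.a ((2 ^ j : ℕ) : ZMod (2 * 2 ^ j)) : QuaternionGroup (2 ^ j)) := fun i => by
    simp
  haveI : NeZero (2 ^ j) := ⟨by positivity⟩
  set τ : R := φ.symm (QuaternionGroup.a ((2 ^ j : ℕ) : ZMod (2 * 2 ^ j))) with hτ
  have hne : ((2 ^ j : ℕ) : ZMod (2 * 2 ^ j)) ≠ 0 := by
    rw [ne_eq, ZMod.natCast_eq_zero_iff]
    intro hd
    have := Nat.le_of_dvd (by positivity) hd
    have : 0 < 2 ^ j := by positivity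
    omega
  have hτ1 : τ ≠ 1 := by
    rw [hτ, ne_eq, map_eq_one_iff _ φ.symm.injective, QuaternionGroup.one_def]
    exact fun e => hne (by injection e)
  have hτo : orderOf τ = 2 := order_of_mul_self (φ.injective (by
    rw [map_mul, hτ, MulEquiv.apply_symm_apply, map_one, QuaternionGroup.a_mul_a,
      ← Nat.cast_add, ← two_mul, ZMod.natCast_self, ← QuaternionGroup.one_def])) hτ1
  have hπτ : π τ = 1 := Subtype.ext ((B.ind_eq_one_half h hkm _).2 (Or.inr (hinvol τ hτo)))
  have hπk : ∀ x : R, π x = 1 → x = 1 ∨ x = τ := fun x hx => by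
    rcases (B.ind_eq_one_half h hkm _).1 (congrArg Subtype.val hx) with r | r
    · exact Or.inl (Subtype.ext (Subtype.ext r))
    · exact Or.inr (Subtype.ext (Subtype.ext (r.trans (hinvol τ hτo).symm)))
  have hinv : ∀ i, orderOf (π (φ.symm (QuaternionGroup.xa i))) = 2 := by
    intro i
    refine order_of_mul_self ?_ fun e => ?_
    · rw [← map_mul, ← map_mul, hq, ← hτ, hπτ]
    · rcases hπk _ e with r | r
      · rw [map_eq_one_iff _ φ.symm.injective, QuaternionGroup.one_def] at r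
        cases r
      · rw [hτ] at r
        cases φ.symm.injective r
  have e := hQu _ (π (φ.symm (QuaternionGroup.xa 0))).2 _ (π (φ.symm (QuaternionGroup.xa 1))).2
    (by rw [Subgroup.orderOf_coe]; exact hinv 0) (by rw [Subgroup.orderOf_coe]; exact hinv 1)
  have e' : π ((φ.symm (QuaternionGroup.xa 0))⁻¹ * φ.symm (QuaternionGroup.xa 1)) = 1 := by
    rw [map_mul, map_inv, Subtype.ext e, inv_mul_cancel]
  have hj2 : 2 ≤ 2 ^ j := Nat.le_self_pow (by omega) 2
  rcases hπk _ e' with r | r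
  · have r' := φ.symm.injective (inv_mul_eq_one.1 r)
    injection r' with r'
    have h2 : ((1 : ℕ) : ZMod (2 * 2 ^ j)) = 0 := by rw [Nat.cast_one]; exact r'.symm
    rw [ZMod.natCast_eq_zero_iff, Nat.dvd_one] at h2
    omega
  · rw [inv_mul_eq_iff_eq_mul, hτ, ← map_mul] at r
    have r' := φ.symm.injective r
    rw [QuaternionGroup.xa_mul_a, zero_add] at r'
    injection r' with r'
    rw [← Nat.cast_one, ZMod.natCast_eq_natCast_iff', Nat.mod_eq_of_lt (by omega),
      Nat.mod_eq_of_lt (by omega)] at r'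
    omega

end CfsgLib.Perm.TwoPointFive
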