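import Cfsg.Agent.Lib.Perm.TwoPointFive.Defs
import Cfsg.Agent.Lib.Perm.TwoPointFive.Facts
import Cfsg.Agent.Lib.Perm.Basic
import Cfsg.Agent.S0205
import Mathlib.GroupTheory.GroupAction.Primitive

/-!
Basic facts on doubly transitive groups with two-point stabilisers `A₅`: centralisers of
involutions, fixed points and orders.
-/

set_option autoImplicit false
set_option linter.unusedSectionVars false

namespace CfsgLib.Perm.TwoPointFive

open MulAction

variable {G Ω : Type*} [Group G] [MulAction G Ω]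

theorem mul_self_of_order_two {x : G} (hx : orderOf x = 2) : x * x = 1 := by
  rw [← pow_two, ← hx, pow_orderOf_eq_one]

theorem ne_one_of_order_two {x : G} (hx : orderOf x = 2) : x ≠ 1 := fun h => by
  rw [h, orderOf_one] at hx; norm_num at hx

theorem order_two {x : G} (hx : x * x = 1) (h1 : x ≠ 1) : orderOf x = 2 :=
  orderOf_eq_prime (by rw [pow_two]; exact hx) h1

theorem inv_eq_self {x : G} (hx : orderOf x = 2) : x⁻¹ = x :=
  inv_eq_of_mul_eq_one_right (mul_self_of_order_two hx)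

theorem card_subgroupOf' (C A : Subgroup G) :
    Nat.card (A.subgroupOf C) = Nat.card ↥(C ⊓ A) :=
  Nat.card_congr
    { toFun := fun g => ⟨g.1.1, g.1.2, g.2⟩
      invFun := fun g => ⟨⟨g.1, g.2.1⟩, g.2.2⟩
      left_inv := fun _ => rfl
      right_inv := fun _ => rfl }

theorem orderOf_conj_two {x : G} (g : G) (hx : orderOf x = 2) : orderOf (g * x * g⁻¹) = 2 :=
  order_two (by
    calc g * x * g⁻¹ * (g * x * g⁻¹) = g * (x * x) * g⁻¹ := by group
      _ = 1 := by rw [mul_self_of_order_two hx]; group) fun e =>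
    ne_one_of_order_two hx (conj_eq_one_iff.1 e)

/-- Orbit counting for a subgroup transitive on the ordered pairs from a set. -/
theorem card_of_pair_orbit [Finite G] [Finite Ω] (C : Subgroup G) {a b : Ω} (hab : a ≠ b) {S : Set Ω}
    (ha : a ∈ S) (hb : b ∈ S) (hS : ∀ g ∈ C, ∀ x ∈ S, g • x ∈ S)
    (htr : ∀ c ∈ S, ∀ d ∈ S, c ≠ d → ∃ g ∈ C, g • a = c ∧ g • b = d) :
    Nat.card C = S.ncard * (S.ncard - 1) * Nat.card ↥(C ⊓ (stabilizer G a ⊓ stabilizer G b)) := by
  classical
  have horb : orbit C (a, b) = S.offDiag := by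
    ext ⟨c, d⟩
    constructor
    · rintro ⟨g, hg⟩
      obtain ⟨e1, e2⟩ := Prod.ext_iff.1 hg
      exact ⟨by rw [← e1]; exact hS _ g.2 a ha, by rw [← e2]; exact hS _ g.2 b hb,
        by rw [← e1, ← e2]; exact fun e => hab (MulAction.injective (g : G) e)⟩
    · rintro ⟨hc, hd, hne⟩
      obtain ⟨g, hg, e1, e2⟩ := htr c hc d hd hne
      exact ⟨⟨g, hg⟩, Prod.ext e1 e2⟩
  have hst : stabilizer C (a, b) = (stabilizer G a ⊓ stabilizer G b).subgroupOf C := by
    ext g
    simp only [mem_stabilizer_iff, Prod.ext_iff, Prod.smul_fst, Prod.smul_snd, Subgroup.mem_subgroupOf,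
      Subgroup.mem_inf]
    rfl
  have h := (stabilizer C (a, b)).index_mul_card
  rw [index_stabilizer, horb, hst, card_subgroupOf'] at h
  rw [← h, show (S.offDiag).ncard = S.ncard * (S.ncard - 1) by
    have e : S.offDiag = ↑(S.toFinite.toFinset.offDiag) := by simp
    rw [e, Set.ncard_coe_finset, Finset.offDiag_card, ← Set.ncard_eq_toFinset_card S, Nat.mul_sub,
      mul_one]]

/-- Orbit counting for a subgroup fixing `a` and transitive on the rest of a set. -/
theorem card_of_point_orbit [Finite G] [Finite Ω] (C : Subgroup G) {a b : Ω} (hab : a ≠ b) {S : Set Ω}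
    (ha : a ∈ S) (hb : b ∈ S) (hCa : ∀ g ∈ C, g • a = a) (hS : ∀ g ∈ C, ∀ x ∈ S, g • x ∈ S)
    (htr : ∀ c ∈ S, c ≠ a → ∃ g ∈ C, g • b = c) :
    Nat.card C = (S.ncard - 1) * Nat.card ↥(C ⊓ (stabilizer G a ⊓ stabilizer G b)) := by
  classical
  have horb : orbit C b = S \ {a} := by
    ext c
    constructor
    · rintro ⟨g, rfl⟩
      refine ⟨hS _ g.2 b hb, fun e => hab ?_⟩
      have e' : (g : G) • b = (g : G) • a := by rw [hCa _ g.2]; exact e
      exact (MulAction.injective (g : G) e').symm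
    · rintro ⟨hc, hne⟩
      obtain ⟨g, hg, e⟩ := htr c hc hne
      exact ⟨⟨g, hg⟩, e⟩
  have hst : stabilizer C b = (stabilizer G a ⊓ stabilizer G b).subgroupOf C := by
    ext g
    simp only [mem_stabilizer_iff, Subgroup.mem_subgroupOf, Subgroup.mem_inf]
    exact ⟨fun e => ⟨hCa _ g.2, e⟩, fun e => e.2⟩
  have h := (stabilizer C b).index_mul_card
  rw [index_stabilizer, horb, hst, card_subgroupOf', Set.ncard_sdiff_singleton_of_mem ha] at h
  exact h.symm

namespace Hyp

variable (h : Hyp G Ω)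
include h

theorem pretrans : IsPretransitive G Ω :=
  isPretransitive_of_is_two_pretransitive (h2 := h.two)

theorem card_pair_stab {c d : Ω} (hcd : c ≠ d) :
    Nat.card ↥(stabilizer G c ⊓ stabilizer G d) = 60 := by
  obtain ⟨e⟩ := h.stab c d hcd
  rw [Nat.card_congr e.toEquiv, card_alt5]

theorem eq_one_of_fix {g : G} (hg : ∀ x : Ω, g • x = x) : g = 1 :=
  haveI := h.faith
  eq_of_smul_eq_smul (α := Ω) fun x => by rw [hg, one_smul]

theorem isConj_pair {c d : Ω} (hcd : c ≠ d) {x y : G} (hx : orderOf x = 2) (hy : orderOf y = 2)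
    (hxc : x • c = c) (hxd : x • d = d) (hyc : y • c = c) (hyd : y • d = d) :
    ∃ g : G, g • c = c ∧ g • d = d ∧ g * x * g⁻¹ = y := by
  obtain ⟨e⟩ := h.stab c d hcd
  let xH : ↥(stabilizer G c ⊓ stabilizer G d) := ⟨x, hxc, hxd⟩
  let yH : ↥(stabilizer G c ⊓ stabilizer G d) := ⟨y, hyc, hyd⟩
  obtain ⟨g, hg⟩ := isConj_iff.1 (isConj_invol e (x := xH) (y := yH)
    (Subtype.ext (mul_self_of_order_two hx)) (fun e => ne_one_of_order_two hx (congrArg Subtype.val e))
    (Subtype.ext (mul_self_of_order_two hy)) (fun e => ne_one_of_order_two hy (congrArg Subtype.val e)))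
  exact ⟨g, g.2.1, g.2.2, congrArg Subtype.val hg⟩

/-- Involutions fixing two points each are conjugate. -/
theorem isConj_fix_two {x y : G} (hx : orderOf x = 2) (hy : orderOf y = 2) {c d c' d' : Ω}
    (hcd : c ≠ d) (hxc : x • c = c) (hxd : x • d = d) (hcd' : c' ≠ d') (hyc : y • c' = c')
    (hyd : y • d' = d') : ∃ g : G, g • c = c' ∧ g • d = d' ∧ g * x * g⁻¹ = y := by
  obtain ⟨g, hgc, hgd⟩ := exists_smul_pair h.two hcd hcd'
  obtain ⟨k, hkc, hkd, hk⟩ := h.isConj_pair hcd' (x := g * x * g⁻¹) (y := y)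
    (orderOf_conj_two g hx) hy
    (by rw [mul_smul, mul_smul, ← hgc, inv_smul_smul, hxc])
    (by rw [mul_smul, mul_smul, ← hgd, inv_smul_smul, hxd]) hyc hyd
  refine ⟨k * g, by rw [mul_smul, hgc, hkc], by rw [mul_smul, hgd, hkd], ?_⟩
  rw [← hk]; group

end Hyp

namespace Base

variable (h : Hyp G Ω) (B : Base G Ω)

/-- The two-point stabiliser. -/
def H : Subgroup G := stabilizer G B.a ⊓ stabilizer G B.b

/-- The fixed points of the first involution. -/
def F : Set Ω := fixedBy Ω B.t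

/-- The fixed points of the four group. -/
def FV : Set Ω := fixedBy Ω B.t ∩ fixedBy Ω B.v

/-- Their number for the involution. -/
noncomputable def m : ℕ := B.F.ncard

/-- Their number for the four group. -/
noncomputable def k : ℕ := B.FV.ncard

theorem ha : B.a ∈ B.F := B.hta
theorem hb : B.b ∈ B.F := B.htb
theorem haV : B.a ∈ B.FV := ⟨B.hta, B.hva⟩
theorem hbV : B.b ∈ B.FV := ⟨B.htb, B.hvb⟩

theorem tv_ne_one : B.t * B.v ≠ 1 := fun e =>
  B.hne (by rw [← inv_eq_self B.hv]; exact eq_inv_of_mul_eq_one_left e)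

theorem orderOf_tv : orderOf (B.t * B.v) = 2 :=
  order_two (by rw [Commute.mul_mul_mul_comm B.hcomm.symm, mul_self_of_order_two B.ht,
    mul_self_of_order_two B.hv, mul_one]) B.tv_ne_one

theorem two_le_k [Finite Ω] : 2 ≤ B.k := by
  have : ({B.a, B.b} : Set Ω) ⊆ B.FV := Set.insert_subset B.haV (Set.singleton_subset_iff.2 B.hbV)
  have h1 := Set.ncard_le_ncard this (Set.toFinite _)
  rwa [Set.ncard_pair B.hab] at h1

theorem k_le_m [Finite Ω] : B.k ≤ B.m := Set.ncard_le_ncard Set.inter_subset_left (Set.toFinite _)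

theorem two_le_m [Finite Ω] : 2 ≤ B.m := B.two_le_k.trans B.k_le_m

include h

/-- The centraliser of `t` in a two-point stabiliser of its fixed points, given a second involution. -/
theorem cases_of_fix {c d : Ω} (hcd : c ≠ d) (htc : B.t • c = c) (htd : B.t • d = d)
    (hvc : B.v • c = c) (hvd : B.v • d = d) {g : G} (hgc : g • c = c) (hgd : g • d = d)
    (hgt : Commute g B.t) : g = 1 ∨ g = B.t ∨ g = B.v ∨ g = B.t * B.v := by
  obtain ⟨e⟩ := h.stab c d hcd
  rcases centralizer_cases e (x := ⟨B.t, htc, htd⟩) (y := ⟨B.v, hvc, hvd⟩) (z := ⟨g, hgc, hgd⟩)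
    (Subtype.ext (mul_self_of_order_two B.ht))
    (fun e => ne_one_of_order_two B.ht (congrArg Subtype.val e))
    (Subtype.ext (mul_self_of_order_two B.hv))
    (fun e => ne_one_of_order_two B.hv (congrArg Subtype.val e))
    (fun e => B.hne (congrArg Subtype.val e)) (Subtype.ext B.hcomm.eq) (Subtype.ext hgt.eq)
    with r | r | r | r
  · exact Or.inl (congrArg Subtype.val r)
  · exact Or.inr (Or.inl (congrArg Subtype.val r))
  · exact Or.inr (Or.inr (Or.inl (congrArg Subtype.val r)))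
  · exact Or.inr (Or.inr (Or.inr (congrArg Subtype.val r)))

/-- The centraliser of `t` is transitive on pairs of fixed points of `t`. -/
theorem move {c d : Ω} (hc : c ∈ B.F) (hd : d ∈ B.F) (hcd : c ≠ d) :
    ∃ g : G, Commute g B.t ∧ g • B.a = c ∧ g • B.b = d := by
  obtain ⟨g, h1, h2, h3⟩ := h.isConj_fix_two B.ht B.ht B.hab B.hta B.htb hcd hc hd
  exact ⟨g, mul_inv_eq_iff_eq_mul.1 h3, h1, h2⟩

theorem isConj_t {s : G} (hs : orderOf s = 2) {c d : Ω} (hcd : c ≠ d) (hc : s • c = c)
    (hd : s • d = d) : IsConj B.t s := by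
  obtain ⟨g, -, -, hg⟩ := h.isConj_fix_two B.ht hs B.hab B.hta B.htb hcd hc hd
  exact isConj_iff.2 ⟨g, hg⟩

/-- Inside the centraliser of `t`, moving inside the fixed points of the four group preserves it. -/
theorem conj_v {g : G} (hg : Commute g B.t) (hga : g • B.a ∈ B.FV) (hgb : g • B.b ∈ B.FV) :
    g * B.v * g⁻¹ = B.v ∨ g * B.v * g⁻¹ = B.t * B.v := by
  have hne : g • B.a ≠ g • B.b := fun e => B.hab (MulAction.injective g e)
  have ho : orderOf (g * B.v * g⁻¹) = 2 := orderOf_conj_two g B.hv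
  rcases B.cases_of_fix h hne hga.1 hgb.1 hga.2 hgb.2 (g := g * B.v * g⁻¹)
    (by rw [mul_smul, mul_smul, inv_smul_smul, B.hva])
    (by rw [mul_smul, mul_smul, inv_smul_smul, B.hvb])
    (((hg.mul_left B.hcomm.symm).mul_left hg.inv_left)) with r | r | r | r
  · exact absurd r (ne_one_of_order_two ho)
  · exfalso
    refine B.hne ?_
    have : g * B.v * g⁻¹ = g * B.t * g⁻¹ := by rw [r, hg.eq, mul_inv_cancel_right]
    exact (mul_left_cancel (mul_right_cancel this)).symm
  · exact Or.inl r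
  · exact Or.inr r

theorem moveV {c d : Ω} (hc : c ∈ B.FV) (hd : d ∈ B.FV) (hcd : c ≠ d) :
    ∃ g : G, Commute g B.t ∧ (g * B.v * g⁻¹ = B.v ∨ g * B.v * g⁻¹ = B.t * B.v) ∧
      g • B.a = c ∧ g • B.b = d := by
  obtain ⟨g, h1, h2, h3⟩ := B.move h hc.1 hd.1 hcd
  exact ⟨g, h1, B.conj_v h h1 (h2 ▸ hc) (h3 ▸ hd), h2, h3⟩

theorem card_inf_four [Finite G] (C : Subgroup G)
    (hC : ∀ g ∈ C, Commute g B.t) (ht : B.t ∈ C) (hv : B.v ∈ C) :
    Nat.card ↥(C ⊓ (stabilizer G B.a ⊓ stabilizer G B.b)) = 4 := by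
  classical
  have hset : ((C ⊓ (stabilizer G B.a ⊓ stabilizer G B.b) : Subgroup G) : Set G) =
      ↑({1, B.t, B.v, B.t * B.v} : Finset G) := by
    ext g
    simp only [SetLike.mem_coe, Subgroup.mem_inf, mem_stabilizer_iff, Finset.coe_insert,
      Finset.coe_singleton, Set.mem_insert_iff, Set.mem_singleton_iff]
    constructor
    · rintro ⟨hg, hga, hgb⟩
      exact B.cases_of_fix h B.hab B.hta B.htb B.hva B.hvb hga hgb (hC g hg)
    · rintro (rfl | rfl | rfl | rfl)
      · exact ⟨one_mem _, one_smul _ _, one_smul _ _⟩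
      · exact ⟨ht, B.hta, B.htb⟩
      · exact ⟨hv, B.hva, B.hvb⟩
      · exact ⟨mul_mem ht hv, by rw [mul_smul, B.hva, B.hta], by rw [mul_smul, B.hvb, B.htb]⟩
  rw [← SetLike.coe_sort_coe, hset, Nat.card_coe_set_eq, Set.ncard_coe_finset]
  have h1 := ne_one_of_order_two B.ht
  have h2 := ne_one_of_order_two B.hv
  rw [Finset.card_insert_of_notMem, Finset.card_insert_of_notMem, Finset.card_pair]
  · exact fun e => h1 (mul_eq_right.1 e.symm)
  · simp only [Finset.mem_insert, Finset.mem_singleton, not_or]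
    exact ⟨B.hne, fun e => h2 (mul_eq_left.1 e.symm)⟩
  · simp only [Finset.mem_insert, Finset.mem_singleton, not_or]
    exact ⟨h1.symm, h2.symm, B.tv_ne_one.symm⟩

/-- The order of the centraliser of `t`. -/
theorem card_cent [Finite G] [Finite Ω] :
    Nat.card (Subgroup.centralizer ({B.t} : Set G)) = B.m * (B.m - 1) * 4 := by
  rw [← B.card_inf_four h (Subgroup.centralizer ({B.t} : Set G))
    (fun g hg => Subgroup.mem_centralizer_singleton_iff.1 hg)
    (Subgroup.mem_centralizer_singleton_iff.2 rfl) (Subgroup.mem_centralizer_singleton_iff.2 B.hcomm.symm.eq)]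
  refine card_of_pair_orbit _ B.hab B.ha B.hb (fun g hg x hx => ?_) fun c hc d hd hcd => ?_
  · have hgt : Commute g B.t := Subgroup.mem_centralizer_singleton_iff.1 hg
    show B.t • g • x = g • x
    rw [← mul_smul, ← hgt.eq, mul_smul, hx]
  · obtain ⟨g, h1, h2, h3⟩ := B.move h hc hd hcd
    exact ⟨g, Subgroup.mem_centralizer_singleton_iff.2 h1.eq, h2, h3⟩

end Base

namespace Hyp

variable (h : Hyp G Ω)
include h

theorem natCard_group [Finite G] [Fintype Ω] {a b : Ω} (hab : a ≠ b) :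
    Nat.card G = Fintype.card Ω * (Fintype.card Ω - 1) * 60 := by
  have h1 := card_of_pair_orbit (G := G) (⊤ : Subgroup G) hab (S := Set.univ) trivial trivial
    (fun _ _ _ _ => trivial) fun c _ d _ hcd => by
      obtain ⟨g, hg⟩ := exists_smul_pair h.two hab hcd
      exact ⟨g, trivial, hg⟩
  rwa [Subgroup.card_top, top_inf_eq, Set.ncard_univ, Nat.card_eq_fintype_card (α := Ω),
    h.card_pair_stab hab] at h1

theorem card_stab [Finite G] [Fintype Ω] {a b : Ω} (hab : a ≠ b) :
    Nat.card (stabilizer G a) = (Fintype.card Ω - 1) * 60 := by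
  have h1 := card_of_point_orbit (G := G) (stabilizer G a) hab (S := Set.univ) trivial trivial
    (fun _ hg => hg) (fun _ _ _ _ => trivial) fun c _ hc => by
      obtain ⟨g, hga, hgb⟩ := exists_smul_pair h.two hab (Ne.symm hc)
      exact ⟨g, hga, hgb⟩
  rwa [← inf_assoc, inf_idem, Set.ncard_univ, Nat.card_eq_fintype_card (α := Ω),
    h.card_pair_stab hab] at h1

/-- Some base exists. -/
theorem exists_base {a b : Ω} (hab : a ≠ b) : ∃ B : Base G Ω, B.a = a ∧ B.b = b := by
  obtain ⟨e⟩ := h.stab a b hab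
  obtain ⟨x, hx⟩ : ∃ x : ↥(stabilizer G a ⊓ stabilizer G b), e x = qa := ⟨e.symm qa, e.apply_symm_apply _⟩
  have hx2 : x * x = 1 := e.injective (by rw [map_mul, hx, map_one]; decide +kernel)
  have hx1 : x ≠ 1 := fun h1 => by
    have hne : qa ≠ 1 := by decide +kernel
    exact hne (by rw [← hx, h1, map_one])
  obtain ⟨y, hy2, hy1, hne, hc⟩ := exists_second_of_iso e hx2 hx1
  exact ⟨⟨a, b, x.1, y.1, hab, order_two (congrArg Subtype.val hx2) (fun h1 => hx1 (Subtype.ext h1)),
    order_two (congrArg Subtype.val hy2) (fun h1 => hy1 (Subtype.ext h1)),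
    fun h1 => hne (Subtype.ext h1).symm, congrArg Subtype.val hc, x.2.1, x.2.2, y.2.1, y.2.2⟩,
    rfl, rfl⟩

/-- No nontrivial normal subgroup of odd order. -/
theorem odd_normal [Finite G] {N : Subgroup G} (hN : N.Normal) (ho : Odd (Nat.card N)) : N = ⊥ := by
  classical
  by_contra hne
  haveI := h.faith
  haveI := h.pretrans
  haveI : IsPreprimitive G Ω := isPreprimitive_of_is_two_pretransitive h.two
  haveI hs : Group.IsSolvable N := Cfsg.Agent.S0205.result ho
  obtain ⟨n, hn⟩ := hs.solvable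
  have hex : ∃ i, derivedSeries N i = ⊥ := ⟨n, hn⟩
  set i := Nat.find hex with hi
  have hi0 : i ≠ 0 := fun h0 => by
    have h1 := Nat.find_spec hex
    rw [← hi, h0, derivedSeries_zero] at h1
    refine hne ((Subgroup.eq_bot_iff_forall _).2 fun x hx => ?_)
    have h2 : (⟨x, hx⟩ : N) ∈ (⊥ : Subgroup N) := by rw [← h1]; exact Subgroup.mem_top _
    exact congrArg Subtype.val (Subgroup.mem_bot.1 h2)
  set A := (derivedSeries N (i - 1)).map N.subtype with hA
  haveI hAn : A.Normal := by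
    haveI := hN
    haveI : (derivedSeries N (i - 1)).Characteristic := derivedSeries_characteristic N _
    exact ConjAct.normal_of_characteristic_of_normal
  have hAne : A ≠ ⊥ := by
    rw [hA, ne_eq, Subgroup.map_eq_bot_iff_of_injective _ N.subtype_injective]
    exact Nat.find_min hex (by omega : i - 1 < Nat.find hex)
  have hcomm : ∀ x ∈ A, ∀ y ∈ A, x * y = y * x := by
    rintro _ ⟨x, hx, rfl⟩ _ ⟨y, hy, rfl⟩
    have hbot : ⁅derivedSeries N (i - 1), derivedSeries N (i - 1)⁆ = ⊥ := by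
      rw [← derivedSeries_succ, show i - 1 + 1 = i by omega]; exact Nat.find_spec hex
    rw [← map_mul, ← map_mul, commutatorElement_eq_one_iff_mul_comm.1
      (Subgroup.mem_bot.1 (hbot ▸ Subgroup.commutator_mem_commutator hx hy))]
  haveI : IsPretransitive A Ω := CfsgLib.Perm.normal_isPretransitive hAne
  refine h.noreg A hAn inferInstance fun x => (Subgroup.eq_bot_iff_forall _).2 fun g hg => ?_
  apply Subtype.ext
  refine h.eq_one_of_fix fun y => ?_
  obtain ⟨q, rfl⟩ := exists_smul_eq A x y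
  rw [Subgroup.smul_def, ← mul_smul, hcomm _ g.2 _ q.2, mul_smul]
  exact congrArg _ hg

end Hyp

end CfsgLib.Perm.TwoPointFive
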